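import Cfsg.Agent.Lib.Modular.BrauerBlocks
import Cfsg.Agent.Lib.Blocks.Counting

/-!
A character of defect zero reduces to an irreducible Brauer character.
-/

set_option autoImplicit false
set_option linter.unusedSectionVars false
set_option linter.style.haveILetI false

namespace CfsgLib.BrauerChar

open Cfsg Module CfsgLib.Modular
open CfsgLib.BlockOrth (pPrimePart degVal)
open scoped ComplexConjugate

universe u

variable {p : ℕ} [hp : Fact p.Prime] {V : ValuationSubring ℂ} [CharP (Res V) p]
variable {G : Type u} [Group G] [Finite G] {M : Ideal AlgInt} [M.IsPrime]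

/-- a character of defect zero vanishes on singular elements -/
theorem defect_zero_apply (hpM : (p : AlgInt) ∈ M) (χ : IrrCharacter G)
    (hdeg : degVal p χ = (Nat.card G).factorization p) {g : G} (hg : ¬ IsPRegular p g) :
    (χ : G → ℂ) g = 0 := by
  letI := Fintype.ofFinite G
  obtain ⟨-, h⟩ := Blocks.relative_defect_zero hpM (D := ⊥) IsPGroup.of_bot bot_le χ
    (by rw [hdeg, Subgroup.index_bot])
  have hy := BlockOrth.isPPrimePart_pPrimePart (p := p) g
  refine h g _ hy.isPPart fun hmem => hg ?_
  rw [Subgroup.mem_bot, mul_inv_eq_one] at hmem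
  rw [IsPRegular, hmem]
  exact BlockOrth.not_dvd_orderOf_pPrimePart g

/-- **the reduction of a character of defect zero is simple** -/
theorem exists_simple_of_defect_zero (hV : IsPlaceOver p M V) (hpM : (p : AlgInt) ∈ M)
    (χ : IrrCharacter G) (hdeg : degVal p χ = (Nat.card G).factorization p) :
    ∃ s : ColRep V G, IsSimpleRep s.2 ∧ bch p s.2 = (χ : G → ℂ) := by
  classical
  letI := Fintype.ofFinite G
  haveI := Chars.irrFintype G
  set B := blockOf M (χ : G → ℂ) with hBdef
  have hB : IsPBlock M B := Blocks.isPBlock_blockOf χ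
  have hD : IsPGroup p (⊥ : Subgroup G) := IsPGroup.of_bot
  have hdeg' : degVal p χ = (⊥ : Subgroup G).index.factorization p := by
    rw [hdeg, Subgroup.index_bot]
  have hone : ∀ ψ ∈ B, ψ = χ := by
    intro ψ hψ
    have h1 : ∀ y : G, IsPRegular p y → (ψ : G → ℂ) y = (χ : G → ℂ) y := fun y hy =>
      Blocks.eq_on_regular_of_relative_defect_zero hpM hD bot_le hdeg' hψ hy
    have hψd : degVal p ψ = (Nat.card G).factorization p := by
      have := h1 1 (by simp [IsPRegular, hp.out.one_lt.ne'])
      rw [BlockOrth.irr_apply_one, BlockOrth.irr_apply_one, Nat.cast_inj] at this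
      rw [degVal, this, ← hdeg, degVal]
    refine Subtype.ext (funext fun g => ?_)
    by_cases hg : IsPRegular p g
    · exact h1 g hg
    · rw [defect_zero_apply hpM ψ hψd hg, defect_zero_apply hpM χ hdeg hg]
  have hreg : pRegularPart p (χ : G → ℂ) = (χ : G → ℂ) := funext fun g => by
    unfold pRegularPart
    split_ifs with hg
    · rfl
    · exact (defect_zero_apply hpM χ hdeg hg).symm
  have hsum := pRegularPart_eq_sum_dec hV χ
  rw [hreg] at hsum
  -- the block has only one simple module
  set S := (finite_simpleChars (p := p) (V := V) (G := G)).toFinset with hS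
  have hne : (χ : G → ℂ) ≠ 0 := fun e => Chars.irr_degree_ne_zero χ.2 (congrFun e 1)
  obtain ⟨φ, hφS, hφ0⟩ : ∃ φ ∈ S, dec hV χ φ ≠ 0 := by
    by_contra hno
    simp only [not_exists, not_and, not_not] at hno
    exact hne (hsum.trans (Finset.sum_eq_zero fun φ hφ => by rw [hno φ hφ]; simp))
  have hφB := dec_ne_zero_mem hV hφ0
  obtain ⟨s, hs, hsφ⟩ := blockSimples_subset hV B hφB
  -- it is a multiple of the character
  obtain ⟨a, ha⟩ : ∃ a : ℂ, φ = a • (χ : G → ℂ) := by
    have h1 : φ ∈ Submodule.span ℂ (blockSimples hV B) := Submodule.subset_span hφB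
    rw [span_blockSimples hV hB] at h1
    have h2 : ((fun ψ : IrrCharacter G => pRegularPart p (ψ : G → ℂ)) '' B) ⊆ {(χ : G → ℂ)} := by
      rintro _ ⟨ψ, hψ, rfl⟩
      rw [hone ψ hψ]
      exact hreg
    obtain ⟨a, ha⟩ := Submodule.mem_span_singleton.1 (Submodule.span_mono h2 h1)
    exact ⟨a, ha.symm⟩
  refine ⟨s, hs, ?_⟩
  -- the decomposition number inverts it
  set m := dec hV χ φ with hm
  have hφne : φ ≠ 0 := by
    intro e
    have h := (linearIndepOn_simpleChars (p := p) (V := V) (G := G)).ne_zero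
      (i := φ) (blockSimples_subset hV B hφB)
    exact h e
  have ha0 : a ≠ 0 := fun e => hφne (by rw [ha, e, zero_smul])
  have hma : (m : ℂ) * a = 1 := by
    have h1 : ∀ ψ ∈ S, ψ ≠ φ → dec hV χ ψ = 0 := by
      intro ψ hψ hne'
      by_contra h0
      have hψB := dec_ne_zero_mem hV h0
      have h1 : ψ ∈ Submodule.span ℂ (simpleChars p V G \ {ψ}) := by
        have h2 : ψ ∈ Submodule.span ℂ (blockSimples hV B) := Submodule.subset_span hψB
        rw [span_blockSimples hV hB] at h2
        refine Submodule.span_le.2 ?_ h2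
        rintro _ ⟨θ, hθ, rfl⟩
        show pRegularPart p (θ : G → ℂ) ∈ _
        rw [hone θ hθ, hreg, show (χ : G → ℂ) = a⁻¹ • φ by rw [ha, smul_smul, inv_mul_cancel₀ ha0, one_smul]]
        exact Submodule.smul_mem _ _ (Submodule.subset_span
          ⟨blockSimples_subset hV B hφB, fun e => hne' e.symm⟩)
      have h := (linearIndepOn_simpleChars (p := p) (V := V) (G := G)).notMem_span
        (blockSimples_subset hV B hψB)
      rw [Set.image_id] at h
      exact h h1
    rw [Finset.sum_eq_single φ (fun ψ hψ hne' => by rw [h1 ψ hψ hne']; simp)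
      (fun h => absurd hφS h), ← hm, ha, smul_smul] at hsum
    refine (smul_left_injective ℂ hne ?_).symm
    simpa using hsum
  -- and the multiplier is an integer
  obtain ⟨χ₁, χ₂, hc₁, hc₂, he⟩ := isGeneralized_bch hV s
  obtain ⟨n₁, hn₁⟩ := Chars.inner_char_nat hc₁ (Chars.isCharacter_of_irr χ.2)
  obtain ⟨n₂, hn₂⟩ := Chars.inner_char_nat hc₂ (Chars.isCharacter_of_irr χ.2)
  have hinner : classInner (fun g => bch p s.2 (pPrimePart p g)) (χ : G → ℂ) = a := by
    rw [← mul_one a, ← Chars.inner_irr_self χ, ← Chars.inner_smul_left]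
    rw [Chars.inner_def, Chars.inner_def]
    congr 1
    refine Finset.sum_congr rfl fun g _ => ?_
    by_cases hg : IsPRegular p g
    · rw [BlockOrth.pPrimePart_of_regular hg, hsφ, ha]
    · rw [defect_zero_apply hpM χ hdeg hg, map_zero, mul_zero, mul_zero]
  rw [he, Chars.inner_sub_left, hn₁, hn₂] at hinner
  have hZ : ((m : ℤ) * ((n₁ : ℤ) - n₂)) = 1 := by
    have : ((m : ℂ) * ((n₁ : ℂ) - n₂)) = 1 := by rw [hinner]; exact hma
    exact_mod_cast this
  have hm1 : m = 1 := by
    rcases Int.mul_eq_one_iff_eq_one_or_neg_one.1 hZ with ⟨h, -⟩ | ⟨h, -⟩ <;> omega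
  rw [hsφ, ha, show a = 1 by rw [← hma, hm1]; simp, one_smul]

end CfsgLib.BrauerChar
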