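import Cfsg.Agent.Lib.Modular.BrauerBlocks

/-!
There are as many irreducible Brauer characters as classes of `p`-regular elements.
-/

set_option autoImplicit false
set_option linter.unusedSectionVars false
set_option linter.style.haveILetI false

namespace CfsgLib.BrauerChar

open Cfsg Module CfsgLib.Modular

universe u

variable {p : ℕ} [hp : Fact p.Prime] {V : ValuationSubring ℂ} [CharP (Res V) p]
variable {G : Type u} [Group G] [Finite G] {M : Ideal AlgInt} [M.IsPrime]

/-- **Brauer: the irreducible Brauer characters are as many as the `p`-regular classes.** -/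
theorem card_simpleChars (hV : IsPlaceOver p M V) :
    Nat.card {C : ConjClasses G // ∃ g, ConjClasses.mk g = C ∧ IsPRegular p g} =
      (finite_simpleChars (p := p) (V := V) (G := G)).toFinset.card := by
  classical
  letI := Fintype.ofFinite G
  haveI := Chars.irrFintype G
  haveI : Fintype (ConjClasses G) := Fintype.ofFinite _
  set P : ConjClasses G → Prop := fun C => ∃ g, ConjClasses.mk g = C ∧ IsPRegular p g
  have hP : ∀ g : G, P (ConjClasses.mk g) ↔ IsPRegular p g := by
    refine fun g => ⟨fun ⟨x, hx, hr⟩ => ?_, fun hr => ⟨g, rfl, hr⟩⟩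
    obtain ⟨c, rfl⟩ := isConj_iff.1 (ConjClasses.mk_eq_mk_iff_isConj.1 hx)
    rw [IsPRegular, show c * x * c⁻¹ = MulAut.conj c x from rfl, MulEquiv.orderOf_eq]
    exact hr
  let E : ({C // P C} → ℂ) →ₗ[ℂ] (G → ℂ) :=
    { toFun := fun F g => if h : P (ConjClasses.mk g) then F ⟨_, h⟩ else 0
      map_add' := fun a b => funext fun g => by simp only [Pi.add_apply]; split <;> simp
      map_smul' := fun c a => funext fun g => by
        simp only [Pi.smul_apply, RingHom.id_apply]; split <;> simp }
  have hE : Function.Injective E := by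
    intro a b hab
    funext ⟨C, hC⟩
    obtain ⟨g, rfl, hg⟩ := hC
    have := congrFun hab g
    simpa [E, (hP g).2 hg] using this
  have hmem : ∀ φ : G → ℂ, IsClassFunction G φ → (∀ g, ¬ IsPRegular p g → φ g = 0) →
      φ ∈ LinearMap.range E := by
    intro φ hφ h0
    refine ⟨fun C => φ C.1.out, funext fun g => ?_⟩
    show (if h : P (ConjClasses.mk g) then φ (ConjClasses.mk g).out else 0) = φ g
    split_ifs with h
    · obtain ⟨c, hc⟩ := isConj_iff.1 (ConjClasses.mk_eq_mk_iff_isConj.1
        (Quotient.out_eq (ConjClasses.mk g)))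
      exact ((hφ _ c).symm.trans (congrArg φ hc))
    · exact (h0 g fun hr => h ((hP g).2 hr)).symm
  have hspan : Submodule.span ℂ (simpleChars p V G) = LinearMap.range E := by
    refine le_antisymm (Submodule.span_le.2 fun φ hφ =>
      hmem φ (bch_isClassFunction hφ) fun g hg => eq_zero_of_not_regular hφ hg) ?_
    rintro _ ⟨a, rfl⟩
    have hcl : IsClassFunction G (E a) := fun g h => by
      show (if h' : P (ConjClasses.mk (h * g * h⁻¹)) then a ⟨_, h'⟩ else 0) = _
      have e : ConjClasses.mk (h * g * h⁻¹) = ConjClasses.mk g :=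
        ConjClasses.mk_eq_mk_iff_isConj.2 (isConj_iff.2 ⟨h, rfl⟩).symm
      simp only [E, LinearMap.coe_mk, AddHom.coe_mk, e]
    have he : pRegularPart p (E a) = E a := funext fun g => by
      unfold pRegularPart
      split_ifs with h
      · rfl
      · show (0 : ℂ) = if h' : P (ConjClasses.mk g) then a ⟨_, h'⟩ else 0
        rw [dif_neg fun h' => h ((hP g).1 h')]
    rw [← he, pRegularPart_combination (p := p) _ (Chars.classFun_eq_sum hcl)]
    refine Submodule.sum_mem _ fun χ _ => Submodule.smul_mem _ _ ?_
    rw [pRegularPart_eq_sum_dec hV χ]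
    exact Submodule.sum_mem _ fun φ hφ =>
      Submodule.smul_mem _ _ (Submodule.subset_span ((Set.Finite.mem_toFinset _).1 hφ))
  haveI := (finite_simpleChars (p := p) (V := V) (G := G)).fintype
  have h1 := finrank_span_set_eq_card (linearIndepOn_simpleChars (p := p) (V := V) (G := G))
  rw [hspan, LinearMap.finrank_range_of_inj hE, Module.finrank_fintype_fun_eq_card] at h1
  rw [Nat.card_eq_fintype_card, h1, Set.Finite.toFinset_eq_toFinset]

end CfsgLib.BrauerChar
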