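import Cfsg.Agent.Lib.Modular.SimpleRep
import Cfsg.Agent.Lib.Blocks.RegularTwist
import Cfsg.Agent.Lib.Blocks.StarFun
import Cfsg.Agent.Lib.Blocks.RootLift
import Cfsg.Agent.Lib.Blocks.Center
import Cfsg.Agent.Lib.Blocks.Osima

/-!
# Simple modules of a block are no more than its rank
-/

set_option linter.unusedSectionVars false
set_option linter.style.haveILetI false

namespace CfsgLib.Modular

open Cfsg Blocks BlockOrth Chars Finset

variable {G : Type*} [Group G] [Fintype G] {M : Ideal AlgInt} [M.IsPrime]
  {V W : Type*} [AddCommGroup V] [Module (ResField M) V] [AddCommGroup W] [Module (ResField M) W]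

/-- The operator of a function on the group. -/
def opOf {k : Type*} [Field k] {U : Type*} [AddCommGroup U] [Module k U]
    (ρ : Representation k G U) (a : G → k) : Module.End k U :=
  ∑ g, a g • ρ g

/-- The reduction of a locally integral function. -/
noncomputable def redF (a : G → ℂ) (ha : ∀ g, a g ∈ loc M) (g : G) : ResField M := red ⟨a g, ha g⟩

theorem opOf_apply {k : Type*} [Field k] {U : Type*} [AddCommGroup U] [Module k U]
    (ρ : Representation k G U) (a : G → k) (v : U) : opOf ρ a v = ∑ g, a g • ρ g v := by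
  simp [opOf, LinearMap.sum_apply]

theorem opOf_comm {k : Type*} [Field k] {U : Type*} [AddCommGroup U] [Module k U]
    (ρ : Representation k G U) {a : G → k} (ha : ∀ g x, a (g * x * g⁻¹) = a x) (g : G) :
    opOf ρ a * ρ g = ρ g * opOf ρ a := by
  simp only [opOf, Finset.sum_mul, Finset.mul_sum, smul_mul_assoc, mul_smul_comm, ← map_mul]
  refine Fintype.sum_equiv (MulAut.conj g⁻¹).toEquiv _ _ fun x => ?_
  show a x • ρ (x * g) = a (g⁻¹ * x * g⁻¹⁻¹) • ρ (g * (g⁻¹ * x * g⁻¹⁻¹))
  rw [ha g⁻¹ x]
  congr 2
  group

theorem redF_conj {a : G → ℂ} (ha : IsLocClassFun M a) (g x : G) :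
    redF a ha.2 (g * x * g⁻¹) = redF a ha.2 x := by
  simp only [redF, ha.1 x g]

theorem opOf_mul_redF (ρ : Representation (ResField M) G V) {a b : G → ℂ} (ha : ∀ g, a g ∈ loc M)
    (hb : ∀ g, b g ∈ loc M) (hab : ∀ g, conv a b g ∈ loc M) :
    opOf ρ (redF a ha) * opOf ρ (redF b hb) = opOf ρ (redF (conv a b) hab) := by
  have h : ∀ x, redF (conv a b) hab x = ∑ y, redF a ha y * redF b hb (y⁻¹ * x) := fun x => by
    show red ⟨conv a b x, hab x⟩ = ∑ y, red ⟨a y, ha y⟩ * red ⟨b (y⁻¹ * x), hb _⟩
    have e : red (∑ y, (⟨a y, ha y⟩ * ⟨b (y⁻¹ * x), hb _⟩ : loc M)) =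
        ∑ y, red ⟨a y, ha y⟩ * red ⟨b (y⁻¹ * x), hb _⟩ := by
      rw [map_sum]; exact Finset.sum_congr rfl fun y _ => map_mul _ _ _
    rw [← e]
    congr 1
    refine Subtype.ext ?_
    push_cast
    rfl
  have h1 : ∀ y, ∑ x, (redF a ha y * redF b hb (y⁻¹ * x)) • ρ x =
      redF a ha y • (ρ y * opOf ρ (redF b hb)) := fun y => by
    rw [opOf, Finset.mul_sum, Finset.smul_sum, ← Equiv.sum_comp (Equiv.mulLeft y)]
    refine Finset.sum_congr rfl fun z _ => ?_
    rw [Equiv.coe_mulLeft, inv_mul_cancel_left, map_mul, mul_smul_comm, smul_smul]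
  calc opOf ρ (redF a ha) * opOf ρ (redF b hb)
      = ∑ y, redF a ha y • (ρ y * opOf ρ (redF b hb)) := by
        conv_lhs => rw [opOf, Finset.sum_mul]
        exact Finset.sum_congr rfl fun y _ => smul_mul_assoc _ _ _
    _ = ∑ x, ∑ y, (redF a ha y * redF b hb (y⁻¹ * x)) • ρ x := by
        rw [Finset.sum_comm]
        exact Finset.sum_congr rfl fun y _ => (h1 y).symm
    _ = _ := by
        rw [opOf]
        exact Finset.sum_congr rfl fun x _ => by rw [h x, Finset.sum_smul]

/-- The action of the idempotent of a block. -/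
noncomputable def blockOp (ρ : Representation (ResField M) G V) {B : Set (IrrCharacter G)}
    (hB : IsPBlock M B) : Module.End (ResField M) V :=
  opOf ρ (redF (blockCoeff B) (isLocClassFun_blockCoeff hB).2)

theorem blockOp_comm (ρ : Representation (ResField M) G V) {B : Set (IrrCharacter G)}
    (hB : IsPBlock M B) (g : G) : blockOp ρ hB * ρ g = ρ g * blockOp ρ hB :=
  opOf_comm ρ (redF_conj (isLocClassFun_blockCoeff hB)) g

theorem blockOp_mul_self (ρ : Representation (ResField M) G V) {B : Set (IrrCharacter G)}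
    (hB : IsPBlock M B) : blockOp ρ hB * blockOp ρ hB = blockOp ρ hB := by
  rw [blockOp, opOf_mul_redF ρ _ _ fun g => by
    rw [conv_blockCoeff_self]; exact (isLocClassFun_blockCoeff hB).2 g]
  congr 1
  funext g
  simp only [redF, conv_blockCoeff_self]

/-- **Simple modules of a block are no more than its rank.** -/
theorem card_simple_le_blockRank {p : ℕ} [Fact p.Prime] (hpM : (p : AlgInt) ∈ M)
    {B : Set (IrrCharacter G)} (hB : IsPBlock M B) {ι : Type*} [Fintype ι] {V : ι → Type*}
    [∀ i, AddCommGroup (V i)] [∀ i, Module (ResField M) (V i)]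
    [∀ i, FiniteDimensional (ResField M) (V i)] (R : ∀ i, Representation (ResField M) G (V i))
    (hR : ∀ i, IsSimpleRep (R i))
    (hne : ∀ i j, i ≠ j → ∀ f : V i →ₗ[ResField M] V j, (∀ g v, f (R i g v) = R j g (f v)) → f = 0)
    (hE : ∀ i, blockOp (R i) hB = 1) : Fintype.card ι ≤ blockRank p B := by
  classical
  haveI := charP_resField (M := M) (Fact.out : p.Prime) hpM
  haveI := irrFintype G
  have hred : Function.Surjective (red (M := M)) := IsLocalRing.residue_surjective
  -- lifts of the traces
  let tr : ι → G → ResField M := fun i g => LinearMap.trace _ (V i) (R i g)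
  have htr : ∀ i g h, tr i (h * g * h⁻¹) = tr i g := fun i g h => by
    show LinearMap.trace _ _ (R i (h * g * h⁻¹)) = _
    rw [map_mul, LinearMap.trace_mul_comm, ← map_mul, inv_mul_cancel_left]
  choose lift hlift using hred
  let F : ι → G → ℂ := fun i g => (lift (tr i (classRep (ConjClasses.mk g))) : ℂ)
  have hFloc : ∀ i g, F i g ∈ loc M := fun i g => Subtype.coe_prop _
  have hFred : ∀ i g, red ⟨F i g, hFloc i g⟩ = tr i g := fun i g => by
    show red (lift (tr i (classRep (ConjClasses.mk g)))) = _
    rw [hlift]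
    obtain ⟨c, hc⟩ := isConj_iff.1 (ConjClasses.mk_eq_mk_iff_isConj.1 (mk_classRep (ConjClasses.mk g)))
    conv_rhs => rw [← hc, htr]
  have hFclass : ∀ i, IsClassFunction G (F i) := fun i g h => by
    show (lift (tr i (classRep (ConjClasses.mk (h * g * h⁻¹)))) : ℂ) = _
    rw [ConjClasses.mk_eq_mk_iff_isConj.2 (isConj_iff.2 ⟨h⁻¹, by group⟩ : IsConj (h * g * h⁻¹) g)]
  -- their block parts
  let Gf : ι → G → ℂ := fun i => blockPart B (F i)
  have hGloc : ∀ i g, Gf i g ∈ loc M := fun i g => by
    show blockPart B (F i) g ∈ loc M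
    rw [blockPart_eq_sum B (hFclass i)]
    exact Subring.sum_mem _ fun h _ =>
      Subring.mul_mem _ ((isLocClassFun_blockCoeff hB).2 h) (hFloc i _)
  have hGred : ∀ i g, red ⟨Gf i g, hGloc i g⟩ = tr i g := by
    intro i g
    have h1 : (⟨Gf i g, hGloc i g⟩ : loc M) = ∑ h, (⟨_, (isLocClassFun_blockCoeff hB).2 h⟩ : loc M) *
        ⟨_, hFloc i (h * g)⟩ := Subtype.ext (by
      push_cast
      exact blockPart_eq_sum B (hFclass i) g)
    rw [h1, map_sum]
    simp only [map_mul, hFred]
    show ∑ h, redF (blockCoeff B) _ h * LinearMap.trace _ _ (R i (h * g)) = LinearMap.trace _ _ (R i g)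
    conv_rhs => rw [← one_mul (R i g), ← hE i, blockOp, opOf, Finset.sum_mul, map_sum]
    exact Finset.sum_congr rfl fun h _ => by
      rw [smul_mul_assoc, map_smul, ← map_mul, smul_eq_mul]
  -- the reductions on regular elements are independent
  let f : ι → {g : G // ¬ p ∣ orderOf g} → ResField M := fun i g => tr i g
  have hind : LinearIndependent (ResField M) f := by
    rw [Fintype.linearIndependent_iff]
    intro c hc
    refine congrFun (trace_independent hR hne c fun g => ?_)
    obtain ⟨hcomm, hmul⟩ := commute_pPartElt_pPrimePart (p := p) g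
    have hreg := not_dvd_orderOf_pPrimePart (p := p) g
    have h := congrFun hc ⟨pPrimePart p g, by assumption⟩
    simp only [Finset.sum_apply, Pi.smul_apply, smul_eq_mul, Pi.zero_apply] at h
    rw [← h]
    refine Finset.sum_congr rfl fun i _ => ?_
    congr 1
    conv_lhs => rw [← hmul]
    exact trace_mul_pElement (R i) hcomm (exists_pow_eq_one_pPartElt g)
  obtain ⟨L, hL⟩ := (Fintype.linearCombination (ResField M) f).exists_leftInverse_of_injective
    (LinearMap.ker_eq_bot'.2 fun c hc => funext (Fintype.linearIndependent_iff.1 hind c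
      (by simpa [Fintype.linearCombination_apply] using hc)))
  -- independence over ℂ
  let v : ι → G → ℂ := fun i => pRegularPart p (Gf i)
  have hv : LinearIndependent ℂ v := by
    rw [Fintype.linearIndependent_iff]
    intro c hc
    let A : Matrix ι ι (loc M) := fun i j => ∑ g : {g : G // ¬ p ∣ orderOf g},
      lift (L (Pi.single g 1) i) * ⟨Gf j g, hGloc j g⟩
    have hAred : A.map red = 1 := by
      ext i j
      show red (∑ g : {g : G // ¬ p ∣ orderOf g}, _) = _
      simp only [map_sum, map_mul, hlift, hGred]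
      have h1 : f j = ∑ g, tr j g.1 • (Pi.single g 1 : {g : G // ¬ p ∣ orderOf g} → ResField M) := by
        funext g
        rw [Finset.sum_apply]
        simp [f, Pi.single_apply]
      have h2 : L (f j) i = (if i = j then 1 else 0) := by
        have h3 := congrFun (LinearMap.congr_fun hL (Pi.single j 1)) i
        simpa [Fintype.linearCombination_apply, Pi.single_apply] using h3
      rw [h1, map_sum, Finset.sum_apply] at h2
      simp only [map_smul, Pi.smul_apply, smul_eq_mul] at h2
      rw [Matrix.one_apply, ← h2]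
      exact Finset.sum_congr rfl fun g _ => mul_comm _ _
    have hdet : A.det ≠ 0 := fun h => by
      have := RingHom.map_det (red (M := M)) A
      rw [h, map_zero, RingHom.mapMatrix_apply, hAred, Matrix.det_one] at this
      exact zero_ne_one this
    have hAc : (A.map (Subring.subtype (loc M))).mulVec c = 0 := by
      funext i
      show ∑ j, ((∑ g : {g : G // ¬ p ∣ orderOf g},
        lift (L (Pi.single g 1) i) * ⟨Gf j g, hGloc j g⟩ : loc M) : ℂ) * c j = 0
      push_cast
      simp only [Finset.sum_mul]
      rw [Finset.sum_comm]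
      refine Finset.sum_eq_zero fun g _ => ?_
      have h := congrFun hc g.1
      simp only [Finset.sum_apply, Pi.smul_apply, smul_eq_mul, Pi.zero_apply, v, pRegularPart,
        IsPRegular, g.2, not_false_eq_true, if_true] at h
      rw [← mul_zero ((lift (L (Pi.single g 1) i) : loc M) : ℂ), ← h, Finset.mul_sum]
      exact Finset.sum_congr rfl fun j _ => by ring
    have hdetC : (A.map (Subring.subtype (loc M))).det ≠ 0 := by
      rw [← RingHom.mapMatrix_apply, ← RingHom.map_det]
      exact fun h => hdet (Subtype.ext h)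
    exact congrFun (Matrix.eq_zero_of_mulVec_eq_zero hdetC hAc)
  -- conclusion
  have hmem : ∀ i, v i ∈ Submodule.span ℂ
      ((fun χ : IrrCharacter G => pRegularPart p (χ : G → ℂ)) '' B) := by
    intro i
    have h1 : v i = ∑ χ ∈ univ.filter (· ∈ B),
        classInner (F i) (χ : G → ℂ) • pRegularPart p (χ : G → ℂ) := by
      funext g
      show pRegularPart p (blockPart B (F i)) g = _
      simp only [pRegularPart, blockPart, Finset.sum_apply, Pi.smul_apply, smul_eq_mul]
      rw [finsum_mem_eq_sum_of_inter_support_eq (t := univ.filter (· ∈ B)) _ (by ext; simp)]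
      split_ifs with hg
      · exact Finset.sum_congr rfl fun χ _ => by rw [inner_congr_inst]
      · simp
    rw [h1]
    exact Submodule.sum_mem _ fun χ hχ =>
      Submodule.smul_mem _ _ (Submodule.subset_span ⟨χ, (mem_filter.1 hχ).2, rfl⟩)
  have hv' : LinearIndependent ℂ fun i => (⟨v i, hmem i⟩ : Submodule.span ℂ
      ((fun χ : IrrCharacter G => pRegularPart p (χ : G → ℂ)) '' B)) :=
    LinearIndependent.of_comp (Submodule.subtype _) hv
  exact hv'.fintype_card_le_finrank

end CfsgLib.Modular
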