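import Cfsg.Agent.Lib.Modular.BrauerBlocks
import Cfsg.Agent.Lib.BlockOrth.SubsectionCount
import Cfsg.Agent.Lib.CharApps.Galois
import Cfsg.Agent.S0925

/-!
# The trace of an automorphism on a subsection, and rational characters of a block
-/

set_option autoImplicit false
set_option linter.unusedSectionVars false
set_option linter.style.haveILetI false

namespace CfsgLib.BrauerChar

open Cfsg Module CfsgLib.Modular CfsgLib.BlockOrth
open scoped ComplexConjugate

universe u

variable {p : ℕ} [hp : Fact p.Prime] {V : ValuationSubring ℂ} [CharP (Res V) p]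
variable {G : Type u} [Group G] [Fintype G] {M : Ideal AlgInt} [M.IsPrime]

theorem simpleChars_comp {φ : G → ℂ} (hφ : φ ∈ simpleChars p V G) (α : G ≃* G) :
    (fun g => φ (α g)) ∈ simpleChars p V G := by
  obtain ⟨⟨n, r⟩, hs, rfl⟩ := hφ
  refine ⟨⟨n, r.comp α.toMonoidHom⟩, ⟨hs.nontrivial, fun U hU => hs.eq_bot_or_top U fun g v hv => ?_⟩, ?_⟩
  · have h1 := hU (α.symm g) v hv
    rwa [show (r.comp α.toMonoidHom) (α.symm g) = r g from congrArg r (α.apply_symm_apply g)] at h1
  · funext g
    by_cases hg : IsPRegular p g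
    · exact bch_comp r α.toMonoidHom hg
    · have hg' : ¬ IsPRegular p (α g) := by
        rw [IsPRegular, show orderOf (α g) = orderOf g from orderOf_injective α.toMonoidHom α.injective g]; exact hg
      rw [bch_of_not_regular _ hg]
      exact (bch_of_not_regular r hg').symm

theorem exists_block_of_simple (hV : IsPlaceOver p M V) {φ : G → ℂ}
    (hφ : φ ∈ simpleChars p V G) :
    ∃ b : Set (IrrCharacter G), IsPBlock M b ∧ φ ∈ blockSimples hV b := by
  classical
  haveI := Chars.irrFintype G
  by_contra hno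
  simp only [not_exists, not_and] at hno
  have h := (linearIndepOn_simpleChars (p := p) (V := V) (G := G)).notMem_span hφ
  rw [Set.image_id] at h
  refine h ?_
  have e := pRegularPart_combination (p := p) _ (Chars.classFun_eq_sum (bch_isClassFunction hφ))
  rw [pRegularPart_simple hφ] at e
  show φ ∈ _
  rw [e]
  refine Submodule.sum_mem _ fun χ _ => Submodule.smul_mem _ _ ?_
  refine Submodule.span_mono ?_ (pRegularPart_mem_span hV (Blocks.isPBlock_blockOf χ)
    (Blocks.mem_blockOf_self χ))
  intro ψ hψ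
  refine ⟨blockSimples_subset hV _ hψ, fun he => hno _ (Blocks.isPBlock_blockOf χ) ?_⟩
  rw [← e, Set.mem_singleton_iff] at he
  exact he ▸ hψ

variable {H : Subgroup G} [Fintype H] {x : G}

/-- The trace of an automorphism of the centralizer on the part of a block at a `p`-element. -/
theorem exists_nat_sum_inner_secFun [Fintype (IrrCharacter G)] (hM : IsPModular p M)
    (hV : IsPlaceOver p M V) (hH : H = Subgroup.centralizer ({x} : Set G))
    (hx : ∃ k, orderOf x = p ^ k) {B : Set (IrrCharacter G)} [DecidablePred (· ∈ B)]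
    (hB : IsPBlock M B) (α : H ≃* H) :
    ∃ N : ℕ, ∑ χ ∈ Finset.univ.filter (· ∈ B),
      classInner (fun y => pRegularPart p (secFun H x (χ : G → ℂ)) (α y))
        (pRegularPart p (secFun H x (χ : G → ℂ))) = N := by
  classical
  have hni : ∀ (χ : IrrCharacter G), χ ∈ B → ∀ (b : Set (IrrCharacter H)), IsPBlock M b →
      ¬ IsInducedBlock M H b B → ∀ η ∈ b,
      classInner (pRegularPart p (secFun H x (χ : G → ℂ))) (η : H → ℂ) = 0 := by
    subst hH
    exact fun χ hχ b hb hnot η hη => secFun_eq_zero_of_not_induced hM hx hB hχ hb hnot hη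
  haveI := Chars.irrFintype H
  replace hH : ∀ c : G, c ∈ H ↔ c * x = x * c := fun c => by
    rw [hH]; exact Subgroup.mem_centralizer_singleton_iff
  set f : IrrCharacter G → H → ℂ := fun χ => pRegularPart p (secFun H x (χ : G → ℂ)) with hf
  have hfcl : ∀ χ, IsClassFunction H (f χ) := fun χ =>
    isClassFunction_pRegularPart (isClassFunction_secFun hH (Chars.isClassFunction_irr χ))
  set Φ : Set (H → ℂ) :=
    {φ | ∃ b : Set (IrrCharacter H), IsInducedBlock M H b B ∧ φ ∈ blockSimples hV b} with hΦdef
  have hΦ : Φ ⊆ simpleChars p V H := fun φ ⟨b, _, h⟩ => blockSimples_subset hV b h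
  set S := (finite_simpleChars.subset hΦ).toFinset with hS
  -- characters of the block lie in the span
  have hmem : ∀ χ ∈ B, f χ ∈ Submodule.span ℂ Φ := by
    intro χ hχ
    have e : f χ = ∑ η : IrrCharacter H,
        classInner (f χ) (η : H → ℂ) • pRegularPart p (η : H → ℂ) := by
      have h1 := pRegularPart_combination (p := p) _ (Chars.classFun_eq_sum (hfcl χ))
      rw [← h1]
      funext y
      simp only [hf, pRegularPart_apply]
      split_ifs <;> rfl
    rw [e]
    refine Submodule.sum_mem _ fun η _ => ?_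
    by_cases hη : IsInducedBlock M H (blockOf M (η : H → ℂ)) B
    · exact Submodule.smul_mem _ _ (Submodule.span_mono (show blockSimples hV (blockOf M (η : H → ℂ)) ⊆ Φ from
        fun φ hφ => ⟨_, hη, hφ⟩)
        (pRegularPart_mem_span hV (Blocks.isPBlock_blockOf η) (Blocks.mem_blockOf_self η)))
    · rw [show classInner (f χ) (η : H → ℂ) = 0 from hni χ hχ _
        (Blocks.isPBlock_blockOf η) hη η (Blocks.mem_blockOf_self η), zero_smul]
      exact Submodule.zero_mem _
  -- orthogonality
  have hzero : ∀ (ψ : H → ℂ) (b : Set (IrrCharacter H)), IsPBlock M b → ψ ∈ blockSimples hV b →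
      ∀ χ : IrrCharacter G, ¬ (IsInducedBlock M H b B ↔ χ ∈ B) → classInner ψ (f χ) = 0 := by
    intro ψ b hb hψ χ hχ
    have h1 : ψ ∈ Submodule.span ℂ ((fun η : IrrCharacter H => pRegularPart p (η : H → ℂ)) '' b) :=
      span_blockSimples hV hb ▸ Submodule.subset_span hψ
    clear hψ
    induction h1 using Submodule.span_induction with
    | mem v hv =>
      obtain ⟨η, hη, rfl⟩ := hv
      show classInner (pRegularPart p (η : H → ℂ)) (f χ) = 0
      rw [← classInner_pRegularPart_right, show pRegularPart p (f χ) = f χ from by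
        funext y; simp only [hf, pRegularPart_apply]; split_ifs <;> rfl, ← Chars.inner_conj]
      by_cases hi : IsInducedBlock M H b B
      · have hχB : χ ∉ B := fun h => hχ ⟨fun _ => h, fun _ => hi⟩
        rw [show classInner (f χ) (η : H → ℂ) = 0 from secFun_eq_zero_of_notMem hM hH hx hi hχB hη,
          map_zero]
      · have hχB : χ ∈ B := by_contra fun h => hχ ⟨fun h' => absurd h' hi, fun h' => absurd h' h⟩
        rw [show classInner (f χ) (η : H → ℂ) = 0 from
          hni χ hχB b hb hi η hη, map_zero]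
    | zero => exact Chars.inner_zero_left _
    | add v w _ _ hv hw => rw [Chars.inner_add_left, hv, hw, add_zero]
    | smul c a _ ha => rw [Chars.inner_smul_left, ha, mul_zero]
  -- expansion
  have hexp : ∀ ψ : H → ℂ, IsClassFunction H ψ → pRegularPart p ψ = ψ →
      ψ = ∑ χ : IrrCharacter G, classInner ψ (f χ) • f χ := by
    intro ψ hψ hψr
    refine Chars.ext_inner_irr hψ
      (Chars.isClassFunction_sum _ fun χ _ => Chars.isClassFunction_smul _ (hfcl χ)) fun η => ?_
    rw [Chars.inner_sum_left]
    simp only [Chars.inner_smul_left]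
    have h1 := sum_irr_inner_secFun (p := p) (x := x) hH hx (η := (η : H → ℂ)) hψ
    rw [hψr] at h1
    rw [← h1]
    exact Finset.sum_congr rfl fun χ _ => by rw [Chars.inner_conj, mul_comm]
  have hcoef : ∀ χ : IrrCharacter G, χ ∈ B → ∃ d : (H → ℂ) → ℂ, ∑ φ ∈ S, d φ • φ = f χ := by
    intro χ hχ
    have h1 : f χ ∈ Submodule.span ℂ ((S : Set (H → ℂ))) := by
      rw [hS, Set.Finite.coe_toFinset]; exact hmem χ hχ
    obtain ⟨d, -, hd⟩ := Submodule.mem_span_finset.1 h1
    exact ⟨d, hd⟩
  choose! d hd using hcoef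
  set BF := Finset.univ.filter (· ∈ B) with hBF
  have hd' : ∀ χ ∈ BF, ∑ φ ∈ S, d χ φ • φ = f χ := fun χ hχ => hd χ (Finset.mem_filter.1 hχ).2
  -- dual bases
  have hdual : ∀ ψ ∈ simpleChars p V H, ∀ φ ∈ S,
      ∑ χ ∈ BF, d χ φ * classInner ψ (f χ) = if φ = ψ then 1 else 0 := by
    intro ψ hψ φ hφ
    obtain ⟨b, hb, hψb⟩ := exists_block_of_simple hV hψ
    by_cases hi : IsInducedBlock M H b B
    · have hψS : ψ ∈ S := (Set.Finite.mem_toFinset _).2 ⟨b, hi, hψb⟩
      have e := hexp ψ (bch_isClassFunction hψ) (pRegularPart_simple hψ)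
      rw [← Finset.sum_subset (Finset.subset_univ BF) fun χ _ hχ => by
        rw [hzero ψ b hb hψb χ (fun h => hχ (Finset.mem_filter.2 ⟨Finset.mem_univ _, h.1 hi⟩)),
          zero_smul]] at e
      rw [Finset.sum_congr rfl fun χ hχ =>
        show classInner ψ (f χ) • f χ = ∑ φ ∈ S, classInner ψ (f χ) • (d χ φ • φ) by
          rw [← Finset.smul_sum, hd' χ hχ]] at e
      rw [Finset.sum_comm] at e
      simp only [smul_smul, ← Finset.sum_smul] at e
      have h0 := linearIndepOn_iff'.1 ((linearIndepOn_simpleChars (p := p) (V := V) (G := H)).mono hΦ)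
        S (fun φ => (∑ χ ∈ BF, classInner ψ (f χ) * d χ φ) - if φ = ψ then 1 else 0)
        (by simp [hS]) (by
          simp only [id, sub_smul, Finset.sum_sub_distrib, ite_smul, one_smul, zero_smul,
            Finset.sum_ite_eq', if_pos hψS]
          rw [← e, sub_self]) φ hφ
      rw [sub_eq_zero] at h0
      rw [← h0]
      exact Finset.sum_congr rfl fun χ _ => mul_comm _ _
    · rw [if_neg]
      · exact Finset.sum_eq_zero fun χ hχ => by
          rw [hzero ψ b hb hψb χ (fun h => hi (h.2 (Finset.mem_filter.1 hχ).2)), mul_zero]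
      · rintro rfl
        obtain ⟨b', hi', hb'⟩ := (Set.Finite.mem_toFinset _).1 hφ
        exact hi (eq_of_mem_blockSimples hV hi'.1 hb hb' hψb ▸ hi')
  refine ⟨(S.filter fun φ => φ = fun y => φ (α y)).card, ?_⟩
  have hterm : ∀ χ ∈ BF, classInner (fun y => f χ (α y)) (f χ) =
      ∑ φ ∈ S, d χ φ * classInner (fun y => φ (α y)) (f χ) := by
    intro χ hχ
    have e : (fun y => f χ (α y)) = ∑ φ ∈ S, d χ φ • (fun y => φ (α y)) := by
      funext y
      rw [← hd' χ hχ, Finset.sum_apply, Finset.sum_apply]
      rfl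
    rw [e, Chars.inner_sum_left]
    simp only [Chars.inner_smul_left]
  rw [show ∑ χ ∈ BF, classInner (fun y => pRegularPart p (secFun H x (χ : G → ℂ)) (α y))
      (pRegularPart p (secFun H x (χ : G → ℂ))) = ∑ χ ∈ BF, classInner (fun y => f χ (α y)) (f χ)
    from rfl, Finset.sum_congr rfl hterm, Finset.sum_comm,
    Finset.sum_congr rfl fun φ hφ => hdual _
      (simpleChars_comp (hΦ ((Set.Finite.mem_toFinset _).1 hφ)) α) φ hφ, Finset.sum_boole]

end CfsgLib.BrauerChar
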