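import Cfsg.Agent.Lib.Modular.BrauerBlocks
import Cfsg.Agent.Lib.BlockOrth.Dimension

/-!
# Degrees in a block and the number of its irreducible Brauer characters
-/

set_option autoImplicit false
set_option linter.unusedSectionVars false
set_option linter.style.haveILetI false

namespace CfsgLib.BrauerChar

open Cfsg Module CfsgLib.Modular
open CfsgLib.BlockOrth (pPrimePart)
open scoped ComplexConjugate

universe u

variable {p : ℕ} [hp : Fact p.Prime] {V : ValuationSubring ℂ} [CharP (Res V) p]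
variable {G : Type u} [Group G] [Finite G] {M : Ideal AlgInt} [M.IsPrime]
variable (hV : IsPlaceOver p M V)

/-- Degrees of irreducible Brauer characters are integral combinations of those of the block. -/
theorem exists_degree_dvd {B : Set (IrrCharacter G)} (hB : IsPBlock M B) {φ : G → ℂ}
    (hφ : φ ∈ blockSimples hV B) {g : ℕ}
    (hg : ∀ χ ∈ B, g ∣ charDegree (χ : G → ℂ)) :
    ∃ n : ℕ, φ 1 = n ∧ 0 < n ∧ g ∣ n := by
  classical
  letI := Fintype.ofFinite G
  haveI := Chars.irrFintype G
  obtain ⟨s, hs, rfl, -⟩ := id hφ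
  have h1 := bch_one (p := p) s.2
  rw [Module.finrank_fin_fun] at h1
  have hpos : 0 < s.1 := by
    haveI := hs.nontrivial
    by_contra h0
    obtain ⟨n, r⟩ := s
    obtain rfl : n = 0 := by simpa using h0
    exact not_subsingleton (Fin 0 → Res V) inferInstance
  refine ⟨s.1, h1, hpos, ?_⟩
  obtain ⟨α, β, hα, hβ, hαβ⟩ := isGeneralized_bch hV s
  have hint : ∀ χ : IrrCharacter G, ∃ m : ℤ,
      classInner (fun x => bch p s.2 (pPrimePart p x)) (χ : G → ℂ) = m := by
    intro χ
    obtain ⟨a, ha⟩ := Chars.inner_char_nat hα (Chars.isCharacter_of_irr χ.2)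
    obtain ⟨b, hb⟩ := Chars.inner_char_nat hβ (Chars.isCharacter_of_irr χ.2)
    exact ⟨(a : ℤ) - b, by rw [hαβ, Chars.inner_sub_left, ha, hb]; push_cast; rfl⟩
  choose m hm using hint
  have hcf : IsClassFunction G fun x => bch p s.2 (pPrimePart p x) := fun x h => by
    show bch p s.2 (pPrimePart p (h * x * h⁻¹)) = bch p s.2 (pPrimePart p x)
    rw [BlockOrth.pPrimePart_conj, bch_conj]
  have hθ := Chars.classFun_eq_sum hcf
  simp only [hm] at hθ
  have e := pRegularPart_combination (p := p) _ hθ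
  have hreg : pRegularPart p (fun x => bch p s.2 (pPrimePart p x)) = bch p s.2 := by
    funext x
    unfold pRegularPart
    by_cases hx : IsPRegular p x
    · rw [if_pos hx]
      show bch p s.2 (pPrimePart p x) = _
      rw [BlockOrth.pPrimePart_of_regular hx]
    · rw [if_neg hx, bch_of_not_regular _ hx]
  rw [hreg] at e
  have h2 := congrFun (eq_block_part hV hB hφ _ e) 1
  have hone : IsPRegular p (1 : G) := by rw [IsPRegular, orderOf_one]; exact hp.out.not_dvd_one
  rw [h1, Finset.sum_apply] at h2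
  simp only [Pi.smul_apply, smul_eq_mul, pRegularPart, if_pos hone, BlockOrth.irr_apply_one] at h2
  have h3 : ((s.1 : ℤ) : ℂ) = ((∑ χ ∈ Finset.univ.filter (· ∈ B),
      m χ * (charDegree (χ : G → ℂ) : ℤ) : ℤ) : ℂ) := by
    push_cast
    exact h2
  have h4 : (g : ℤ) ∣ (s.1 : ℤ) := by
    rw [Int.cast_injective h3]
    exact Finset.dvd_sum fun χ hχ =>
      (Int.natCast_dvd_natCast.2 (hg χ (Finset.mem_filter.1 hχ).2)).mul_left _
  exact Int.natCast_dvd_natCast.1 h4

/-- Degrees of projective characters are divisible by the full power of `p`. -/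
theorem pow_dvd_sum_dec_mul [Fintype (IrrCharacter G)] {φ : G → ℂ}
    (hφ : φ ∈ simpleChars p V G) :
    p ^ (Nat.card G).factorization p ∣
      ∑ χ : IrrCharacter G, dec hV χ φ * charDegree (χ : G → ℂ) := by
  classical
  letI := Fintype.ofFinite G
  let P : Sylow p G := default
  letI := Fintype.ofFinite (P : Subgroup G)
  set f : G → ℂ := ∑ χ : IrrCharacter G, (dec hV χ φ : ℂ) • (χ : G → ℂ) with hf
  have hfc : IsCharacter G f := Chars.isCharacter_sum _ fun χ _ =>
    Chars.isCharacter_nsmul _ (Chars.isCharacter_of_irr χ.2)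
  have h1 : IsCharacter (P : Subgroup G) (1 : ↥(P : Subgroup G) → ℂ) := Chars.isCharacter_one
  obtain ⟨m, hm⟩ := Chars.inner_char_nat (Chars.isCharacter_restrict (P : Subgroup G) hfc) h1
  rw [Chars.inner_def, Finset.sum_eq_single 1] at hm
  · simp only [Pi.one_apply, map_one, mul_one, OneMemClass.coe_one] at hm
    have hP0 : (Nat.card (P : Subgroup G) : ℂ) ≠ 0 := Nat.cast_ne_zero.2 Nat.card_pos.ne'
    rw [inv_mul_eq_iff_eq_mul₀ hP0] at hm
    refine ⟨m, ?_⟩
    have h2 : ((∑ χ : IrrCharacter G, dec hV χ φ * charDegree (χ : G → ℂ) : ℕ) : ℂ) =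
        ((Nat.card (P : Subgroup G) * m : ℕ) : ℂ) := by
      push_cast
      rw [← hm, hf, Finset.sum_apply]
      exact Finset.sum_congr rfl fun χ _ => by
        rw [Pi.smul_apply, smul_eq_mul, BlockOrth.irr_apply_one]
    rw [Nat.cast_inj.1 h2, P.card_eq_multiplicity]
  · intro x _ hx
    have hs : ¬ IsPRegular p (x : G) := by
      rw [IsPRegular, not_not]
      obtain ⟨j, hj⟩ := IsPGroup.iff_orderOf.1 P.2 x
      rw [Subgroup.orderOf_coe, hj]
      refine dvd_pow_self p ?_
      rintro rfl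
      exact hx (orderOf_eq_one_iff.1 (by simpa using hj))
    have h2 : f (x : G) = 0 := by
      rw [hf, Finset.sum_apply]
      simpa only [Pi.smul_apply, smul_eq_mul] using sum_dec_mul_eq_zero hV hφ hs
    simp [h2]
  · exact fun h => absurd (Finset.mem_univ _) h

include hV in
/-- The lower bound for the sum of squared degrees of a block. -/
theorem blockRank_mul_le_sum_degree_sq {B : Set (IrrCharacter G)} (hB : IsPBlock M B) {g : ℕ}
    (hg : ∀ χ ∈ B, g ∣ charDegree (χ : G → ℂ)) :
    blockRank p B * (g * Nat.lcm (p ^ (Nat.card G).factorization p) g) ≤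
      ∑ᶠ χ ∈ B, charDegree (χ : G → ℂ) ^ 2 := by
  classical
  letI := Fintype.ofFinite G
  haveI := Chars.irrFintype G
  set S := (finite_blockSimples hV B).toFinset with hS
  have hSmem : ∀ φ ∈ S, φ ∈ blockSimples hV B := fun φ h => (Set.Finite.mem_toFinset _).1 h
  choose n hn hnpos hgn using fun φ : S => exists_degree_dvd hV hB (hSmem φ.1 φ.2) hg
  have hdeg : ∀ χ ∈ B, charDegree (χ : G → ℂ) = ∑ φ : S, dec hV χ φ.1 * n φ := by
    intro χ hχ
    have h1 : pRegularPart p (χ : G → ℂ) 1 = (charDegree (χ : G → ℂ) : ℂ) := by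
      unfold pRegularPart
      rw [if_pos (show IsPRegular p (1 : G) by rw [IsPRegular, orderOf_one]; exact hp.out.not_dvd_one),
        BlockOrth.irr_apply_one]
    rw [pRegularPart_eq_sum_dec hV χ, Finset.sum_apply, ← Finset.sum_subset (s₁ := S)
      (fun φ hφ => (Set.Finite.mem_toFinset _).2 (blockSimples_subset hV B (hSmem φ hφ)))
      (fun φ _ hφ => by
        have : dec hV χ φ = 0 := by_contra fun h => hφ ((Set.Finite.mem_toFinset _).2
          ((Blocks.IsPBlock.eq_blockOf hB hχ).symm ▸ dec_ne_zero_mem hV h))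
        simp [this]), ← Finset.sum_coe_sort] at h1
    simp only [Pi.smul_apply, smul_eq_mul, hn] at h1
    exact_mod_cast h1.symm
  set D := fun φ : S => ∑ χ : IrrCharacter G, dec hV χ φ.1 * charDegree (χ : G → ℂ) with hD
  have hDB : ∀ φ : S, D φ =
      ∑ χ ∈ Finset.univ.filter (· ∈ B), dec hV χ φ.1 * charDegree (χ : G → ℂ) := fun φ =>
    (Finset.sum_subset (Finset.subset_univ _) fun χ _ hχ => by
      rw [dec_eq_zero_of_notMem hV hB (by simpa using hχ) (hSmem φ.1 φ.2), zero_mul]).symm
  have hsum : ∑ᶠ χ ∈ B, charDegree (χ : G → ℂ) ^ 2 = ∑ φ : S, n φ * D φ := by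
    rw [BlockOrth.sum_mem_block]
    simp only [hDB, Finset.mul_sum]
    rw [Finset.sum_comm]
    refine Finset.sum_congr rfl fun χ hχ => ?_
    rw [sq]
    conv_lhs => arg 1; rw [hdeg χ (Finset.mem_filter.1 hχ).2]
    rw [Finset.sum_mul]
    exact Finset.sum_congr rfl fun φ _ => by ring
  have hle : ∀ φ : S, g * Nat.lcm (p ^ (Nat.card G).factorization p) g ≤ n φ * D φ := by
    intro φ
    have h1 : Nat.lcm (p ^ (Nat.card G).factorization p) g ∣ D φ := by
      refine Nat.lcm_dvd (pow_dvd_sum_dec_mul hV (blockSimples_subset hV B (hSmem φ.1 φ.2))) ?_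
      rw [hDB]
      exact Finset.dvd_sum fun χ hχ => (hg χ (Finset.mem_filter.1 hχ).2).mul_left _
    have h2 : 0 < D φ := by
      obtain ⟨χ, -, hχ⟩ := exists_dec_ne_zero hV hB (hSmem φ.1 φ.2)
      exact lt_of_lt_of_le (Nat.mul_pos (Nat.pos_of_ne_zero hχ)
        (Nat.pos_of_ne_zero (BlockOrth.irr_charDegree_ne_zero χ)))
        (Finset.single_le_sum (f := fun χ : IrrCharacter G => dec hV χ φ.1 * charDegree (χ : G → ℂ))
          (fun _ _ => Nat.zero_le _) (Finset.mem_univ χ))
    exact Nat.mul_le_mul (Nat.le_of_dvd (hnpos φ) (hgn φ)) (Nat.le_of_dvd h2 h1)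
  rw [hsum, ← card_blockSimples hV hB, ← hS, ← Fintype.card_coe, ← Finset.card_univ,
    ← smul_eq_mul, ← Finset.sum_const]
  exact Finset.sum_le_sum fun φ _ => hle φ

end CfsgLib.BrauerChar
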