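import Mathlib.RepresentationTheory.Basic
import Mathlib.RingTheory.SimpleModule.Basic
import Mathlib.FieldTheory.IsAlgClosed.Basic
import Mathlib.LinearAlgebra.Eigenspace.Triangularizable
import Mathlib.LinearAlgebra.Trace
import Mathlib.RingTheory.Nilpotent.Basic
import Cfsg.Agent.Lib.Blocks.NormalPSubgroup

/-!
# Simple representations over an algebraically closed field: Schur, Burnside, traces
-/

set_option linter.unusedSectionVars false
set_option linter.style.haveILetI false

namespace CfsgLib.Modular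

open Module

variable {k G V W : Type*} [Field k] [Group G] [AddCommGroup V] [Module k V] [AddCommGroup W]
  [Module k W]

/-- A subspace stable under a representation. -/
def IsInvar (ρ : Representation k G V) (U : Submodule k V) : Prop := ∀ g, ∀ v ∈ U, ρ g v ∈ U

/-- A simple representation. -/
structure IsSimpleRep (ρ : Representation k G V) : Prop where
  nontrivial : Nontrivial V
  eq_bot_or_top : ∀ U : Submodule k V, IsInvar ρ U → U = ⊥ ∨ U = ⊤

variable {ρ : Representation k G V} {σ : Representation k G W}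

/-- The action on a stable subspace. -/
def subRep (ρ : Representation k G V) (U : Submodule k V) (hU : IsInvar ρ U) :
    Representation k G U where
  toFun g := (ρ g).restrict (hU g)
  map_one' := by ext v; simp
  map_mul' g h := by ext v; simp

@[simp] theorem coe_subRep {U : Submodule k V} (hU : IsInvar ρ U) (g : G) (v : U) :
    ((subRep ρ U hU g v : U) : V) = ρ g (v : V) := rfl

theorem IsInvar.ker {f : V →ₗ[k] W} (hf : ∀ g v, f (ρ g v) = σ g (f v)) :
    IsInvar ρ (LinearMap.ker f) := fun g v hv => by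
  rw [LinearMap.mem_ker] at hv ⊢
  rw [hf, hv, map_zero]

theorem IsInvar.range {f : V →ₗ[k] W} (hf : ∀ g v, f (ρ g v) = σ g (f v)) :
    IsInvar σ (LinearMap.range f) := by
  rintro g _ ⟨v, rfl⟩
  exact ⟨ρ g v, hf g v⟩

theorem IsSimpleRep.injective_or_eq_zero (hρ : IsSimpleRep ρ) {f : V →ₗ[k] W}
    (hf : ∀ g v, f (ρ g v) = σ g (f v)) : Function.Injective f ∨ f = 0 :=
  (hρ.eq_bot_or_top _ (IsInvar.ker hf)).imp LinearMap.ker_eq_bot.1 LinearMap.ker_eq_top.1

theorem IsSimpleRep.surjective_or_eq_zero (hσ : IsSimpleRep σ) {f : V →ₗ[k] W}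
    (hf : ∀ g v, f (ρ g v) = σ g (f v)) : Function.Surjective f ∨ f = 0 :=
  (hσ.eq_bot_or_top _ (IsInvar.range hf)).symm.imp LinearMap.range_eq_top.1 LinearMap.range_eq_bot.1

/-- Schur's lemma. -/
theorem IsSimpleRep.schur [IsAlgClosed k] [FiniteDimensional k V] (hρ : IsSimpleRep ρ)
    {f : V →ₗ[k] V} (hf : ∀ g v, f (ρ g v) = ρ g (f v)) : ∃ c : k, f = c • LinearMap.id := by
  haveI := hρ.nontrivial
  obtain ⟨c, hc⟩ := Module.End.exists_eigenvalue f
  refine ⟨c, ?_⟩
  have hf' : ∀ g v, (f - c • (LinearMap.id : V →ₗ[k] V)) (ρ g v) = ρ g ((f - c • (LinearMap.id : V →ₗ[k] V)) v) := fun g v => by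
    simp [hf]
  rcases hρ.injective_or_eq_zero hf' with h | h
  · obtain ⟨v, hv⟩ := hc.exists_hasEigenvector
    exact absurd (h (by rw [map_zero]; simp [hv.apply_eq_smul] :
      (f - c • (LinearMap.id : V →ₗ[k] V)) v = (f - c • (LinearMap.id : V →ₗ[k] V)) 0)) hv.2
  · exact sub_eq_zero.1 h

/-- A nonzero stable subspace contains a simple one. -/
theorem exists_simple_le [FiniteDimensional k V] {U : Submodule k V} (hU : IsInvar ρ U)
    (hU0 : U ≠ ⊥) :
    ∃ (S : Submodule k V) (hS : IsInvar ρ S), S ≤ U ∧ IsSimpleRep (subRep ρ S hS) := by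
  classical
  have hex : ∃ n, ∃ S : Submodule k V, IsInvar ρ S ∧ S ≤ U ∧ S ≠ ⊥ ∧ finrank k S = n :=
    ⟨_, U, hU, le_rfl, hU0, rfl⟩
  obtain ⟨S, hS, hSU, hS0, hn⟩ := Nat.find_spec hex
  refine ⟨S, hS, hSU, Submodule.nontrivial_iff_ne_bot.2 hS0, fun R hR => ?_⟩
  by_contra hcon
  simp only [not_or] at hcon
  have hR' : IsInvar ρ (R.map S.subtype) := by
    rintro g _ ⟨r, hr, rfl⟩
    exact ⟨_, hR g r hr, rfl⟩
  have hlt : finrank k (R.map S.subtype) < Nat.find hex := by
    rw [← hn, LinearEquiv.finrank_eq (Submodule.equivMapOfInjective _ S.subtype_injective R).symm]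
    exact Submodule.finrank_lt hcon.2
  exact Nat.find_min hex hlt ⟨_, hR', le_trans (Submodule.map_subtype_le S R) hSU,
    fun h => hcon.1 (Submodule.map_injective_of_injective S.subtype_injective
      (h.trans (Submodule.map_bot _).symm)), rfl⟩

/-- A normal `p`-subgroup acts trivially on a simple representation in characteristic `p`. -/
theorem IsSimpleRep.eq_one_of_normal {p : ℕ} [Fact p.Prime] [CharP k p] [Finite G]
    (hρ : IsSimpleRep ρ) {P : Subgroup G} [P.Normal] (hP : IsPGroup p P) {u : G} (hu : u ∈ P) :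
    ρ u = 1 := by
  haveI := hρ.nontrivial
  let U : Submodule k V :=
    { carrier := {v | ∀ w ∈ P, ρ w v = v}
      add_mem' := fun {a b} ha hb w hw => by rw [map_add, ha w hw, hb w hw]
      zero_mem' := fun w _ => map_zero _
      smul_mem' := fun c a ha w hw => by rw [map_smul, ha w hw] }
  have hU : IsInvar ρ U := fun g v hv w hw => by
    have h := hv (g⁻¹ * w * g) (by simpa using Subgroup.Normal.conj_mem ‹P.Normal› w hw g⁻¹)
    conv_rhs => rw [← h]
    rw [← Module.End.mul_apply, ← Module.End.mul_apply, ← map_mul, ← map_mul]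
    congr 2
    group
  obtain ⟨v, hv, hfix⟩ := Blocks.exists_fixed_ne_zero (k := k) hP (ρ.comp P.subtype)
  rcases hρ.eq_bot_or_top U hU with h | h
  · exact absurd ((Submodule.mem_bot k).1 (h ▸ (show v ∈ U from fun w hw => hfix ⟨w, hw⟩))) hv
  · refine LinearMap.ext fun x => ?_
    exact (h ▸ Submodule.mem_top : x ∈ U) u hu

/-- Burnside's theorem. -/
theorem IsSimpleRep.asAlgebraHom_surjective [IsAlgClosed k] [FiniteDimensional k V]
    (hρ : IsSimpleRep ρ) : Function.Surjective ρ.asAlgebraHom := by
  classical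
  haveI := hρ.nontrivial
  intro f
  let R : Subalgebra k (Module.End k V) := ρ.asAlgebraHom.range
  have hmem : ∀ g : G, ρ g ∈ R := fun g =>
    ⟨MonoidAlgebra.single g 1, Representation.asAlgebraHom_single_one ρ g⟩
  have hsimple : IsSimpleModule R V := by
    refine isSimpleModule_iff_toSpanSingleton_surjective.mpr ⟨inferInstance, fun u hu => ?_⟩
    have hinv : IsInvar ρ ((LinearMap.range (LinearMap.toSpanSingleton R V u)).restrictScalars k) := by
      rintro g w ⟨r, rfl⟩
      exact ⟨⟨ρ g, hmem g⟩ * r, by simp only [LinearMap.toSpanSingleton_apply, mul_smul]; rfl⟩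
    rcases hρ.eq_bot_or_top _ hinv with h | h
    · refine absurd ?_ hu
      have : u ∈ (LinearMap.range (LinearMap.toSpanSingleton R V u)).restrictScalars k :=
        ⟨1, one_smul R u⟩
      rwa [h, Submodule.mem_bot] at this
    · intro w
      exact (h.symm ▸ Submodule.mem_top :
        w ∈ (LinearMap.range (LinearMap.toSpanSingleton R V u)).restrictScalars k)
  have hschur : ∀ φ : Module.End R V, ∃ a : k, ∀ w, φ w = a • w := by
    intro φ
    obtain ⟨a, ha⟩ := hρ.schur (f := (φ.restrictScalars k : Module.End k V))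
      fun g v => φ.map_smul ⟨ρ g, hmem g⟩ v
    exact ⟨a, fun w => LinearMap.congr_fun ha w⟩
  let f' : Module.End (Module.End R V) V :=
    { toFun := f
      map_add' := map_add f
      map_smul' := fun φ w => by
        obtain ⟨a, ha⟩ := hschur φ
        show f (φ w) = φ (f w)
        rw [ha, ha, map_smul] }
  let b := Module.finBasis k V
  obtain ⟨r, hr⟩ := jacobson_density f' (Finset.univ.image b)
  obtain ⟨a, ha⟩ := r.2
  exact ⟨a, ha.trans (b.ext fun i => hr _ (Finset.mem_image_of_mem _ (Finset.mem_univ i))).symm⟩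

/-- A linear relation between the algebra images gives a nonzero map. -/
theorem exists_map_of_ker_le [IsAlgClosed k] [FiniteDimensional k V] [FiniteDimensional k W]
    (hρ : IsSimpleRep ρ) (hσ : IsSimpleRep σ)
    (h : ∀ a, ρ.asAlgebraHom a = 0 → σ.asAlgebraHom a = 0) :
    ∃ f : V →ₗ[k] W, f ≠ 0 ∧ ∀ g v, f (ρ g v) = σ g (f v) := by
  classical
  haveI := hρ.nontrivial
  haveI := hσ.nontrivial
  obtain ⟨v₀, hv₀⟩ := exists_ne (0 : V)
  obtain ⟨L, hL⟩ : ∃ L : V →ₗ[k] k, L v₀ ≠ 0 := by
    by_contra hno
    simp only [not_exists, not_not] at hno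
    exact hv₀ ((Module.forall_dual_apply_eq_zero_iff k v₀).1 hno)
  have hwd : ∀ a a', ρ.asAlgebraHom a = ρ.asAlgebraHom a' → σ.asAlgebraHom a = σ.asAlgebraHom a' :=
    fun a a' he => sub_eq_zero.1 (by rw [← map_sub, h _ (by rw [map_sub, he, sub_self])])
  choose A hA using fun v => hρ.asAlgebraHom_surjective (L.smulRight v)
  have hA0 : σ.asAlgebraHom (A v₀) ≠ 0 := by
    intro h0
    obtain ⟨a, ha⟩ := hρ.asAlgebraHom_surjective 1
    have h1 : σ.asAlgebraHom a = 1 := by
      rw [hwd a 1 (ha.trans (map_one _).symm), map_one]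
    -- every operator is a combination of rank one operators factoring through `A v₀`
    have hz : ∀ v, σ.asAlgebraHom (A v) = 0 := fun v => by
      obtain ⟨c, hc⟩ := hρ.asAlgebraHom_surjective ((((L v₀)⁻¹) • L).smulRight v)
      have he : ρ.asAlgebraHom (A v) = ρ.asAlgebraHom (c * A v₀) := by
        rw [map_mul, hA, hA, hc]
        ext x
        simp [smul_smul, inv_mul_cancel₀ hL, mul_comm (L x)]
      rw [hwd _ _ he, map_mul, h0, mul_zero]
    let b := Module.finBasis k V
    choose D hD using fun i => hρ.asAlgebraHom_surjective ((b.coord i).smulRight v₀)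
    have hsum : ρ.asAlgebraHom a =
        ρ.asAlgebraHom (∑ i, A (b i) * ((L v₀)⁻¹ • D i)) := by
      rw [ha]
      simp only [map_sum, map_mul, map_smul, hA, hD]
      refine LinearMap.ext fun x => ?_
      simp only [LinearMap.coe_sum, Finset.sum_apply, Module.End.mul_apply, LinearMap.smul_apply,
        LinearMap.smulRight_apply, map_smul, smul_eq_mul, Module.End.one_apply]
      conv_lhs => rw [← b.sum_repr x]
      refine Finset.sum_congr rfl fun i _ => ?_
      have e1 : ((L v₀)⁻¹ * (b.repr x) i) * L v₀ = (b.repr x) i := by field_simp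
      simp only [Basis.coord_apply, smul_eq_mul, smul_smul, ← mul_assoc, e1]
    rw [hwd _ _ hsum, map_sum] at h1
    simp only [map_mul, hz, zero_mul, Finset.sum_const_zero] at h1
    exact zero_ne_one h1
  obtain ⟨w, hw⟩ : ∃ w, σ.asAlgebraHom (A v₀) w ≠ 0 := by
    by_contra hno
    simp only [not_exists, not_not] at hno
    exact hA0 (LinearMap.ext hno)
  let f : V →ₗ[k] W :=
    { toFun := fun v => σ.asAlgebraHom (A v) w
      map_add' := fun x y => by
        rw [hwd (A (x + y)) (A x + A y) (by rw [map_add, hA, hA, hA]; ext; rw [LinearMap.add_apply, LinearMap.smulRight_apply, LinearMap.smulRight_apply, LinearMap.smulRight_apply, smul_add])]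
        simp
      map_smul' := fun c x => by
        rw [hwd (A (c • x)) (c • A x) (by rw [map_smul, hA, hA]; ext; rw [LinearMap.smulRight_apply, LinearMap.smul_apply, LinearMap.smulRight_apply, smul_comm])]
        simp }
  refine ⟨f, fun hf => hw (LinearMap.congr_fun hf v₀), fun g v => ?_⟩
  show σ.asAlgebraHom (A (ρ g v)) w = σ g (σ.asAlgebraHom (A v) w)
  rw [hwd (A (ρ g v)) (MonoidAlgebra.single g 1 * A v) (by
    rw [map_mul, hA, hA, Representation.asAlgebraHom_single_one]; ext; simp), map_mul,
    Representation.asAlgebraHom_single_one]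
  rfl

variable {ι : Type*} {V' : ι → Type*} [∀ i, AddCommGroup (V' i)] [∀ i, Module k (V' i)]
  [∀ i, FiniteDimensional k (V' i)] {R : ∀ i, Representation k G (V' i)}

/-- The traces of pairwise nonisomorphic simple representations are independent. -/
theorem trace_independent [IsAlgClosed k] [Fintype ι] (hR : ∀ i, IsSimpleRep (R i))
    (hne : ∀ i j, i ≠ j → ∀ f : V' i →ₗ[k] V' j, (∀ g v, f (R i g v) = R j g (f v)) → f = 0)
    (c : ι → k) (hc : ∀ g : G, ∑ i, c i * LinearMap.trace k (V' i) (R i g) = 0) :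
    c = 0 := by
  classical
  funext i
  have hex : ∀ s : Finset ι, i ∉ s →
      ∃ a, (R i).asAlgebraHom a ≠ 0 ∧ ∀ j ∈ s, (R j).asAlgebraHom a = 0 := by
    intro s
    induction s using Finset.induction_on with
    | empty =>
      intro _
      haveI := (hR i).nontrivial
      exact ⟨1, by rw [map_one]; exact one_ne_zero, by simp⟩
    | @insert j s hj ih =>
      intro hi
      rw [Finset.mem_insert, not_or] at hi
      obtain ⟨b, hb, hbs⟩ := ih hi.2
      obtain ⟨a, ha, haj⟩ : ∃ a, (R i).asAlgebraHom a ≠ 0 ∧ (R j).asAlgebraHom a = 0 := by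
        by_contra hno
        simp only [not_exists, not_and'] at hno
        obtain ⟨f, hf0, hf⟩ := exists_map_of_ker_le (hR j) (hR i) fun a ha => not_not.1 (hno a ha)
        exact hf0 (hne j i (Ne.symm hi.1) f hf)
      obtain ⟨w, hw⟩ : ∃ w, (R i).asAlgebraHom a w ≠ 0 := by
        by_contra hno; simp only [not_exists, not_not] at hno; exact ha (LinearMap.ext hno)
      obtain ⟨x, hx⟩ : ∃ x, (R i).asAlgebraHom b x ≠ 0 := by
        by_contra hno; simp only [not_exists, not_not] at hno; exact hb (LinearMap.ext hno)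
      obtain ⟨L, hL⟩ : ∃ L : V' i →ₗ[k] k, L ((R i).asAlgebraHom b x) ≠ 0 := by
        by_contra hno
        simp only [not_exists, not_not] at hno
        exact hx ((Module.forall_dual_apply_eq_zero_iff k _).1 hno)
      obtain ⟨m, hm⟩ := (hR i).asAlgebraHom_surjective (L.smulRight w)
      refine ⟨a * m * b, fun h => ?_, fun l hl => ?_⟩
      · have := LinearMap.congr_fun h x
        simp [hm, hL, hw] at this
      · rcases Finset.mem_insert.1 hl with rfl | hl
        · simp [haj]
        · simp [hbs l hl]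
  obtain ⟨a, ha, has⟩ := hex (Finset.univ.erase i) (Finset.notMem_erase _ _)
  obtain ⟨w, hw⟩ : ∃ w, (R i).asAlgebraHom a w ≠ 0 := by
    by_contra hno; simp only [not_exists, not_not] at hno; exact ha (LinearMap.ext hno)
  obtain ⟨L, hL⟩ : ∃ L : V' i →ₗ[k] k, L ((R i).asAlgebraHom a w) ≠ 0 := by
    by_contra hno
    simp only [not_exists, not_not] at hno
    exact hw ((Module.forall_dual_apply_eq_zero_iff k _).1 hno)
  obtain ⟨m, hm⟩ := (hR i).asAlgebraHom_surjective (L.smulRight w)
  have hlin : ∀ x : MonoidAlgebra k G,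
      ∑ j, c j * LinearMap.trace k (V' j) ((R j).asAlgebraHom x) = 0 := by
    intro x
    induction x using MonoidAlgebra.induction_on with
    | of g => simpa [Representation.asAlgebraHom_single_one] using hc g
    | add x y hx hy => simp only [map_add, mul_add, Finset.sum_add_distrib, hx, hy, add_zero]
    | smul r x hx =>
      simp only [map_smul, smul_eq_mul, mul_left_comm _ r, ← Finset.mul_sum, hx, mul_zero]
  have h := hlin (a * m)
  rw [Finset.sum_eq_single i (fun j _ hj => by
    rw [map_mul, has j (Finset.mem_erase.2 ⟨hj, Finset.mem_univ _⟩), zero_mul, map_zero, mul_zero])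
    (fun h => absurd (Finset.mem_univ i) h)] at h
  have htr : LinearMap.trace k (V' i) ((R i).asAlgebraHom (a * m)) = L ((R i).asAlgebraHom a w) := by
    have e2 : L.smulRight w * (R i).asAlgebraHom a = (L ∘ₗ (R i).asAlgebraHom a).smulRight w := by
      ext; rfl
    rw [map_mul, hm, LinearMap.trace_mul_comm, e2, LinearMap.trace_smulRight]
    rfl
  rw [htr] at h
  exact (mul_eq_zero.1 h).resolve_right hL

/-- The trace at `x * y` with `x` a `p`-element commuting with `y`. -/
theorem trace_mul_pElement [FiniteDimensional k V] {p : ℕ} [Fact p.Prime] [CharP k p]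
    (ρ : Representation k G V) {x y : G} (h : Commute x y) (hx : ∃ n : ℕ, x ^ p ^ n = 1) :
    LinearMap.trace k V (ρ (x * y)) = LinearMap.trace k V (ρ y) := by
  obtain ⟨n, hn⟩ := hx
  rcases subsingleton_or_nontrivial V with hV | hV
  · rw [Subsingleton.elim (ρ (x * y)) (ρ y)]
  haveI : CharP (Module.End k V) p := charP_of_injective_algebraMap
    (FaithfulSMul.algebraMap_injective k (Module.End k V)) p
  have hc : Commute (ρ x - 1) (ρ y) := (h.map ρ).sub_left (Commute.one_left _)
  have hnil : IsNilpotent (ρ x - 1) := ⟨p ^ n, by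
    rw [sub_pow_char_pow_of_commute _ _ (Commute.one_right _), one_pow, ← map_pow, hn, map_one,
      sub_self]⟩
  have h0 := (LinearMap.isNilpotent_trace_of_isNilpotent (hc.isNilpotent_mul_right hnil)).eq_zero
  rw [sub_mul, one_mul, map_sub, sub_eq_zero] at h0
  rw [map_mul]
  exact h0

end CfsgLib.Modular
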