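import Cfsg.Agent.Lib.Modular.BrauerChar
import Cfsg.Agent.Lib.CharApps.TILattice
import Cfsg.Agent.Lib.BlockOrth.Height
import Cfsg.Agent.Lib.Blocks.StarFun
import Cfsg.Agent.Lib.Blocks.Omega

/-!
# The irreducible Brauer characters: independence, reductions of irreducible characters
-/

set_option autoImplicit false
set_option linter.unusedSectionVars false
set_option linter.style.haveILetI false

namespace CfsgLib.BrauerChar

open Cfsg Module CfsgLib.Modular
open CfsgLib.Blocks (loc)
open CfsgLib.BlockOrth (pPrimePart pPartElt)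

universe u

variable {p : ℕ} [hp : Fact p.Prime] {V : ValuationSubring ℂ} [CharP (Res V) p]
variable {G : Type u} [Group G] [Finite G]

/-- Representations on column vectors. -/
abbrev ColRep (V : ValuationSubring ℂ) (G : Type u) [Group G] :=
  Σ n : ℕ, Representation (Res V) G (Fin n → Res V)

/-- Nonisomorphic in the sense of intertwiners. -/
theorem eq_zero_of_bch_ne {s t : ColRep V G} (hs : IsSimpleRep s.2) (ht : IsSimpleRep t.2)
    (hne : bch p s.2 ≠ bch p t.2) (f : (Fin s.1 → Res V) →ₗ[Res V] (Fin t.1 → Res V))
    (hf : ∀ g v, f (s.2 g v) = t.2 g (f v)) : f = 0 := by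
  rcases hs.injective_or_eq_zero hf with h1 | h1
  · rcases ht.surjective_or_eq_zero hf with h2 | h2
    · exact absurd (bch_congr (LinearEquiv.ofBijective f ⟨h1, h2⟩) hf) hne
    · exact h2
  · exact h1

theorem residue_combination_eq_zero {ι : Type*} [Fintype ι] (R : ι → ColRep V G) (c : ι → V)
    (hc : ∀ g : G, IsPRegular p g → ∑ i, (c i : ℂ) * bch p (R i).2 g = 0) (g : G) :
    ∑ i, IsLocalRing.residue V (c i) *
      LinearMap.trace (Res V) (Fin (R i).1 → Res V) ((R i).2 g) = 0 := by
  letI := Fintype.ofFinite G
  obtain ⟨hcomm, hmul⟩ := Blocks.commute_pPartElt_pPrimePart (p := p) g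
  have hy : IsPRegular p (pPrimePart p g) := BlockOrth.not_dvd_orderOf_pPrimePart (p := p) g
  have h1 : ∑ i, c i * ⟨bch p (R i).2 (pPrimePart p g), bch_mem _ _⟩ = (0 : V) := by
    apply Subtype.val_injective
    push_cast
    exact hc _ hy
  have h2 := congrArg (IsLocalRing.residue V) h1
  simp only [map_sum, map_mul, map_zero, residue_bch _ hy] at h2
  rw [← h2]
  refine Finset.sum_congr rfl fun i _ => ?_
  congr 1
  conv_lhs => rw [← hmul]
  exact trace_mul_pElement (R i).2 hcomm (Blocks.exists_pow_eq_one_pPartElt g)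

/-- **Distinct irreducible Brauer characters are independent.** -/
theorem linearIndependent_bch {ι : Type*} [Fintype ι] (R : ι → ColRep V G)
    (hR : ∀ i, IsSimpleRep (R i).2) (hinj : Function.Injective fun i => bch p (R i).2) :
    LinearIndependent ℂ fun i => bch p (R i).2 := by
  classical
  rw [Fintype.linearIndependent_iff]
  intro c hc
  by_contra hne
  simp only [not_forall] at hne
  obtain ⟨j, hj⟩ := hne
  haveI : Nonempty ι := ⟨j⟩
  obtain ⟨i₀, -, hmax⟩ := Finset.exists_max_image (Finset.univ : Finset ι)
    (fun i => V.valuation (c i)) Finset.univ_nonempty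
  have h0 : c i₀ ≠ 0 := fun h0 => by
    have h1 := hmax j (Finset.mem_univ j)
    rw [h0, map_zero] at h1
    exact hj ((map_eq_zero V.valuation).1 (le_antisymm h1 zero_le'))
  have hmem : ∀ i, c i / c i₀ ∈ V := fun i => by
    rw [← ValuationSubring.valuation_le_one_iff, map_div₀]
    exact div_le_one_of_le₀ (hmax i (Finset.mem_univ i)) zero_le'
  have h1 := trace_independent (k := Res V) (V' := fun i => Fin (R i).1 → Res V)
    (R := fun i => (R i).2) hR
    (fun i k hik f hf => eq_zero_of_bch_ne (hR i) (hR k) (fun he => hik (hinj he)) f hf)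
    (fun i => IsLocalRing.residue V ⟨c i / c i₀, hmem i⟩)
    (residue_combination_eq_zero R (fun i => ⟨c i / c i₀, hmem i⟩) fun g _ => by
      have h2 := congrFun hc g
      simp only [Finset.sum_apply, Pi.smul_apply, smul_eq_mul, Pi.zero_apply] at h2
      show ∑ i, c i / c i₀ * bch p (R i).2 g = 0
      rw [Finset.sum_congr rfl fun i _ => div_mul_eq_mul_div (c i) (c i₀) (bch p (R i).2 g),
        ← Finset.sum_div, h2, zero_div])
  have h3 := congrFun h1 i₀
  rw [show (⟨c i₀ / c i₀, hmem i₀⟩ : V) = 1 from Subtype.ext (div_self h0)] at h3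
  simp at h3

/-- Equal Brauer characters give an intertwiner. -/
theorem exists_intertwiner_of_bch_eq {s t : ColRep V G} (hs : IsSimpleRep s.2)
    (ht : IsSimpleRep t.2) (h : bch p s.2 = bch p t.2) :
    (∃ f : (Fin s.1 → Res V) →ₗ[Res V] (Fin t.1 → Res V), f ≠ 0 ∧
        ∀ g v, f (s.2 g v) = t.2 g (f v)) ∨
      ∃ f : (Fin t.1 → Res V) →ₗ[Res V] (Fin s.1 → Res V), f ≠ 0 ∧
        ∀ g v, f (t.2 g v) = s.2 g (f v) := by
  by_contra hno
  obtain ⟨h1, h2⟩ := not_or.1 hno
  let R : Fin 2 → ColRep V G := ![s, t]
  have h3 := trace_independent (k := Res V) (V' := fun i => Fin (R i).1 → Res V)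
    (R := fun i => (R i).2) (fun i => by fin_cases i; exacts [hs, ht])
    (fun i k hik f hf => by
      fin_cases i <;> fin_cases k
      · exact absurd rfl hik
      · exact by_contra fun hf0 => h1 ⟨f, hf0, hf⟩
      · exact by_contra fun hf0 => h2 ⟨f, hf0, hf⟩
      · exact absurd rfl hik)
    (fun i => IsLocalRing.residue V (![1, -1] i))
    (residue_combination_eq_zero R ![1, -1] fun g _ => by
      simp [R, Fin.sum_univ_two, h])
  have h4 := congrFun h3 0
  simp at h4

/-- Scalars are determined by the Brauer character. -/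
theorem scalar_eq_of_bch_eq {s t : ColRep V G} (hs : IsSimpleRep s.2) (ht : IsSimpleRep t.2)
    (h : bch p s.2 = bch p t.2) {a : MonoidAlgebra (Res V) G} {c c' : Res V}
    (hsc : s.2.asAlgebraHom a = c • 1) (htc : t.2.asAlgebraHom a = c' • 1) : c = c' := by
  rcases exists_intertwiner_of_bch_eq hs ht h with ⟨f, hf0, hf⟩ | ⟨f, hf0, hf⟩ <;>
  · obtain ⟨v, hv⟩ : ∃ v, f v ≠ 0 := by
      by_contra hno
      simp only [not_exists, not_not] at hno
      exact hf0 (LinearMap.ext hno)
    have h1 := intertwine_algebra f hf a v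
    rw [hsc, htc] at h1
    simp only [LinearMap.smul_apply, Module.End.one_apply, map_smul] at h1
    first
      | exact smul_left_injective (Res V) hv h1
      | exact (smul_left_injective (Res V) hv h1).symm

variable (p V G) in
/-- The irreducible Brauer characters. -/
def simpleChars : Set (G → ℂ) := {φ | ∃ s : ColRep V G, IsSimpleRep s.2 ∧ bch p s.2 = φ}

theorem linearIndepOn_simpleChars : LinearIndepOn ℂ id (simpleChars p V G) := by
  classical
  refine linearIndepOn_of_finite _ fun t ht hfin => ?_
  haveI := hfin.fintype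
  choose R hR hRe using fun x : t => ht x.2
  have h := linearIndependent_bch R hR fun x y he => Subtype.ext (by
    simpa only [hRe] using he)
  simp only [hRe] at h
  exact h

theorem finite_simpleChars : (simpleChars p V G).Finite :=
  linearIndepOn_simpleChars.setFinite

theorem bch_isClassFunction {φ : G → ℂ} (hφ : φ ∈ simpleChars p V G) : IsClassFunction G φ := by
  obtain ⟨s, -, rfl⟩ := hφ
  exact fun g h => bch_conj s.2 g h

theorem eq_zero_of_not_regular {φ : G → ℂ} (hφ : φ ∈ simpleChars p V G) {g : G}
    (hg : ¬ IsPRegular p g) : φ g = 0 := by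
  obtain ⟨s, -, rfl⟩ := hφ
  exact bch_of_not_regular s.2 hg

/-- The class sum in the group algebra over the residue field. -/
noncomputable def classElt (V : ValuationSubring ℂ) (g : G) : MonoidAlgebra (Res V) G :=
  letI := Fintype.ofFinite G
  open scoped Classical in ∑ x ∈ Finset.univ.filter (fun x => IsConj g x), MonoidAlgebra.single x 1

variable {M : Ideal AlgInt} [M.IsPrime]

/-- The reduced central character. -/
noncomputable def omegaRes (hV : IsPlaceOver p M V) (χ : IrrCharacter G) (g : G) : Res V :=
  letI := Fintype.ofFinite G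
  IsLocalRing.residue V ⟨centralChar (χ : G → ℂ) g,
    hV.mem_of_loc _ (Blocks.isIntegral_mem_loc (Blocks.isIntegral_centralChar χ g))⟩

/-- **Reduction of an irreducible character.** -/
theorem exists_reduction (hV : IsPlaceOver p M V) (χ : IrrCharacter G) :
    ∃ s : ColRep V G, bch p s.2 = pRegularPart p (χ : G → ℂ) ∧
      (∀ g, s.2.asAlgebraHom (classElt V g) = omegaRes hV χ g • 1) ∧
      (¬ p ∣ Nat.card G → IsSimpleRep s.2) := by
  classical
  letI := Fintype.ofFinite G
  obtain ⟨n, ρ, hρirr, hρ⟩ := χ.2
  haveI := hρirr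
  have hsimp : IsSimpleRep ρ := by
    obtain ⟨h1, h2⟩ := (Chars.isIrreducible_iff ρ).1 hρirr
    exact ⟨h1, fun U hU => h2 U hU⟩
  obtain ⟨ι, _, _, b, hb⟩ := CharApps.TILattice.exists_integral_form ρ V
  let C : G →* Matrix ι ι ℂ := (LinearMap.toMatrixAlgEquiv b).toAlgHom.toMonoidHom.comp ρ
  have hCmem : ∀ g i j, C g i j ∈ V := hb
  let A : G →* Matrix ι ι V :=
    { toFun := fun g i j => ⟨C g i j, hCmem g i j⟩
      map_one' := by
        refine Matrix.ext fun i j => Subtype.ext ?_
        show C 1 i j = _
        rw [map_one]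
        by_cases hij : i = j
        · subst hij; simp
        · simp [Matrix.one_apply_ne hij]
      map_mul' := fun g h => by
        refine Matrix.ext fun i j => Subtype.ext ?_
        show C (g * h) i j =
          ((∑ k, (⟨C g i k, hCmem g i k⟩ : V) * ⟨C h k j, hCmem h k j⟩ : V) : ℂ)
        rw [map_mul, Matrix.mul_apply]
        push_cast
        rfl }
  let r : Representation (Res V) G (ι → Res V) :=
    { toFun := fun g => Matrix.toLin' ((A g).map (IsLocalRing.residue V))
      map_one' := by
        rw [map_one, Matrix.map_one _ (map_zero _) (map_one _), Matrix.toLin'_one]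
        rfl
      map_mul' := fun g h => by
        rw [map_mul, Matrix.map_mul, Matrix.toLin'_mul]
        rfl }
  have htr : ∀ g, (((A g).trace : V) : ℂ) = (χ : G → ℂ) g := fun g => by
    rw [← hρ]
    show _ = LinearMap.trace ℂ _ (ρ g)
    rw [LinearMap.trace_eq_matrix_trace ℂ b]
    simp only [Matrix.trace, Matrix.diag]
    push_cast
    rfl
  have hdeg : ((Fintype.card ι : ℕ) : ℂ) = (χ : G → ℂ) 1 := by
    rw [← htr 1, map_one, Matrix.trace_one]
    simp
  refine ⟨⟨_, finRep r⟩, ?_, fun g => ?_, fun hG => isSimpleRep_finRep ?_⟩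
  · show bch p (finRep r) = _
    rw [← bch_congr (p := p) _ (finRep_intertwine r)]
    funext g
    unfold pRegularPart
    by_cases hg : IsPRegular p g
    · rw [if_pos hg, bch_toLin A r (fun g => rfl) hg, htr]
    · rw [if_neg hg, bch_of_not_regular _ hg]
  · -- the class sum is a scalar
    have hcl : ∀ h, (∑ x ∈ Finset.univ.filter (fun x => IsConj g x), ρ x) * ρ h =
        ρ h * ∑ x ∈ Finset.univ.filter (fun x => IsConj g x), ρ x := fun h => by
      rw [Finset.sum_mul, Finset.mul_sum]
      refine Finset.sum_equiv (MulAut.conj h⁻¹).toEquiv (fun x => ?_) fun x _ => ?_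
      · simp only [Finset.mem_filter, Finset.mem_univ, true_and]
        have hx : IsConj x ((MulAut.conj h⁻¹).toEquiv x) := isConj_iff.2 ⟨h⁻¹, rfl⟩
        exact ⟨fun h1 => h1.trans hx, fun h1 => h1.trans hx.symm⟩
      · show ρ x * ρ h = ρ h * ρ (h⁻¹ * x * h⁻¹⁻¹)
        rw [← map_mul, ← map_mul]
        congr 1
        group
    obtain ⟨c, hc⟩ := hsimp.schur fun h v => LinearMap.congr_fun (hcl h) v
    have hcval : c = centralChar (χ : G → ℂ) g := by
      rw [← Blocks.omega_classInd χ g, Blocks.omega, eq_div_iff (Chars.irr_degree_ne_zero χ.2),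
        ← hρ]
      have h1 := congrArg (LinearMap.trace ℂ (Fin n → ℂ)) hc
      rw [map_sum, map_smul, LinearMap.trace_id, smul_eq_mul] at h1
      rw [Representation.char_one, ← h1, Finset.sum_filter]
      refine Finset.sum_congr rfl fun x _ => ?_
      rw [Blocks.classInd_apply]
      split_ifs <;> simp [Representation.character]
    have hCsum : ∀ i j, (∑ x ∈ Finset.univ.filter (fun x => IsConj g x), C x i j) =
        if i = j then centralChar (χ : G → ℂ) g else 0 := fun i j => by
      have h1 := congrArg (fun T => LinearMap.toMatrixAlgEquiv b T i j) hc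
      simp only [map_sum, map_smul, Matrix.sum_apply, Matrix.smul_apply] at h1
      rw [show (LinearMap.id : (Fin n → ℂ) →ₗ[ℂ] _) = 1 from rfl, map_one, Matrix.one_apply] at h1
      exact h1.trans (by rw [hcval]; split_ifs <;> simp)
    have hr : r.asAlgebraHom (classElt V g) = omegaRes hV χ g • 1 := by
      rw [classElt, map_sum]
      simp only [Representation.asAlgebraHom_single, one_smul]
      refine LinearMap.ext fun v => funext fun i => ?_
      rw [LinearMap.sum_apply, Finset.sum_apply]
      show ∑ x ∈ _, Matrix.mulVec ((A x).map (IsLocalRing.residue V)) v i = _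
      simp only [Matrix.mulVec, dotProduct, Matrix.map_apply]
      rw [Finset.sum_comm]
      simp only [← Finset.sum_mul, ← map_sum]
      rw [Finset.sum_eq_single i]
      · show _ = omegaRes hV χ g * v i
        congr 1
        unfold omegaRes
        congr 1
        refine Subtype.ext ?_
        push_cast
        exact (hCsum i i).trans (if_pos rfl)
      · intro j _ hj
        have h2 : (∑ x ∈ Finset.univ.filter (fun x => IsConj g x), A x i j : V) = 0 := by
          refine Subtype.ext ?_
          push_cast
          exact (hCsum i j).trans (if_neg (Ne.symm hj))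
        rw [h2, map_zero, zero_mul]
      · exact fun h => absurd (Finset.mem_univ i) h
    refine LinearMap.ext fun x => ?_
    obtain ⟨v, rfl⟩ := (Module.finBasis (Res V) (ι → Res V)).equivFun.surjective x
    have h1 := intertwine_algebra (σ := finRep r)
      ((Module.finBasis (Res V) (ι → Res V)).equivFun : (ι → Res V) →ₗ[Res V] _)
      (finRep_intertwine r) (classElt V g) v
    rw [hr] at h1
    show (finRep r).asAlgebraHom (classElt V g) _ = _
    simp only [LinearEquiv.coe_coe] at h1
    rw [← h1]
    simp
  · -- orthogonality of the matrix coefficients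
    obtain ⟨d, -, hd, hdvd⟩ := Chars.irr_degree_dvd_card χ.2
    obtain ⟨N, hN⟩ := hdvd
    have hd' : d = Fintype.card ι := by
      rw [hd] at hdeg
      exact_mod_cast hdeg.symm
    have hN0 : (N : Res V) ≠ 0 := fun h0 => hG <| by
      rw [hN]
      exact dvd_mul_of_dvd_right ((CharP.cast_eq_zero_iff (Res V) p N).1 h0) d
    have key : ∀ i j k l, ∑ g, C g i j * C g⁻¹ k l =
        (N : ℂ) * if j = k ∧ i = l then 1 else 0 := by
      intro i j k l
      let X : Matrix ι ι ℂ := Matrix.single j k 1
      let Y : Matrix ι ι ℂ := ∑ g, C g * X * C g⁻¹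
      have hY : ∀ h, C h * Y = Y * C h := fun h => by
        simp only [Y, Finset.mul_sum, Finset.sum_mul]
        refine Fintype.sum_equiv (Equiv.mulLeft h) _ _ fun g => ?_
        simp only [Equiv.coe_mulLeft, mul_inv_rev, map_mul]
        rw [mul_assoc (C h * C g * X) (C g⁻¹ * C h⁻¹) (C h), mul_assoc (C g⁻¹), ← map_mul C h⁻¹,
          inv_mul_cancel, map_one, mul_one]
        simp only [mul_assoc]
      obtain ⟨c, hc⟩ := hsimp.schur (f := (LinearMap.toMatrixAlgEquiv b).symm Y) fun h v => by
        have h1 := congrArg (LinearMap.toMatrixAlgEquiv b).symm (hY h)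
        rw [map_mul, map_mul, show (LinearMap.toMatrixAlgEquiv b).symm (C h) = ρ h from
          (LinearMap.toMatrixAlgEquiv b).symm_apply_apply (ρ h)] at h1
        exact (LinearMap.congr_fun h1 v).symm
      have hc' : Y = c • 1 := by
        have h1 := congrArg (LinearMap.toMatrixAlgEquiv b) hc
        rw [AlgEquiv.apply_symm_apply, map_smul] at h1
        rwa [show (LinearMap.id : (Fin n → ℂ) →ₗ[ℂ] _) = 1 from rfl, map_one] at h1
      have htrY : Y.trace = (Nat.card G : ℂ) * if j = k then 1 else 0 := by
        simp only [Y, Matrix.trace_sum]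
        rw [Finset.sum_congr rfl (g := fun _ => X.trace) fun g _ => by
          rw [Matrix.trace_mul_cycle, ← map_mul, inv_mul_cancel, map_one, one_mul],
          Finset.sum_const, Finset.card_univ, nsmul_eq_mul, Nat.card_eq_fintype_card]
        congr 1
        by_cases hjk : j = k
        · subst hjk; simp [X, Matrix.trace_single_eq_same]
        · simp [X, hjk]
      rw [hc', Matrix.trace_smul, Matrix.trace_one, smul_eq_mul, ← hd', hN] at htrY
      have hd0 : (d : ℂ) ≠ 0 := by
        rw [← hd]; exact Chars.irr_degree_ne_zero χ.2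
      have hcval : c = (N : ℂ) * if j = k then 1 else 0 := by
        push_cast at htrY
        apply mul_right_cancel₀ hd0
        rw [htrY]; ring
      have h2 := congrFun (congrFun hc' i) l
      simp only [Y, Matrix.sum_apply, Matrix.smul_apply, Matrix.one_apply, smul_eq_mul] at h2
      rw [Finset.sum_congr rfl fun g _ => show C g i j * C g⁻¹ k l = (C g * X * C g⁻¹) i l by
        simp [X, Matrix.mul_apply, Matrix.single_apply, Finset.sum_mul, ite_and, eq_comm], h2,
        hcval]
      by_cases hjk : j = k <;> by_cases hil : i = l <;> simp [hjk, hil]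
    haveI : Nonempty ι := Fintype.card_pos_iff.1 (Nat.pos_of_ne_zero fun h0 => by
      rw [h0, Nat.cast_zero] at hdeg
      exact Chars.irr_degree_ne_zero χ.2 hdeg.symm)
    refine ⟨inferInstance, fun U hU => ?_⟩
    by_contra hno
    obtain ⟨hbot, htop⟩ := not_or.1 hno
    obtain ⟨v, hvU, hv⟩ := Submodule.exists_mem_ne_zero_of_ne_bot hbot
    obtain ⟨i, hi⟩ : ∃ i, v i ≠ 0 := Function.ne_iff.1 hv
    refine htop (Submodule.eq_top_iff'.2 fun x => ?_)
    have hsingle : ∀ j, (Pi.single j 1 : ι → Res V) ∈ U := fun j => by
      have h1 : (∑ g, IsLocalRing.residue V (A g i j) • r g⁻¹ v) =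
          ((N : Res V) * v i) • (Pi.single j 1 : ι → Res V) := by
        funext k
        rw [Finset.sum_apply]
        show ∑ g, IsLocalRing.residue V (A g i j) *
          Matrix.mulVec ((A g⁻¹).map (IsLocalRing.residue V)) v k = _
        simp only [Matrix.mulVec, dotProduct, Matrix.map_apply, Finset.mul_sum, ← mul_assoc,
          ← map_mul]
        rw [Finset.sum_comm]
        simp only [← Finset.sum_mul, ← map_sum]
        have h2 : ∀ l, (∑ g, A g i j * A g⁻¹ k l : V) =
            ((N : ℕ) : V) * if j = k ∧ i = l then 1 else 0 := fun l => by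
          refine Subtype.ext ?_
          push_cast
          refine (key i j k l).trans ?_
          split_ifs <;> simp
        simp only [h2, map_mul, map_natCast]
        by_cases hjk : j = k
        · subst hjk
          rw [Finset.sum_eq_single i (fun l _ hl => by simp [Ne.symm hl])
            (fun h => absurd (Finset.mem_univ i) h)]
          simp
        · simp [hjk, Ne.symm hjk]
      have h3 : ((N : Res V) * v i) • (Pi.single j 1 : ι → Res V) ∈ U :=
        h1 ▸ U.sum_mem fun g _ => U.smul_mem _ (hU g⁻¹ v hvU)
      exact (U.smul_mem_iff (mul_ne_zero hN0 hi)).1 h3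
    rw [show x = ∑ j, x j • (Pi.single j 1 : ι → Res V) from by
      funext k; simp [Pi.single_apply]]
    exact U.sum_mem fun j _ => U.smul_mem _ (hsingle j)

end CfsgLib.BrauerChar
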