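import Cfsg.Agent.Lib.Modular.BrauerBasis
import Cfsg.Agent.Lib.Blocks.Osima
import Cfsg.Agent.Lib.CharsMore.BrauerInduction
import Cfsg.Agent.Lib.Chars.Quotient

/-!
# The irreducible Brauer characters of a block

Their number is the rank of the block, their degrees are integral combinations of the degrees of
the block, and the decomposition numbers give projective characters.
-/

set_option autoImplicit false
set_option linter.unusedSectionVars false
set_option linter.style.haveILetI false

namespace CfsgLib.BrauerChar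

open Cfsg Module CfsgLib.Modular
open CfsgLib.Blocks (loc)
open CfsgLib.BlockOrth (pPrimePart)
open scoped ComplexConjugate

universe u

variable {p : ℕ} [hp : Fact p.Prime] {V : ValuationSubring ℂ} [CharP (Res V) p]
variable {G : Type u} [Group G] [Finite G] {M : Ideal AlgInt} [M.IsPrime]
variable (hV : IsPlaceOver p M V)

/-- The irreducible Brauer characters of a block. -/
def blockSimples (B : Set (IrrCharacter G)) : Set (G → ℂ) :=
  {φ | ∃ s : ColRep V G, IsSimpleRep s.2 ∧ bch p s.2 = φ ∧
    ∀ χ ∈ B, ∀ g, s.2.asAlgebraHom (classElt V g) = omegaRes hV χ g • 1}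

theorem blockSimples_subset (B : Set (IrrCharacter G)) :
    blockSimples hV B ⊆ simpleChars p V G := fun _ ⟨s, hs, he, _⟩ => ⟨s, hs, he⟩

theorem finite_blockSimples (B : Set (IrrCharacter G)) : (blockSimples hV B).Finite :=
  finite_simpleChars.subset (blockSimples_subset hV B)

theorem omegaRes_eq_iff (χ ψ : IrrCharacter G) :
    (∀ g, omegaRes hV χ g = omegaRes hV ψ g) ↔ SameBlock M (χ : G → ℂ) (ψ : G → ℂ) := by
  letI := Fintype.ofFinite G
  refine forall_congr' fun g => ?_
  have hd : centralChar (χ : G → ℂ) g - centralChar (ψ : G → ℂ) g ∈ loc M :=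
    sub_mem (Blocks.isIntegral_mem_loc (Blocks.isIntegral_centralChar χ g))
      (Blocks.isIntegral_mem_loc (Blocks.isIntegral_centralChar ψ g))
  rw [omegaRes, omegaRes, ← sub_eq_zero, ← map_sub, ← hV.res_eq_zero_iff _ hd]
  rfl

theorem eq_of_mem_blockSimples {B B' : Set (IrrCharacter G)} (hB : IsPBlock M B)
    (hB' : IsPBlock M B') {φ : G → ℂ} (h : φ ∈ blockSimples hV B) (h' : φ ∈ blockSimples hV B') :
    B = B' := by
  letI := Fintype.ofFinite G
  obtain ⟨χ, rfl⟩ := hB
  obtain ⟨ψ, rfl⟩ := hB'
  obtain ⟨s, hs, rfl, hsc⟩ := h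
  obtain ⟨t, ht, hte, htc⟩ := h'
  refine Blocks.blockOf_eq_of_sameBlock ((omegaRes_eq_iff hV χ ψ).1 fun g => ?_)
  exact scalar_eq_of_bch_eq (p := p) hs ht hte.symm
    (hsc χ (Blocks.mem_blockOf_self χ) g) (htc ψ (Blocks.mem_blockOf_self ψ) g)

theorem exists_block_decomposition (χ : IrrCharacter G) :
    ∃ L : List (G → ℂ), (∀ φ ∈ L, φ ∈ blockSimples hV (blockOf M (χ : G → ℂ))) ∧
      pRegularPart p (χ : G → ℂ) = L.sum := by
  obtain ⟨s, hs, hsc, -⟩ := exists_reduction hV χ
  obtain ⟨L, hL, hsum⟩ := exists_decomposition (p := p) _ s.2 rfl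
  refine ⟨L.map fun t => bch p t.2, fun φ hφ => ?_, hs ▸ hsum⟩
  obtain ⟨t, ht, rfl⟩ := List.mem_map.1 hφ
  refine ⟨t, (hL t ht).simple, rfl, fun ψ hψ g => ?_⟩
  letI := Fintype.ofFinite G
  rw [← (omegaRes_eq_iff hV χ ψ).2 (Blocks.mem_blockOf.1 hψ) g]
  exact (hL t ht).scalar _ _ (hsc g)

open Classical in
/-- Decomposition numbers. -/
noncomputable def dec (χ : IrrCharacter G) (φ : G → ℂ) : ℕ :=
  (exists_block_decomposition hV χ).choose.count φ

theorem dec_ne_zero_mem {χ : IrrCharacter G} {φ : G → ℂ} (h : dec hV χ φ ≠ 0) :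
    φ ∈ blockSimples hV (blockOf M (χ : G → ℂ)) := by
  classical
  exact (exists_block_decomposition hV χ).choose_spec.1 φ
    (List.count_pos_iff.1 (Nat.pos_of_ne_zero h))

theorem pRegularPart_eq_sum_dec (χ : IrrCharacter G) :
    pRegularPart p (χ : G → ℂ) =
      ∑ φ ∈ (finite_simpleChars (p := p) (V := V) (G := G)).toFinset, (dec hV χ φ : ℂ) • φ := by
  classical
  obtain ⟨h1, h2⟩ := (exists_block_decomposition hV χ).choose_spec
  rw [h2, Finset.sum_list_count, Finset.sum_subset (s₂ := finite_simpleChars.toFinset)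
    (fun φ hφ => by
      rw [Set.Finite.mem_toFinset]
      exact blockSimples_subset hV _ (h1 φ (List.mem_toFinset.1 hφ)))
    (fun φ _ hφ => by
      rw [List.count_eq_zero.2 fun h => hφ (List.mem_toFinset.2 h), zero_smul])]
  exact Finset.sum_congr rfl fun φ _ => (Nat.cast_smul_eq_nsmul ℂ _ _).symm

theorem pRegularPart_mem_span {B : Set (IrrCharacter G)} (hB : IsPBlock M B) {χ : IrrCharacter G}
    (hχ : χ ∈ B) : pRegularPart p (χ : G → ℂ) ∈ Submodule.span ℂ (blockSimples hV B) := by
  letI := Fintype.ofFinite G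
  obtain ⟨L, hL, he⟩ := exists_block_decomposition hV χ
  rw [he, Blocks.IsPBlock.eq_blockOf hB hχ]
  exact list_sum_mem fun φ hφ => Submodule.subset_span (hL φ hφ)

omit [CharP (Res V) p] in
theorem pRegularPart_combination [Fintype (IrrCharacter G)] (c : IrrCharacter G → ℂ) {f : G → ℂ}
    (hf : f = ∑ χ : IrrCharacter G, c χ • (χ : G → ℂ)) :
    pRegularPart p f = ∑ χ : IrrCharacter G, c χ • pRegularPart p (χ : G → ℂ) := by
  funext g
  rw [Finset.sum_apply, hf]
  unfold pRegularPart
  by_cases hg : IsPRegular p g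
  · simp [if_pos hg, Finset.sum_apply]
  · simp [if_neg hg]

theorem pRegularPart_simple {φ : G → ℂ} (hφ : φ ∈ simpleChars p V G) : pRegularPart p φ = φ := by
  funext g
  unfold pRegularPart
  by_cases hg : IsPRegular p g
  · rw [if_pos hg]
  · rw [if_neg hg, eq_zero_of_not_regular hφ hg]

/-- The part of an expansion in a block. -/
theorem eq_block_part {B : Set (IrrCharacter G)} [DecidablePred (· ∈ B)]
    [Fintype (IrrCharacter G)] (hB : IsPBlock M B) {φ : G → ℂ}
    (hφ : φ ∈ blockSimples hV B) (c : IrrCharacter G → ℂ)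
    (hc : φ = ∑ χ : IrrCharacter G, c χ • pRegularPart p (χ : G → ℂ)) :
    φ = ∑ χ ∈ Finset.univ.filter (· ∈ B), c χ • pRegularPart p (χ : G → ℂ) := by
  set P := ∑ χ ∈ Finset.univ.filter (· ∈ B), c χ • pRegularPart p (χ : G → ℂ) with hP
  have h1 : φ - P ∈ Submodule.span ℂ (blockSimples hV B) :=
    Submodule.sub_mem _ (Submodule.subset_span hφ)
      (Submodule.sum_mem _ fun χ hχ =>
        Submodule.smul_mem _ _ (pRegularPart_mem_span hV hB (Finset.mem_filter.1 hχ).2))
  have h2 : φ - P ∈ Submodule.span ℂ (simpleChars p V G \ blockSimples hV B) := by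
    have e : φ - P = ∑ χ ∈ Finset.univ.filter (fun χ => χ ∉ B),
        c χ • pRegularPart p (χ : G → ℂ) := by
      conv_lhs => arg 1; rw [hc, ← Finset.sum_filter_add_sum_filter_not Finset.univ (· ∈ B)]
      rw [add_sub_cancel_left]
    rw [e]
    refine Submodule.sum_mem _ fun χ hχ => Submodule.smul_mem _ _ ?_
    letI := Fintype.ofFinite G
    refine Submodule.span_mono ?_ (pRegularPart_mem_span hV (Blocks.isPBlock_blockOf χ)
      (Blocks.mem_blockOf_self χ))
    intro ψ hψ
    refine ⟨blockSimples_subset hV _ hψ, fun hψB => (Finset.mem_filter.1 hχ).2 ?_⟩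
    rw [eq_of_mem_blockSimples hV hB (Blocks.isPBlock_blockOf χ) hψB hψ]
    exact Blocks.mem_blockOf_self χ
  have hd : Disjoint (Submodule.span ℂ (blockSimples hV B))
      (Submodule.span ℂ (simpleChars p V G \ blockSimples hV B)) := by
    have h := linearIndepOn_simpleChars (p := p) (V := V) (G := G)
    rw [← Set.union_diff_cancel (blockSimples_subset hV B)] at h
    exact ((linearIndepOn_id_union_iff disjoint_sdiff_self_right).1 h).2.2
  exact sub_eq_zero.1 (Submodule.disjoint_def.1 hd _ h1 h2)

theorem span_blockSimples {B : Set (IrrCharacter G)} (hB : IsPBlock M B) :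
    Submodule.span ℂ (blockSimples hV B) =
      Submodule.span ℂ ((fun χ : IrrCharacter G => pRegularPart p (χ : G → ℂ)) '' B) := by
  classical
  letI := Fintype.ofFinite G
  haveI := Chars.irrFintype G
  refine le_antisymm (Submodule.span_le.2 fun φ hφ => ?_) (Submodule.span_le.2 ?_)
  · have hφs := blockSimples_subset hV B hφ
    have e := pRegularPart_combination (p := p) _
      (Chars.classFun_eq_sum (bch_isClassFunction hφs))
    rw [pRegularPart_simple hφs] at e
    rw [SetLike.mem_coe, eq_block_part hV hB hφ _ e]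
    exact Submodule.sum_mem _ fun χ hχ => Submodule.smul_mem _ _
      (Submodule.subset_span ⟨χ, (Finset.mem_filter.1 hχ).2, rfl⟩)
  · rintro _ ⟨χ, hχ, rfl⟩
    exact pRegularPart_mem_span hV hB hχ

/-- **The rank of a block is the number of its irreducible Brauer characters.** -/
theorem card_blockSimples {B : Set (IrrCharacter G)} (hB : IsPBlock M B) :
    (finite_blockSimples hV B).toFinset.card = blockRank p B := by
  rw [blockRank, ← span_blockSimples hV hB]
  haveI := (finite_blockSimples hV B).fintype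
  have h := linearIndepOn_simpleChars.mono (blockSimples_subset hV B)
  rw [finrank_span_set_eq_card h, Set.Finite.toFinset_eq_toFinset]

theorem exists_dec_ne_zero {B : Set (IrrCharacter G)} (hB : IsPBlock M B) {φ : G → ℂ}
    (hφ : φ ∈ blockSimples hV B) : ∃ χ ∈ B, dec hV χ φ ≠ 0 := by
  classical
  by_contra hno
  simp only [not_exists, not_and, not_not] at hno
  have h1 : φ ∈ Submodule.span ℂ (simpleChars p V G \ {φ}) := by
    have h2 : φ ∈ Submodule.span ℂ ((fun χ : IrrCharacter G => pRegularPart p (χ : G → ℂ)) '' B) :=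
      span_blockSimples hV hB ▸ Submodule.subset_span hφ
    refine Submodule.span_le.2 ?_ h2
    rintro _ ⟨χ, hχ, rfl⟩
    show pRegularPart p (χ : G → ℂ) ∈ _
    rw [pRegularPart_eq_sum_dec hV χ]
    refine Submodule.sum_mem _ fun ψ hψ => ?_
    by_cases he : ψ = φ
    · rw [he, hno χ hχ, Nat.cast_zero, zero_smul]
      exact Submodule.zero_mem _
    · exact Submodule.smul_mem _ _
        (Submodule.subset_span ⟨(Set.Finite.mem_toFinset _).1 hψ, he⟩)
  have h := (linearIndepOn_simpleChars (p := p) (V := V) (G := G)).notMem_span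
    (blockSimples_subset hV B hφ)
  rw [Set.image_id] at h
  exact h h1

theorem dec_eq_zero_of_notMem {B : Set (IrrCharacter G)} (hB : IsPBlock M B) {χ : IrrCharacter G}
    (hχ : χ ∉ B) {φ : G → ℂ} (hφ : φ ∈ blockSimples hV B) : dec hV χ φ = 0 := by
  by_contra h
  letI := Fintype.ofFinite G
  exact hχ (eq_of_mem_blockSimples hV hB (Blocks.isPBlock_blockOf χ) hφ (dec_ne_zero_mem hV h) ▸
    Blocks.mem_blockOf_self χ)

/-- The projective character of an irreducible Brauer character vanishes at singular elements. -/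
theorem sum_dec_mul_eq_zero [Fintype (IrrCharacter G)] {φ : G → ℂ} (hφ : φ ∈ simpleChars p V G)
    {x : G} (hx : ¬ IsPRegular p x) :
    ∑ χ : IrrCharacter G, (dec hV χ φ : ℂ) * (χ : G → ℂ) x = 0 := by
  classical
  set S := (finite_simpleChars (p := p) (V := V) (G := G)).toFinset with hS
  have hfun : ∑ ψ ∈ S, (∑ χ : IrrCharacter G, (dec hV χ ψ : ℂ) * conj ((χ : G → ℂ) x)) • ψ =
      0 := by
    funext y
    rw [Finset.sum_apply]
    simp only [Pi.smul_apply, smul_eq_mul, Pi.zero_apply, Finset.sum_mul]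
    rw [Finset.sum_comm]
    have e : ∀ χ : IrrCharacter G,
        ∑ ψ ∈ S, (dec hV χ ψ : ℂ) * conj ((χ : G → ℂ) x) * ψ y =
          pRegularPart p (χ : G → ℂ) y * conj ((χ : G → ℂ) x) := fun χ => by
      rw [pRegularPart_eq_sum_dec hV χ, Finset.sum_apply, Finset.sum_mul]
      exact Finset.sum_congr rfl fun ψ _ => by rw [Pi.smul_apply, smul_eq_mul]; ring
    simp only [e]
    unfold pRegularPart
    by_cases hy : IsPRegular p y
    · simp only [if_pos hy]
      rw [Chars.second_orthogonality, if_neg]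
      intro hc
      obtain ⟨c, hc⟩ := isConj_iff.1 hc
      refine hx ?_
      rw [IsPRegular, ← hc, show orderOf (c * x * c⁻¹) = orderOf x from
        orderOf_injective (MulAut.conj c).toMonoidHom (MulAut.conj c).injective x] at hy
      exact hy
    · simp [if_neg hy]
  have h0 := linearIndepOn_iff'.1 (linearIndepOn_simpleChars (p := p) (V := V) (G := G)) S
    (fun ψ => ∑ χ : IrrCharacter G, (dec hV χ ψ : ℂ) * conj ((χ : G → ℂ) x))
    (by simp [hS]) (by simpa using hfun) φ ((Set.Finite.mem_toFinset _).2 hφ)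
  have h1 := congrArg conj h0
  simpa [map_sum] using h1

/-- A Brauer character composed with the `p'`-part is a generalized character. -/
theorem isGeneralized_bch (hV : IsPlaceOver p M V) (s : ColRep V G) :
    IsGeneralizedCharacter G fun g => bch p s.2 (pPrimePart p g) := by
  classical
  letI := Fintype.ofFinite G
  refine CharsMore.isGeneralized_of_elementary (fun g h => ?_) fun E q hq hE => ?_
  · rw [BlockOrth.pPrimePart_conj, bch_conj]
  haveI : Group.IsNilpotent E := by
    obtain ⟨x, hx, -, k, hk⟩ := hE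
    haveI := Fact.mk hq
    haveI : (Subgroup.zpowers x).Normal := ⟨fun a ha g => by
      have := Subgroup.mem_center_iff.1 ((Subgroup.zpowers_le.2 hx) ha) g
      rwa [this, mul_inv_cancel_right]⟩
    haveI : Group.IsNilpotent (E ⧸ Subgroup.zpowers x) :=
      (IsPGroup.of_card (p := q) (n := k) (by rw [← Subgroup.index_eq_card, hk])).isNilpotent
    exact Subgroup.isNilpotent_of_ker_le_center (QuotientGroup.mk' (Subgroup.zpowers x))
      (by rw [QuotientGroup.ker_mk']; exact Subgroup.zpowers_le.2 hx)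
  let P : Sylow p E := default
  set N : Subgroup E := (P : Subgroup E) with hNdef
  haveI : N.Normal := inferInstanceAs (P : Subgroup E).Normal
  letI := Fintype.ofFinite E
  letI := Fintype.ofFinite (E ⧸ N)
  have hQ : ¬ p ∣ Nat.card (E ⧸ N) := by
    rw [← Subgroup.index_eq_card]
    exact P.not_dvd_index
  let rE : Representation (Res V) E (Fin s.1 → Res V) := s.2.comp E.subtype
  obtain ⟨L, hL, hsum⟩ := exists_decomposition (p := p) _ rE rfl
  -- constituents are inflated ordinary characters
  have hL' : ∀ t ∈ L, ∃ ψ : E → ℂ, IsCharacter E ψ ∧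
      ∀ e : E, bch p t.2 (pPrimePart p e) = ψ e := by
    intro t ht
    have htriv : ∀ a ∈ N, t.2 a = 1 := fun a ha =>
      (hL t ht).simple.eq_one_of_normal (p := p) (P := N) P.2 ha
    let tb : Representation (Res V) (E ⧸ N) (Fin t.1 → Res V) :=
      QuotientGroup.lift N t.2 fun a ha => htriv a ha
    have htb : IsSimpleRep tb := by
      obtain ⟨h1, h2⟩ := (hL t ht).simple
      exact ⟨h1, fun U hU => h2 U fun g v hv => hU (QuotientGroup.mk g) v hv⟩
    have hmem : bch p tb ∈ simpleChars p V (E ⧸ N) := ⟨⟨_, tb⟩, htb, rfl⟩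
    have hirr : ∃ ψ : IrrCharacter (E ⧸ N), (ψ : E ⧸ N → ℂ) = bch p tb := by
      by_contra hno
      simp only [not_exists] at hno
      haveI := Chars.irrFintype (E ⧸ N)
      have hreg : ∀ y : E ⧸ N, IsPRegular p y := fun y hd =>
        hQ (hd.trans (orderOf_dvd_natCard y))
      have hirr' : ∀ ψ : IrrCharacter (E ⧸ N),
          (ψ : E ⧸ N → ℂ) ∈ simpleChars p V (E ⧸ N) := fun ψ => by
        obtain ⟨r, hr, -, hrs⟩ := exists_reduction hV ψ
        refine ⟨r, hrs hQ, hr.trans ?_⟩
        funext y
        unfold pRegularPart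
        rw [if_pos (hreg y)]
      have h := (linearIndepOn_simpleChars (p := p) (V := V) (G := E ⧸ N)).notMem_span hmem
      rw [Set.image_id] at h
      apply h
      have hsub : Set.range (fun ψ : IrrCharacter (E ⧸ N) => (ψ : E ⧸ N → ℂ)) ⊆
          simpleChars p V (E ⧸ N) \ {bch p tb} := by
        rintro _ ⟨ψ, rfl⟩
        exact ⟨hirr' ψ, hno ψ⟩
      refine Submodule.span_mono hsub ?_
      show bch p tb ∈ _
      rw [Chars.classFun_eq_sum (bch_isClassFunction hmem)]
      exact Submodule.sum_mem _ fun ψ _ => Submodule.smul_mem _ _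
        (Submodule.subset_span ⟨ψ, rfl⟩)
    obtain ⟨ψ, hψ⟩ := hirr
    refine ⟨fun e => (ψ : E ⧸ N → ℂ) (QuotientGroup.mk' N e),
      Chars.isCharacter_comp _ (Chars.isCharacter_of_irr ψ.2), fun e => ?_⟩
    have hreg : IsPRegular p (pPrimePart p e) := BlockOrth.not_dvd_orderOf_pPrimePart e
    have h1 : bch p t.2 (pPrimePart p e) = bch p tb (QuotientGroup.mk' N (pPrimePart p e)) := by
      rw [← bch_comp tb (QuotientGroup.mk' N) hreg]
      rfl
    rw [h1, ← hψ]
    congr 1
    obtain ⟨u, hu, -, ⟨j, hj⟩, -⟩ := BlockOrth.isPPrimePart_pPrimePart (p := p) e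
    have hz : IsPGroup p (Subgroup.zpowers u) :=
      IsPGroup.of_card (n := j) (by rw [Nat.card_zpowers, hj])
    obtain ⟨P', hP'⟩ := hz.exists_le_sylow
    have huN : u ∈ N := by
      haveI : Subsingleton (Sylow p E) :=
        Sylow.unique_of_normal P inferInstance |>.instSubsingleton
      rw [hNdef, Subsingleton.elim P P']
      exact hP' (Subgroup.mem_zpowers u)
    show _ = (ψ : E ⧸ N → ℂ) (QuotientGroup.mk' N e)
    conv_rhs => rw [← hu, map_mul, show QuotientGroup.mk' N u = 1 from
      (QuotientGroup.eq_one_iff u).2 huN, one_mul]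
  choose ψ hψc hψ using hL'
  refine ⟨(L.attach.map fun t => ψ t.1 t.2).sum, 0, ?_, Chars.isCharacter_zero, ?_⟩
  · have : ∀ l : List (E → ℂ), (∀ f ∈ l, IsCharacter E f) → IsCharacter E l.sum := fun l hl => by
      induction l with
      | nil => simpa using Chars.isCharacter_zero
      | cons a l ih =>
        rw [List.sum_cons]
        exact Chars.isCharacter_add (hl a (by simp)) (ih fun f hf => hl f (by simp [hf]))
    refine this _ fun f hf => ?_
    obtain ⟨t, -, rfl⟩ := List.mem_map.1 hf
    exact hψc t.1 t.2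
  · funext e
    rw [sub_zero]
    have hmap : pPrimePart p (e : G) = ((pPrimePart p e : E) : G) :=
      ((BlockOrth.isPPrimePart_pPrimePart e).map E.subtype E.subtype_injective).eq_pPrimePart
    rw [hmap, ← Subgroup.coe_subtype, ← bch_comp s.2 E.subtype
      (BlockOrth.not_dvd_orderOf_pPrimePart e)]
    show bch p rE (pPrimePart p e) = _
    rw [hsum, Pi.list_sum_apply, Pi.list_sum_apply, List.map_map, List.map_map]
    conv_lhs => rw [← List.attach_map_subtype_val L, List.map_map]
    congr 1
    refine List.map_congr_left fun t _ => ?_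
    simp only [Function.comp_apply]
    rw [hψ t.1 t.2 e]

end CfsgLib.BrauerChar
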