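import Cfsg.Agent.Lib.Modular.BrauerLift
import Mathlib.LinearAlgebra.Charpoly.ToMatrix
import Mathlib.LinearAlgebra.Matrix.Charpoly.Eigs
import Mathlib.LinearAlgebra.Eigenspace.Charpoly

/-!
# Brauer characters and their additivity
-/

set_option autoImplicit false
set_option linter.unusedSectionVars false
set_option linter.style.haveILetI false

namespace CfsgLib.BrauerChar

open Cfsg Polynomial Module CfsgLib.Modular

universe u v

/-- The characteristic polynomial is multiplicative on a stable subspace. -/
theorem charpoly_eq_mul {k : Type*} [Field k] {W : Type*} [AddCommGroup W] [Module k W]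
    [FiniteDimensional k W] (U : Submodule k W) (e : W →ₗ[k] W) (he : U ≤ U.comap e) :
    e.charpoly = (e.restrict he).charpoly * (U.mapQ U e he).charpoly := by
  classical
  let bW := Module.Free.chooseBasis k U
  let bQ := Module.Free.chooseBasis k (W ⧸ U)
  let b := Module.Basis.sumQuot bW bQ
  let A := LinearMap.toMatrix bW bW (e.restrict he)
  let B : Matrix _ _ k := Matrix.of fun i l ↦ (b.repr (e (b (Sum.inr l)))) (Sum.inl i)
  let D := LinearMap.toMatrix bQ bQ (U.mapQ U e he)
  suffices h : LinearMap.toMatrix b b e = Matrix.fromBlocks A B 0 D by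
    rw [← LinearMap.charpoly_toMatrix e b, h, Matrix.charpoly_fromBlocks_zero₂₁,
      LinearMap.charpoly_toMatrix, LinearMap.charpoly_toMatrix]
  ext u v
  cases u with
  | inl i =>
    cases v with
    | inl k =>
      simp only [b, Module.Basis.sumQuot_inl, Matrix.fromBlocks_apply₁₁, A, LinearMap.toMatrix_apply]
      apply Module.Basis.sumQuot_repr_inl_of_mem
    | inr l => simp [b, LinearMap.toMatrix_apply, Matrix.fromBlocks_apply₁₂, B]
  | inr j =>
    cases v with
    | inl k =>
      suffices U.mkQ (e (bW k)) = 0 by simp [LinearMap.toMatrix_apply, b, this]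
      rw [← LinearMap.mem_ker, Submodule.ker_mkQ]
      exact he (Submodule.coe_mem (bW k))
    | inr l =>
      simp only [LinearMap.toMatrix_apply, Module.Basis.sumQuot_repr_inr,
        Matrix.fromBlocks_apply₂₂, b, D]
      rw [← Module.Basis.sumQuot_inr bW bQ l, U.mapQ_apply]
      simp

variable {p : ℕ} [hp : Fact p.Prime] {V : ValuationSubring ℂ} [CharP (Res V) p]
variable {G : Type u} [Group G] [Finite G]
variable {W : Type v} {W' : Type*} [AddCommGroup W] [Module (Res V) W] [FiniteDimensional (Res V) W]
  [AddCommGroup W'] [Module (Res V) W'] [FiniteDimensional (Res V) W']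

variable (p) in
open Classical in
/-- The Brauer character of a representation, extended by zero. -/
noncomputable def bch (ρ : Representation (Res V) G W) (g : G) : ℂ :=
  if IsPRegular p g then ((ρ g).charpoly.roots.map (liftRoot p)).sum else 0

theorem bch_of_not_regular (ρ : Representation (Res V) G W) {g : G} (hg : ¬ IsPRegular p g) :
    bch p ρ g = 0 := if_neg hg

theorem bch_of_regular (ρ : Representation (Res V) G W) {g : G} (hg : IsPRegular p g) :
    bch p ρ g = ((ρ g).charpoly.roots.map (liftRoot p)).sum := if_pos hg

theorem pow_eq_one_of_root (ρ : Representation (Res V) G W) {g : G} {x : Res V}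
    (hx : x ∈ (ρ g).charpoly.roots) : x ^ orderOf g = 1 := by
  have h1 : Module.End.HasEigenvalue (ρ g) x :=
    (Module.End.hasEigenvalue_iff_isRoot_charpoly _ _).2 (Polynomial.isRoot_of_mem_roots hx)
  obtain ⟨w, hw⟩ := h1.exists_hasEigenvector
  have h2 := hw.pow_apply (orderOf g)
  rw [← map_pow, pow_orderOf_eq_one, map_one, Module.End.one_apply] at h2
  by_contra hne
  refine hw.2 ((smul_eq_zero.1 (?_ : (x ^ orderOf g - 1) • w = 0)).resolve_left
    (sub_ne_zero.2 hne))
  rw [sub_smul, one_smul, ← h2, sub_self]

theorem isLift_of_root (ρ : Representation (Res V) G W) {g : G} (hg : IsPRegular p g) {x : Res V}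
    (hx : x ∈ (ρ g).charpoly.roots) : IsLift p x (liftRoot p x) :=
  isLift_liftRoot hg (pow_eq_one_of_root ρ hx)

theorem bch_mem (ρ : Representation (Res V) G W) (g : G) : bch p ρ g ∈ V := by
  by_cases hg : IsPRegular p g
  · rw [bch_of_regular ρ hg]
    refine multiset_sum_mem _ fun z hz => ?_
    obtain ⟨x, hx, rfl⟩ := Multiset.mem_map.1 hz
    exact (isLift_of_root ρ hg hx).1.mem
  · rw [bch_of_not_regular ρ hg]
    exact zero_mem _

theorem residue_multiset_sum (s : Multiset (Res V)) (hs : ∀ x ∈ s, IsLift p x (liftRoot p x))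
    (hm : (s.map (liftRoot p)).sum ∈ V) :
    IsLocalRing.residue V ⟨(s.map (liftRoot p)).sum, hm⟩ = s.sum := by
  induction s using Multiset.induction_on with
  | empty =>
    rw [Multiset.sum_zero]
    convert map_zero (IsLocalRing.residue V)
    simp
  | cons a s ih =>
    obtain ⟨hr, ha, hres⟩ := hs a (Multiset.mem_cons_self a s)
    have hs' : (s.map (liftRoot p)).sum ∈ V := by
      refine multiset_sum_mem _ fun z hz => ?_
      obtain ⟨x, hx, rfl⟩ := Multiset.mem_map.1 hz
      exact (hs x (Multiset.mem_cons_of_mem hx)).1.mem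
    rw [Multiset.sum_cons, ← ih (fun x hx => hs x (Multiset.mem_cons_of_mem hx)) hs']
    conv_rhs => arg 1; rw [← hres]
    rw [← map_add]
    congr 1
    refine Subtype.ext ?_
    show ((a ::ₘ s).map (liftRoot p)).sum = liftRoot p a + (s.map (liftRoot p)).sum
    rw [Multiset.map_cons, Multiset.sum_cons]

/-- A Brauer character reduces to the trace. -/
theorem residue_bch (ρ : Representation (Res V) G W) {g : G} (hg : IsPRegular p g) :
    IsLocalRing.residue V ⟨bch p ρ g, bch_mem ρ g⟩ = LinearMap.trace (Res V) W (ρ g) := by
  classical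
  have hm : ((ρ g).charpoly.roots.map (liftRoot p)).sum ∈ V := by
    rw [← bch_of_regular ρ hg]; exact bch_mem ρ g
  have h1 := residue_multiset_sum ((ρ g).charpoly.roots) (fun x hx => isLift_of_root ρ hg hx) hm
  rw [show (⟨bch p ρ g, bch_mem ρ g⟩ : V) = ⟨_, hm⟩ from
    Subtype.ext (bch_of_regular ρ hg), h1, LinearMap.trace_eq_matrix_trace (Res V)
    (Module.finBasis (Res V) W), Matrix.trace_eq_sum_roots_charpoly, LinearMap.charpoly_toMatrix]

theorem bch_of_subsingleton [Subsingleton W] (ρ : Representation (Res V) G W) : bch p ρ = 0 := by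
  funext g
  by_cases hg : IsPRegular p g
  · have h1 : (ρ g).charpoly.natDegree = 0 := by
      rw [LinearMap.charpoly_natDegree, Module.finrank_zero_of_subsingleton]
    rw [bch_of_regular ρ hg, (ρ g).charpoly_monic.natDegree_eq_zero.1 h1, roots_one]
    simp
  · exact bch_of_not_regular ρ hg

theorem bch_conj (ρ : Representation (Res V) G W) (g h : G) :
    bch p ρ (h * g * h⁻¹) = bch p ρ g := by
  have ho : orderOf (h * g * h⁻¹) = orderOf g := by
    rw [← MulAut.conj_apply]
    exact orderOf_injective (MulAut.conj h).toMonoidHom (MulAut.conj h).injective g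
  by_cases hg : IsPRegular p g
  · rw [bch_of_regular ρ hg, bch_of_regular ρ (by rw [IsPRegular, ho]; exact hg)]
    let e : W ≃ₗ[Res V] W := LinearEquiv.ofLinear (ρ h) (ρ h⁻¹)
      (by rw [← Module.End.mul_eq_comp, ← map_mul, mul_inv_cancel, map_one]; rfl)
      (by rw [← Module.End.mul_eq_comp, ← map_mul, inv_mul_cancel, map_one]; rfl)
    have h1 : ρ (h * g * h⁻¹) = e.conj (ρ g) := by
      refine LinearMap.ext fun v => ?_
      rw [LinearEquiv.conj_apply_apply, map_mul, map_mul]
      rfl
    rw [h1, LinearEquiv.charpoly_conj]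
  · rw [bch_of_not_regular ρ hg, bch_of_not_regular ρ (by rw [IsPRegular, ho]; exact hg)]

theorem bch_congr {ρ : Representation (Res V) G W} {σ : Representation (Res V) G W'}
    (f : W ≃ₗ[Res V] W') (hf : ∀ g v, f (ρ g v) = σ g (f v)) : bch p ρ = bch p σ := by
  funext g
  by_cases hg : IsPRegular p g
  · have h1 : σ g = f.conj (ρ g) := by
      refine LinearMap.ext fun v => ?_
      rw [LinearEquiv.conj_apply_apply, hf, LinearEquiv.apply_symm_apply]
    rw [bch_of_regular ρ hg, bch_of_regular σ hg, h1, LinearEquiv.charpoly_conj]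
  · rw [bch_of_not_regular ρ hg, bch_of_not_regular σ hg]

/-- The action on a quotient by a stable subspace. -/
noncomputable def quotRep (ρ : Representation (Res V) G W) (U : Submodule (Res V) W) (hU : IsInvar ρ U) :
    Representation (Res V) G (W ⧸ U) where
  toFun g := U.mapQ U (ρ g) (hU g)
  map_one' := by
    refine LinearMap.ext fun x => ?_
    induction x using Submodule.Quotient.induction_on with | _ x => simp
  map_mul' g h := by
    refine LinearMap.ext fun x => ?_
    induction x using Submodule.Quotient.induction_on with | _ x => simp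

theorem bch_add (ρ : Representation (Res V) G W) (U : Submodule (Res V) W) (hU : IsInvar ρ U) :
    bch p ρ = bch p (subRep ρ U hU) + bch p (quotRep ρ U hU) := by
  funext g
  by_cases hg : IsPRegular p g
  · rw [Pi.add_apply, bch_of_regular ρ hg, bch_of_regular _ hg, bch_of_regular _ hg,
      charpoly_eq_mul U (ρ g) (hU g), roots_mul, Multiset.map_add, Multiset.sum_add]
    · rfl
    · exact mul_ne_zero (LinearMap.charpoly_monic _).ne_zero (LinearMap.charpoly_monic _).ne_zero
  · rw [Pi.add_apply, bch_of_not_regular ρ hg, bch_of_not_regular _ hg, bch_of_not_regular _ hg,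
      add_zero]

omit [Finite G] in
/-- Intertwiners respect the group algebra. -/
theorem intertwine_algebra {ρ : Representation (Res V) G W} {σ : Representation (Res V) G W'}
    (f : W →ₗ[Res V] W') (hf : ∀ g v, f (ρ g v) = σ g (f v)) (a : MonoidAlgebra (Res V) G) (v : W) :
    f (ρ.asAlgebraHom a v) = σ.asAlgebraHom a (f v) := by
  induction a using MonoidAlgebra.induction_on with
  | of g => simp [Representation.asAlgebraHom_single_one, hf]
  | add x y hx hy => simp [hx, hy]
  | smul r x hx => simp [hx]

/-- A representation on column vectors isomorphic to a given one. -/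
noncomputable def finRep (ρ : Representation (Res V) G W) :
    Representation (Res V) G (Fin (finrank (Res V) W) → Res V) where
  toFun g := (Module.finBasis (Res V) W).equivFun.conj (ρ g)
  map_one' := by
    rw [map_one]
    exact LinearEquiv.conj_id _
  map_mul' g h := by
    rw [map_mul]
    exact LinearEquiv.conj_comp _ (ρ h) (ρ g)

omit [Finite G] in
theorem finRep_intertwine (ρ : Representation (Res V) G W) (g : G) (v : W) :
    (Module.finBasis (Res V) W).equivFun (ρ g v) =
      finRep ρ g ((Module.finBasis (Res V) W).equivFun v) := by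
  show _ = (Module.finBasis (Res V) W).equivFun.conj (ρ g) _
  rw [LinearEquiv.conj_apply_apply, LinearEquiv.symm_apply_apply]

theorem isSimpleRep_finRep {ρ : Representation (Res V) G W} (hρ : IsSimpleRep ρ) :
    IsSimpleRep (finRep ρ) := by
  haveI := hρ.nontrivial
  set e := (Module.finBasis (Res V) W).equivFun with he
  refine ⟨e.injective.nontrivial, fun U hU => ?_⟩
  have hinv : IsInvar ρ (U.comap (e : W →ₗ[Res V] _)) := fun g v hv => by
    show e (ρ g v) ∈ U
    rw [finRep_intertwine]
    exact hU g _ hv
  rcases hρ.eq_bot_or_top _ hinv with h | h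
  · left
    refine (Submodule.eq_bot_iff _).2 fun x hx => ?_
    have h1 : e.symm x ∈ U.comap (e : W →ₗ[Res V] _) := by simpa using hx
    rw [h, Submodule.mem_bot] at h1
    simpa using congrArg e h1
  · right
    refine Submodule.eq_top_iff'.2 fun x => ?_
    have h1 : e.symm x ∈ U.comap (e : W →ₗ[Res V] _) := h ▸ Submodule.mem_top
    simpa using h1

/-- Data of a simple representation with the scalars of a given one. -/
structure IsConstituent (ρ : Representation (Res V) G W)
    (s : Σ n, Representation (Res V) G (Fin n → Res V)) : Prop where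
  simple : IsSimpleRep s.2
  scalar : ∀ (a : MonoidAlgebra (Res V) G) (c : Res V), ρ.asAlgebraHom a = c • 1 →
    s.2.asAlgebraHom a = c • 1
  trivial_of : ∀ g : G, ρ g = 1 → s.2 g = 1

/-- **Brauer characters are sums of those of simple constituents.** -/
theorem exists_decomposition : ∀ (d : ℕ) {W : Type v} [AddCommGroup W] [Module (Res V) W]
    [FiniteDimensional (Res V) W] (ρ : Representation (Res V) G W), finrank (Res V) W = d →
    ∃ L : List (Σ n, Representation (Res V) G (Fin n → Res V)),
      (∀ s ∈ L, IsConstituent ρ s) ∧ bch p ρ = (L.map fun s => bch p s.2).sum := by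
  intro d
  induction d using Nat.strong_induction_on with
  | _ d ih =>
  intro W _ _ _ ρ hd
  rcases subsingleton_or_nontrivial W with hW | hW
  · exact ⟨[], by simp, by simp [bch_of_subsingleton]⟩
  obtain ⟨S, hS, -, hsimple⟩ := exists_simple_le (ρ := ρ) (U := ⊤) (fun g v _ => Submodule.mem_top)
    top_ne_bot
  haveI := hsimple.nontrivial
  have hlt : finrank (Res V) (W ⧸ S) < d := by
    have h1 := S.finrank_quotient_add_finrank
    have h2 : 0 < finrank (Res V) S := Module.finrank_pos
    omega
  obtain ⟨L, hL, hsum⟩ := ih _ hlt (quotRep ρ S hS) rfl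
  set e := (Module.finBasis (Res V) S).equivFun with he
  refine ⟨⟨_, finRep (subRep ρ S hS)⟩ :: L, ?_, ?_⟩
  · intro s hs
    rcases List.mem_cons.1 hs with rfl | hs
    · refine ⟨isSimpleRep_finRep hsimple, fun a c hac => LinearMap.ext fun x => ?_, fun g hg => ?_⟩
      · have h0 : (subRep ρ S hS).asAlgebraHom a = c • 1 := by
          refine LinearMap.ext fun v => Subtype.ext ?_
          have h2 := intertwine_algebra (ρ := subRep ρ S hS) (σ := ρ) S.subtype
            (fun g v => rfl) a v
          rw [hac] at h2
          exact h2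
        obtain ⟨v, rfl⟩ := e.surjective x
        have h1 := intertwine_algebra (σ := finRep (subRep ρ S hS)) (e : S →ₗ[Res V] _)
          (finRep_intertwine _) a v
        rw [h0] at h1
        show (finRep (subRep ρ S hS)).asAlgebraHom a (e v) = _
        rw [← LinearEquiv.coe_coe, ← h1]
        simp
      · refine LinearMap.ext fun x => ?_
        obtain ⟨v, rfl⟩ := e.surjective x
        show finRep (subRep ρ S hS) g (e v) = e v
        rw [← finRep_intertwine]
        exact congrArg e (Subtype.ext (by simp [hg]))
    · refine ⟨(hL s hs).simple, fun a c hac => (hL s hs).scalar a c ?_,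
        fun g hg => (hL s hs).trivial_of g ?_⟩
      · refine LinearMap.ext fun x => ?_
        induction x using Submodule.Quotient.induction_on with | _ x => ?_
        have h2 := intertwine_algebra (σ := quotRep ρ S hS) S.mkQ (fun g v => rfl) a x
        rw [hac] at h2
        exact h2.symm
      · refine LinearMap.ext fun x => ?_
        induction x using Submodule.Quotient.induction_on with | _ x => ?_
        show S.mapQ S (ρ g) (hS g) (Submodule.Quotient.mk x) = Submodule.Quotient.mk x
        simp [hg]
  · rw [List.map_cons, List.sum_cons, ← hsum, bch_add ρ S hS,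
      bch_congr e (finRep_intertwine _)]

/-- Brauer characters and homomorphisms. -/
theorem bch_comp {H : Type*} [Group H] [Finite H] (ρ : Representation (Res V) G W) (f : H →* G)
    {h : H} (hh : IsPRegular p h) : bch p (ρ.comp f) h = bch p ρ (f h) := by
  have hf : IsPRegular p (f h) := fun hd => hh (hd.trans (orderOf_map_dvd f h))
  rw [bch_of_regular _ hh, bch_of_regular ρ hf]
  rfl

theorem bch_one (ρ : Representation (Res V) G W) : bch p ρ 1 = finrank (Res V) W := by
  classical
  have h1 : IsPRegular p (1 : G) := by rw [IsPRegular, orderOf_one]; exact hp.out.not_dvd_one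
  rw [bch_of_regular ρ h1, map_one, LinearMap.charpoly_one, roots_pow,
    ← map_one (C : Res V →+* (Res V)[X]), roots_X_sub_C, Multiset.nsmul_singleton,
    Multiset.map_replicate, Multiset.sum_replicate, liftRoot_one, nsmul_one]

/-- A representation whose character is known: the reduction of an integral form. -/
theorem bch_toLin {ι : Type*} [Fintype ι] [DecidableEq ι] (A : G →* Matrix ι ι V)
    (ρ : Representation (Res V) G (ι → Res V))
    (hρ : ∀ g, ρ g = Matrix.toLin' ((A g).map (IsLocalRing.residue V))) {g : G}
    (hg : IsPRegular p g) : bch p ρ g = ((A g).trace : V) := by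
  classical
  rw [bch_of_regular ρ hg]
  set C : Matrix ι ι ℂ := (A g).map (algebraMap V ℂ) with hC
  have hs : C.charpoly.roots.map (fun z => X - Polynomial.C z) =
      C.charpoly.roots.map (fun z => X - Polynomial.C z) := rfl
  have hroot : ∀ z ∈ C.charpoly.roots, IsPrimeRoot p z := by
    intro z hz
    refine ⟨orderOf g, hg, ?_⟩
    have h1 : Module.End.HasEigenvalue (Matrix.toLin' C) z := by
      rw [Module.End.hasEigenvalue_iff_isRoot_charpoly, Matrix.charpoly_toLin']
      exact Polynomial.isRoot_of_mem_roots hz
    obtain ⟨w, hw⟩ := h1.exists_hasEigenvector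
    have h2 := hw.pow_apply (orderOf g)
    have h3 : C ^ orderOf g = 1 := by
      rw [hC, ← RingHom.mapMatrix_apply, ← map_pow, ← map_pow, pow_orderOf_eq_one, map_one, map_one]
    rw [← Matrix.toLin'_pow, h3, Matrix.toLin'_one, LinearMap.id_apply] at h2
    by_contra hne
    refine hw.2 ((smul_eq_zero.1 (?_ : (z ^ orderOf g - 1) • w = 0)).resolve_left
      (sub_ne_zero.2 hne))
    rw [sub_smul, one_smul, ← h2, sub_self]
  set R : Multiset V := C.charpoly.roots.attach.map fun z => ⟨z.1, (hroot z.1 z.2).mem⟩ with hR
  have hRmap : R.map (algebraMap V ℂ) = C.charpoly.roots := by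
    rw [hR, Multiset.map_map]
    exact Multiset.attach_map_val _
  have hfac : (A g).charpoly = (R.map fun z => X - Polynomial.C z).prod := by
    apply Polynomial.map_injective (algebraMap V ℂ) Subtype.val_injective
    rw [← Matrix.charpoly_map, Polynomial.map_multiset_prod, Multiset.map_map]
    rw [show ((Polynomial.map (algebraMap V ℂ)) ∘ fun z : V => X - Polynomial.C z) =
      (fun z => X - Polynomial.C z) ∘ (algebraMap V ℂ) from funext fun z => by simp,
      ← Multiset.map_map, hRmap]
    exact (IsAlgClosed.splits C.charpoly).eq_prod_roots_of_monic C.charpoly_monic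
  have hres : (ρ g).charpoly.roots = R.map (IsLocalRing.residue V) := by
    rw [hρ, Matrix.charpoly_toLin', Matrix.charpoly_map, hfac, Polynomial.map_multiset_prod,
      Multiset.map_map]
    rw [show ((Polynomial.map (IsLocalRing.residue V)) ∘ fun z : V => X - Polynomial.C z) =
      (fun z => X - Polynomial.C z) ∘ (IsLocalRing.residue V) from funext fun z => by simp,
      ← Multiset.map_map, Polynomial.roots_multiset_prod_X_sub_C]
  rw [hres, Multiset.map_map]
  have hlift : R.map ((liftRoot p) ∘ (IsLocalRing.residue V)) = R.map (algebraMap V ℂ) := by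
    refine Multiset.map_congr rfl fun z hz => ?_
    obtain ⟨y, -, rfl⟩ := Multiset.mem_map.1 hz
    exact liftRoot_res (hroot y.1 y.2)
  rw [hlift, hRmap, ← Matrix.trace_eq_sum_roots_charpoly, hC]
  simp [Matrix.trace]

end CfsgLib.BrauerChar
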