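import Cfsg.Agent.Lib.Blocks.LocalRing
import Cfsg.Agent.Lib.Modular.SimpleRep

/-!
# Places of `ℂ` over `M` and lifting of roots of unity of order prime to `p`
-/

set_option autoImplicit false
set_option linter.unusedSectionVars false
set_option linter.style.haveILetI false

namespace CfsgLib.BrauerChar

open Cfsg Polynomial
open CfsgLib.Blocks (loc locIdeal)

/-- The residue field of a valuation ring of `ℂ`. -/
abbrev Res (V : ValuationSubring ℂ) : Type := IsLocalRing.ResidueField V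

/-- The residue fields of valuation rings of `ℂ` are algebraically closed. -/
instance instIsAlgClosedRes (V : ValuationSubring ℂ) : IsAlgClosed (Res V) := by
  refine IsAlgClosed.of_exists_root _ fun f hf hirr => ?_
  obtain ⟨P, hP, hdeg, hPm⟩ := Polynomial.lifts_and_degree_eq_and_monic
    (f := IsLocalRing.residue V) (p := f)
    (Polynomial.map_surjective (IsLocalRing.residue V) IsLocalRing.residue_surjective f) hf
  obtain ⟨z, hz⟩ := IsAlgClosed.exists_root (P.map (algebraMap V ℂ)) (by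
    rw [hPm.degree_map, hdeg]
    exact hirr.degree_pos.ne')
  have hint : IsIntegral V z := ⟨P, hPm, by rw [← Polynomial.eval_map]; exact hz⟩
  obtain ⟨y, rfl⟩ := IsIntegrallyClosed.isIntegral_iff.1 hint
  refine ⟨IsLocalRing.residue V y, ?_⟩
  rw [← hP, Polynomial.eval_map, Polynomial.eval₂_at_apply]
  rw [Polynomial.IsRoot, Polynomial.eval_map, Polynomial.eval₂_at_apply,
    map_eq_zero_iff _ (IsFractionRing.injective V ℂ)] at hz
  rw [hz, map_zero]

variable {p : ℕ} [hp : Fact p.Prime] {M : Ideal AlgInt} [M.IsPrime]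

/-- A valuation ring of `ℂ` lying over the local ring at `M`. -/
structure IsPlaceOver (p : ℕ) (M : Ideal AlgInt) [M.IsPrime] (V : ValuationSubring ℂ) : Prop where
  mem_of_loc : ∀ z ∈ loc M, z ∈ V
  res_eq_zero_iff : ∀ (z : ℂ) (hz : z ∈ loc M),
    IsLocalRing.residue V ⟨z, mem_of_loc z hz⟩ = 0 ↔ MemLocalIdeal M z
  charP : CharP (Res V) p

theorem exists_place (hpM : (p : AlgInt) ∈ M) : ∃ V : ValuationSubring ℂ, IsPlaceOver p M V := by
  have hne : locIdeal M ≠ ⊤ := (Blocks.instLocIdealPrime (M := M)).ne_top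
  obtain ⟨V, hAV, hV⟩ := Ideal.image_subset_nonunits_valuationSubring (locIdeal M) hne
  have hres : ∀ (z : ℂ) (hz : z ∈ loc M),
      IsLocalRing.residue V ⟨z, hAV hz⟩ = 0 ↔ MemLocalIdeal M z := by
    intro z hz
    refine ⟨fun h => by_contra fun hn => ?_, fun h => ?_⟩
    · obtain ⟨w, hw⟩ := Blocks.isUnit_of_notMem_locIdeal (x := (⟨z, hz⟩ : loc M)) hn
      have h1 : (z : ℂ) * ((↑(w⁻¹) : loc M) : ℂ) = 1 := by
        have := congrArg Subtype.val w.mul_inv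
        push_cast at this
        rwa [hw] at this
      have h2 : (⟨z, hAV hz⟩ : V) * ⟨_, hAV (↑(w⁻¹) : loc M).2⟩ = 1 := Subtype.ext h1
      have h3 := congrArg (IsLocalRing.residue V) h2
      rw [map_mul, h, zero_mul, map_one] at h3
      exact zero_ne_one h3
    · have h1 : z ∈ V.nonunits := hV ⟨⟨z, hz⟩, h, rfl⟩
      rw [← SetLike.mem_coe, ← V.image_maximalIdeal] at h1
      obtain ⟨y, hy, hye⟩ := h1
      have : y = ⟨z, hAV hz⟩ := Subtype.ext hye
      subst this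
      exact (IsLocalRing.residue_eq_zero_iff _).2 hy
  refine ⟨V, ⟨fun z hz => hAV hz, hres, ?_⟩⟩
  refine ringChar.eq_iff.1 (CharP.ringChar_of_prime_eq_zero hp.out ?_)
  have h1 := (hres (p : ℂ) (natCast_mem _ p)).2 (Blocks.memLocalIdeal_prime hpM)
  rw [← h1, show (⟨(p : ℂ), hAV (natCast_mem _ p)⟩ : V) = (p : V) from Subtype.ext (by simp),
    map_natCast]

variable (p) (V : ValuationSubring ℂ)

/-- A root of unity of order prime to `p`. -/
def IsPrimeRoot (z : ℂ) : Prop := ∃ m : ℕ, ¬ p ∣ m ∧ z ^ m = 1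

variable {p V}

theorem IsPrimeRoot.mem {z : ℂ} (h : IsPrimeRoot p z) : z ∈ V := by
  obtain ⟨m, hm, hz⟩ := h
  have hm0 : m ≠ 0 := fun h0 => hm (h0 ▸ dvd_zero p)
  obtain ⟨y, hy⟩ := IsIntegrallyClosed.isIntegral_iff.1
    (IsIntegral.of_pow (R := V) (Nat.pos_of_ne_zero hm0) (hz ▸ isIntegral_one))
  exact hy ▸ y.2

theorem IsPrimeRoot.one : IsPrimeRoot p (1 : ℂ) := ⟨1, hp.out.not_dvd_one, one_pow 1⟩

variable (p) in
/-- `z` lifts `x`. -/
def IsLift (x : Res V) (z : ℂ) : Prop :=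
  IsPrimeRoot p z ∧ ∃ hz : z ∈ V, IsLocalRing.residue V ⟨z, hz⟩ = x

variable [CharP (Res V) p]

theorem eq_one_of_res_eq_one {z : ℂ} (h : IsPrimeRoot p z) {hz : z ∈ V}
    (hr : IsLocalRing.residue V ⟨z, hz⟩ = 1) : z = 1 := by
  obtain ⟨m, hm, hzm⟩ := h
  by_contra hne
  have h1 : ∑ i ∈ Finset.range m, (⟨z, hz⟩ : V) ^ i = 0 := by
    have h0 : ((⟨z, hz⟩ : V) - 1) * ∑ i ∈ Finset.range m, (⟨z, hz⟩ : V) ^ i = 0 := by
      rw [mul_geom_sum, sub_eq_zero]
      exact Subtype.ext (by simpa using hzm)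
    exact (mul_eq_zero.1 h0).resolve_left fun h => hne (congrArg Subtype.val (sub_eq_zero.1 h))
  have h2 := congrArg (IsLocalRing.residue V) h1
  rw [map_sum, map_zero, Finset.sum_congr rfl (g := fun _ => (1 : Res V))
    (fun i _ => by rw [map_pow, hr, one_pow]), Finset.sum_const, Finset.card_range, nsmul_one,
    CharP.cast_eq_zero_iff _ p] at h2
  exact hm h2

theorem IsPrimeRoot.mul {z w : ℂ} (hz : IsPrimeRoot p z) (hw : IsPrimeRoot p w) :
    IsPrimeRoot p (z * w) := by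
  obtain ⟨m, hm, hzm⟩ := hz
  obtain ⟨n, hn, hwn⟩ := hw
  refine ⟨m * n, hp.out.not_dvd_mul hm hn, ?_⟩
  rw [mul_pow, pow_mul, hzm, one_pow, mul_comm m n, pow_mul, hwn, one_pow, mul_one]

theorem IsPrimeRoot.inv {z : ℂ} (hz : IsPrimeRoot p z) : IsPrimeRoot p z⁻¹ := by
  obtain ⟨m, hm, hzm⟩ := hz
  exact ⟨m, hm, by rw [inv_pow, hzm, inv_one]⟩

theorem IsLift.unique {x : Res V} {z w : ℂ} (hz : IsLift p x z) (hw : IsLift p x w) : z = w := by
  obtain ⟨hzr, hzV, hz⟩ := hz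
  obtain ⟨hwr, hwV, hw⟩ := hw
  have hq : IsPrimeRoot p (z * w⁻¹) := hzr.mul hwr.inv
  have hwi : w⁻¹ ∈ V := hwr.inv.mem
  have hw0 : w ≠ 0 := by
    intro h0
    obtain ⟨m, hm, h⟩ := hwr
    have hm0 : m ≠ 0 := fun h1 => hm (h1 ▸ dvd_zero p)
    simp [h0, zero_pow hm0] at h
  have h1 : IsLocalRing.residue V ⟨z * w⁻¹, mul_mem hzV hwi⟩ = 1 := by
    rw [show (⟨z * w⁻¹, mul_mem hzV hwi⟩ : V) = ⟨z, hzV⟩ * ⟨w⁻¹, hwi⟩ from rfl, map_mul, hz,
      ← hw, ← map_mul]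
    rw [show (⟨w, hwV⟩ : V) * ⟨w⁻¹, hwi⟩ = 1 from Subtype.ext (mul_inv_cancel₀ hw0), map_one]
  exact mul_inv_eq_one₀ hw0 |>.1 (eq_one_of_res_eq_one hq h1)

theorem exists_isLift {m : ℕ} (hm : ¬ p ∣ m) {x : Res V} (hx : x ^ m = 1) :
    ∃ z, IsLift p x z := by
  classical
  have hm0 : m ≠ 0 := fun h1 => hm (h1 ▸ dvd_zero p)
  have hprim := Complex.isPrimitiveRoot_exp m hm0
  set ζ := Complex.exp (2 * Real.pi * Complex.I / m) with hζ
  have hζr : IsPrimeRoot p ζ := ⟨m, hm, hprim.pow_eq_one⟩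
  have hζV : ζ ∈ V := hζr.mem
  have hpr : IsPrimitiveRoot (IsLocalRing.residue V ⟨ζ, hζV⟩) m := by
    refine IsPrimitiveRoot.mk_of_lt _ (Nat.pos_of_ne_zero hm0) ?_ fun l hl0 hlm h => ?_
    · rw [← map_pow, show (⟨ζ, hζV⟩ : V) ^ m = 1 from Subtype.ext hprim.pow_eq_one, map_one]
    · rw [← map_pow] at h
      have h1 : (ζ : ℂ) ^ l = 1 := eq_one_of_res_eq_one (z := ζ ^ l)
        ⟨m, hm, by rw [← pow_mul, mul_comm, pow_mul, hprim.pow_eq_one, one_pow]⟩
        (hz := pow_mem hζV l) h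
      exact hlm.not_ge (Nat.le_of_dvd hl0 ((hprim.pow_eq_one_iff_dvd l).1 h1))
  haveI : NeZero m := ⟨hm0⟩
  obtain ⟨i, -, hi⟩ := hpr.eq_pow_of_pow_eq_one hx
  refine ⟨ζ ^ i, ⟨m, hm, by rw [← pow_mul, mul_comm, pow_mul, hprim.pow_eq_one, one_pow]⟩,
    pow_mem hζV i, ?_⟩
  rw [← hi, ← map_pow]
  rfl

variable (p) in
open Classical in
/-- The lift of a root of unity of the residue field. -/
noncomputable def liftRoot (x : Res V) : ℂ :=
  if h : ∃ z, IsLift p x z then h.choose else 0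

theorem liftRoot_eq {x : Res V} {z : ℂ} (h : IsLift p x z) : liftRoot p x = z := by
  rw [liftRoot, dif_pos ⟨z, h⟩]
  exact (Exists.choose_spec (⟨z, h⟩ : ∃ z, IsLift p x z)).unique h

theorem isLift_liftRoot {m : ℕ} (hm : ¬ p ∣ m) {x : Res V} (hx : x ^ m = 1) :
    IsLift p x (liftRoot p x) := by
  obtain ⟨z, hz⟩ := exists_isLift hm hx
  rw [liftRoot_eq hz]
  exact hz

theorem liftRoot_res {z : ℂ} (hz : IsPrimeRoot p z) :
    liftRoot p (IsLocalRing.residue V ⟨z, hz.mem⟩) = z :=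
  liftRoot_eq ⟨hz, hz.mem, rfl⟩

theorem liftRoot_one : liftRoot p (1 : Res V) = 1 :=
  liftRoot_eq ⟨IsPrimeRoot.one, one_mem V, map_one _⟩

end CfsgLib.BrauerChar
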