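import Cfsg.Agent.Lib.Modular.ProjMaps
import Cfsg.Agent.Lib.Modular.SimpleRep
import Mathlib.Algebra.Ring.GeomSum

/-!
# The top of the nonprojective part is simple

`P = ⟨u⟩` is normal of order `p` in `K` with index prime to `p`.  If every endomorphism of the
image of an idempotent `π` is a scalar modulo projective maps, at most one simple module receives
a nonprojective map from it.
-/

set_option linter.unusedSectionVars false
set_option linter.style.haveILetI false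

namespace CfsgLib.Modular

open Module Finset

universe w

variable {k : Type*} [Field k] [IsAlgClosed k] {K : Type*} [Group K] [Fintype K] {p : ℕ}
  [Fact p.Prime] [CharP k p]
  {V : Type*} {W₁ W₂ : Type w} [AddCommGroup V] [Module k V] [FiniteDimensional k V]
  [AddCommGroup W₁] [Module k W₁] [FiniteDimensional k W₁]
  [AddCommGroup W₂] [Module k W₂] [FiniteDimensional k W₂]
  {ρ : Representation k K V} {σ₁ : Representation k K W₁} {σ₂ : Representation k K W₂}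

/-- A conjugate of `ρ u - 1` is a right multiple of it. -/
theorem exists_geom {u : K} [(Subgroup.zpowers u).Normal] (g : K) :
    ∃ i : ℕ, g * u * g⁻¹ = u ^ i ∧
      ρ g * (ρ u - 1) = (ρ u - 1) * (∑ j ∈ range i, ρ u ^ j) * ρ g := by
  have hmem : g * u * g⁻¹ ∈ Subgroup.zpowers u :=
    Subgroup.Normal.conj_mem inferInstance u (Subgroup.mem_zpowers u) g
  obtain ⟨i, hi⟩ := (isOfFinOrder_of_finite u).mem_powers_iff_mem_zpowers.2 hmem
  refine ⟨i, hi.symm, ?_⟩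
  rw [mul_geom_sum, sub_mul, mul_sub, one_mul, mul_one, ← map_pow,
    show u ^ i = g * u * g⁻¹ from hi, ← map_mul, ← map_mul, inv_mul_cancel_right]

theorem invar_map_pow {u : K} [(Subgroup.zpowers u).Normal] {U : Submodule k V}
    (hU : IsInvar ρ U) (n : ℕ) : IsInvar ρ (U.map ((ρ u - 1) ^ n)) := by
  induction n with
  | zero => simpa [Module.End.one_eq_id] using hU
  | succ n ih =>
    rw [pow_succ', Module.End.mul_eq_comp, Submodule.map_comp]
    rintro g _ ⟨v, hv, rfl⟩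
    obtain ⟨i, -, hi⟩ := exists_geom (ρ := ρ) (u := u) g
    refine ⟨((∑ j ∈ range i, ρ u ^ j) * ρ g) v, ?_, ?_⟩
    · rw [Module.End.mul_apply, LinearMap.sum_apply]
      exact Submodule.sum_mem _ fun j _ => by
        rw [← map_pow]; exact ih _ _ (ih g v hv)
    · rw [← Module.End.mul_apply, ← mul_assoc, ← hi]
      rfl

theorem invar_ker_pow {u : K} [(Subgroup.zpowers u).Normal] (n : ℕ) :
    IsInvar ρ (LinearMap.ker ((ρ u - 1) ^ n)) := by
  induction n with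
  | zero =>
    intro g v hv
    simp [Module.End.one_eq_id] at hv ⊢
    simp [hv]
  | succ n ih =>
    intro g v hv
    rw [LinearMap.mem_ker] at hv ⊢
    obtain ⟨i, -, hi⟩ := exists_geom (ρ := ρ) (u := u) g⁻¹
    have hX : (ρ u - 1) * ρ g = ρ g * ((ρ u - 1) * ∑ j ∈ range i, ρ u ^ j) := by
      calc (ρ u - 1) * ρ g = ρ g * (ρ g⁻¹ * (ρ u - 1)) * ρ g := by
            rw [← mul_assoc, ← map_mul, mul_inv_cancel, map_one, one_mul]
        _ = _ := by rw [hi, mul_assoc, mul_assoc, ← map_mul, inv_mul_cancel, map_one, mul_one]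
    have hc : Commute ((ρ u - 1) ^ (n + 1)) (∑ j ∈ range i, ρ u ^ j) :=
      Commute.sum_right _ _ _ fun j _ =>
        ((((Commute.refl (ρ u)).sub_left (Commute.one_left _)).pow_left _).pow_right j)
    have h2 : (ρ g * ((ρ u - 1) * ∑ j ∈ range i, ρ u ^ j)) v ∈ LinearMap.ker ((ρ u - 1) ^ n) := by
      refine ih g _ (LinearMap.mem_ker.2 ?_)
      rw [← Module.End.mul_apply, ← mul_assoc, ← pow_succ, hc.eq, Module.End.mul_apply, hv,
        map_zero]
    rw [pow_succ, Module.End.mul_apply, ← Module.End.mul_apply (ρ u - 1), hX]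
    exact h2

theorem pow_apply_invar {u : K} {U : Submodule k V} (hU : IsInvar ρ U) (n : ℕ) {v : V}
    (hv : v ∈ U) : ((ρ u - 1) ^ n) v ∈ U := by
  induction n with
  | zero => simpa using hv
  | succ n ih =>
    rw [pow_succ', Module.End.mul_apply]
    exact U.sub_mem (hU u _ ih) ih

theorem not_isProjMap_ne_zero {f : V →ₗ[k] W₁} (h : ¬ IsProjMap σ₁ ρ f) : f ≠ 0 :=
  fun h0 => h (h0 ▸ IsProjMap.zero)

set_option maxHeartbeats 1000000 in
/-- **The top is unique.** -/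
theorem top_unique {u : K} [(Subgroup.zpowers u).Normal] (hu : u ^ p = 1)
    (hm : (Nat.card (K ⧸ Subgroup.zpowers u) : k) ≠ 0)
    (h₁ : IsSimpleRep σ₁) (h₂ : IsSimpleRep σ₂) {φ₁ : V →ₗ[k] W₁} (hφ₁ : IsEquivar σ₁ ρ φ₁)
    {φ₂ : V →ₗ[k] W₂} (hφ₂ : IsEquivar σ₂ ρ φ₂) {π : V →ₗ[k] V} (hπ : IsEquivar ρ ρ π)
    (hidem : π ∘ₗ π = π)
    (hst : ∀ f : V →ₗ[k] V, IsEquivar ρ ρ f → ∃ c : k, IsProjMap ρ ρ (π ∘ₗ f ∘ₗ π - c • π))
    (hn₁ : ¬ IsProjMap σ₁ ρ (φ₁ ∘ₗ π)) (hn₂ : ¬ IsProjMap σ₂ ρ (φ₂ ∘ₗ π)) :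
    ∃ ψ : W₁ →ₗ[k] W₂, ψ ≠ 0 ∧ IsEquivar σ₂ σ₁ ψ := by
  classical
  induction hd : finrank k (LinearMap.range π) using Nat.strong_induction_on generalizing π with
  | _ d IH =>
  subst hd
  obtain ⟨X, hX⟩ : ∃ X : Module.End k V, X = ρ u - 1 := ⟨_, rfl⟩
  have hp : IsPGroup p (Subgroup.zpowers u) := by
    rintro ⟨w, hw⟩
    obtain ⟨i, rfl⟩ := Subgroup.mem_zpowers_iff.1 hw
    exact ⟨1, Subtype.ext (by simp [← zpow_natCast, ← zpow_mul, mul_comm i,
      zpow_mul u (p : ℤ), zpow_natCast u p, hu])⟩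
  have hidem' : ∀ v, π (π v) = π v := fun v => LinearMap.congr_fun hidem v
  have hπX : ∀ j v, π ((X ^ j) v) = (X ^ j) (π v) := by
    intro j
    induction j with
    | zero => simp
    | succ j ih =>
      intro v
      rw [pow_succ', Module.End.mul_apply, Module.End.mul_apply, ← ih, hX, LinearMap.sub_apply,
        LinearMap.sub_apply, map_sub, hπ.apply, Module.End.one_apply, Module.End.one_apply]
  have hπinv : IsInvar ρ (LinearMap.range π) := IsInvar.range hπ.apply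
  have hπmem : ∀ v ∈ LinearMap.range π, π v = v := by rintro _ ⟨v, rfl⟩; exact hidem' v
  -- the nilpotency degree on the range
  have hnil : ∃ n, ∀ v, (X ^ n) (π v) = 0 := ⟨p, fun v => by
    haveI : Nontrivial (Module.End k V) := by
      by_contra hss
      rw [not_nontrivial_iff_subsingleton] at hss
      exact not_isProjMap_ne_zero hn₁ (by rw [Subsingleton.elim π 0, LinearMap.comp_zero])
    haveI : CharP (Module.End k V) p := charP_of_injective_algebraMap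
      (FaithfulSMul.algebraMap_injective k (Module.End k V)) p
    rw [hX, sub_pow_char_of_commute p (Commute.one_right (ρ u)), one_pow, ← map_pow, hu, map_one,
      sub_self, LinearMap.zero_apply]⟩
  obtain ⟨n, hn0, hnlt⟩ : ∃ n, (∀ v, (X ^ n) (π v) = 0) ∧ ∀ m < n, ∃ v, (X ^ m) (π v) ≠ 0 :=
    ⟨Nat.find hnil, Nat.find_spec hnil, fun m hm => not_forall.1 (Nat.find_min hnil hm)⟩
  obtain ⟨n, rfl⟩ : ∃ n', n = n' + 1 := by
    refine Nat.exists_eq_succ_of_ne_zero fun h => ?_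
    subst h
    refine not_isProjMap_ne_zero hn₁ ?_
    rw [show π = 0 from LinearMap.ext fun v => by simpa using hn0 v, LinearMap.comp_zero]
  -- a minimal submodule of full length
  obtain ⟨v₀, hv₀⟩ := hnlt n (Nat.lt_succ_self n)
  have hex : ∃ r, ∃ U : Submodule k V, IsInvar ρ U ∧ U ≤ LinearMap.range π ∧
      (∃ v ∈ U, (X ^ n) v ≠ 0) ∧ finrank k U = r :=
    ⟨_, _, hπinv, le_rfl, ⟨π v₀, ⟨v₀, rfl⟩, hv₀⟩, rfl⟩
  obtain ⟨V', hV', hV'π, ⟨v₁, hv₁, hv₁X⟩, hV'r⟩ := Nat.find_spec hex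
  have hmin : ∀ U : Submodule k V, IsInvar ρ U → U ≤ V' → U ≠ V' → ∀ v ∈ U, (X ^ n) v = 0 := by
    intro U hU hle hne v hv
    by_contra hvX
    refine Nat.find_min hex ?_ ⟨U, hU, hle.trans hV'π, ⟨v, hv, hvX⟩, rfl⟩
    rw [← hV'r]
    exact Submodule.finrank_lt_finrank_of_lt (lt_of_le_of_ne hle hne)
  obtain ⟨XV, hXV⟩ : ∃ XV : Submodule k V, XV = V'.map X := ⟨_, rfl⟩
  have hXVinv : IsInvar ρ XV := by
    have h := invar_map_pow (u := u) hV' 1
    rwa [pow_one, ← hX, ← hXV] at h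
  have hXVle : XV ≤ V' := by
    rw [hXV, hX]
    rintro _ ⟨v, hv, rfl⟩
    simpa using V'.sub_mem (hV' u v hv) hv
  have hXVX : ∀ v ∈ XV, (X ^ n) v = 0 := by
    rw [hXV]
    rintro _ ⟨v, hv, rfl⟩
    rw [← Module.End.mul_apply, ← pow_succ, ← hπmem v (hV'π hv)]
    exact hn0 v
  -- the averaging
  obtain ⟨m, hmdef⟩ : ∃ m : k, m = (Nat.card (K ⧸ Subgroup.zpowers u) : k) := ⟨_, rfl⟩
  rw [← hmdef] at hm
  have havg_fix : ∀ (f : V →ₗ[k] V) (Z : Submodule k V), IsInvar ρ Z → (∀ z ∈ Z, f z = z) →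
      ∀ z ∈ Z, (m⁻¹ • cosetSum ρ ρ (Subgroup.zpowers u) f) z = z := by
    intro f Z hZ hf z hz
    letI := Fintype.ofFinite (K ⧸ Subgroup.zpowers u)
    simp only [LinearMap.smul_apply, cosetSum, LinearMap.coe_sum, Finset.sum_apply, cj_apply,
      hf _ (hZ _ z hz), rep_self_inv, Finset.sum_const, Finset.card_univ,
      ← Nat.card_eq_fintype_card]
    rw [← Nat.cast_smul_eq_nsmul k, smul_smul, ← hmdef, inv_mul_cancel₀ hm, one_smul]
  have havg_mem : ∀ (f : V →ₗ[k] V) (Z : Submodule k V), IsInvar ρ Z → (∀ v, f v ∈ Z) →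
      ∀ v, (m⁻¹ • cosetSum ρ ρ (Subgroup.zpowers u) f) v ∈ Z := by
    intro f Z hZ hf v
    letI := Fintype.ofFinite (K ⧸ Subgroup.zpowers u)
    simp only [LinearMap.smul_apply, cosetSum, LinearMap.coe_sum, Finset.sum_apply, cj_apply]
    exact Z.smul_mem _ (Z.sum_mem fun q _ => hZ _ _ (hf _))
  -- the only maximal submodule of `V'` is `XV`
  have htop : ∀ U : Submodule k V, IsInvar ρ U → U ≤ V' → U ≠ V' → U ≤ XV := by
    intro U hU hle hne
    obtain ⟨W, hW⟩ : ∃ W : Submodule k V, W = U ⊔ XV := ⟨_, rfl⟩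
    have hWinv : IsInvar ρ W := by
      rw [hW]
      intro g v hv
      obtain ⟨a, ha, b, hb, rfl⟩ := Submodule.mem_sup.1 hv
      rw [map_add]
      exact Submodule.add_mem_sup (hU g a ha) (hXVinv g b hb)
    have hWX : ∀ v ∈ W, (X ^ n) v = 0 := by
      rw [hW]
      intro v hv
      obtain ⟨a, ha, b, hb, rfl⟩ := Submodule.mem_sup.1 hv
      rw [map_add, hmin U hU hle hne a ha, hXVX b hb, add_zero]
    obtain ⟨π₀', hπ₀'⟩ := LinearMap.exists_leftInverse_of_injective W.subtype W.ker_subtype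
    obtain ⟨π₀, hπ₀⟩ : ∃ f : V →ₗ[k] V, f = W.subtype ∘ₗ π₀' := ⟨_, rfl⟩
    have hπ₀W : ∀ w ∈ W, π₀ w = w := fun w hw => by
      rw [hπ₀]
      exact congrArg Subtype.val (LinearMap.congr_fun hπ₀' ⟨w, hw⟩)
    have hπ₀mem : ∀ v, π₀ v ∈ W := fun v => by rw [hπ₀]; exact (π₀' v).2
    obtain ⟨π', hπ'⟩ : ∃ f : V →ₗ[k] V, f = m⁻¹ • cosetSum ρ ρ (Subgroup.zpowers u) π₀ :=
      ⟨_, rfl⟩
    have hWV : W ≤ V' := hW ▸ sup_le hle hXVle
    -- equivariance modulo `XV`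
    have hdiff : ∀ w ∈ Subgroup.zpowers u, ∀ v ∈ V', cj ρ ρ w π₀ v - π₀ v ∈ XV := by
      intro w hw v hv
      obtain ⟨i, rfl⟩ := (isOfFinOrder_of_finite u).mem_powers_iff_mem_zpowers.2 hw
      show cj ρ ρ (u ^ i) π₀ v - π₀ v ∈ XV
      have hpow : ∀ (j : ℕ) (z : V), z ∈ V' → ρ (u ^ j) z - z ∈ XV := by
        intro j z hz
        have hgs : ρ (u ^ j) - 1 = X * ∑ l ∈ range j, ρ u ^ l := by rw [map_pow, hX, mul_geom_sum]
        have h3 := LinearMap.congr_fun hgs z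
        rw [LinearMap.sub_apply, Module.End.one_apply, Module.End.mul_apply] at h3
        rw [h3, hXV]
        refine Submodule.mem_map_of_mem ?_
        rw [LinearMap.sum_apply]
        exact V'.sum_mem fun l _ => by rw [← map_pow]; exact hV' _ _ hz
      have hv' : ρ (u ^ i)⁻¹ v ∈ V' := hV' _ _ hv
      have e : cj ρ ρ (u ^ i) π₀ v - π₀ v = (ρ (u ^ i) (π₀ (ρ (u ^ i)⁻¹ v)) - π₀ (ρ (u ^ i)⁻¹ v)) -
          π₀ (ρ (u ^ i) (ρ (u ^ i)⁻¹ v) - ρ (u ^ i)⁻¹ v) := by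
        rw [cj_apply, map_sub, rep_self_inv]
        abel
      rw [e]
      refine XV.sub_mem (hpow i _ (hWV (hπ₀mem _))) ?_
      rw [hπ₀W _ (hW ▸ Submodule.mem_sup_right (hpow i _ hv'))]
      exact hpow i _ hv'
    have hequiv : ∀ g, ∀ v ∈ V', π' (ρ g v) - ρ g (π' v) ∈ XV := by
      intro g v hv
      letI := Fintype.ofFinite (K ⧸ Subgroup.zpowers u)
      have h1 : π' (ρ g v) = m⁻¹ • ∑ q : K ⧸ Subgroup.zpowers u, cj ρ ρ (Quotient.out (g • q)) π₀ (ρ g v) := by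
        rw [hπ', LinearMap.smul_apply, cosetSum, LinearMap.sum_apply]
        congr 1
        exact (Equiv.sum_comp (MulAction.toPerm g) fun q : K ⧸ Subgroup.zpowers u => cj ρ ρ q.out π₀ (ρ g v)).symm
      have h2 : ρ g (π' v) = m⁻¹ • ∑ q : K ⧸ Subgroup.zpowers u, cj ρ ρ (g * q.out) π₀ (ρ g v) := by
        rw [hπ', LinearMap.smul_apply, cosetSum, LinearMap.sum_apply, map_smul, map_sum]
        congr 1
        refine Finset.sum_congr rfl fun q _ => ?_
        rw [← cj_cj]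
        simp [cj_apply, rep_inv_self]
      rw [h1, h2, ← smul_sub, ← Finset.sum_sub_distrib]
      refine XV.smul_mem _ (XV.sum_mem fun q _ => ?_)
      obtain ⟨w, hw⟩ := QuotientGroup.mk_out_eq_mul (Subgroup.zpowers u) (g * q.out)
      have hq : (g • q) = (QuotientGroup.mk (g * q.out) : K ⧸ Subgroup.zpowers u) := by
        conv_lhs => rw [← QuotientGroup.out_eq' q]
        rfl
      rw [hq, hw, ← cj_cj, cj_apply, cj_apply (g := g * q.out) (f := π₀), ← map_sub]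
      exact hXVinv _ _ (hdiff _ w.2 _ (hV' _ _ (hV' _ _ hv)))
    have hπ'W : ∀ w ∈ W, π' w = w := hπ' ▸ havg_fix π₀ W hWinv hπ₀W
    have hπ'mem : ∀ v, π' v ∈ W := hπ' ▸ havg_mem π₀ W hWinv hπ₀mem
    by_cases hL : ∀ v ∈ V', π' v ∈ XV
    · intro x hx
      have hxW : x ∈ W := hW ▸ Submodule.mem_sup_left hx
      have := hL x (hle hx)
      rwa [hπ'W x hxW] at this
    have hLinv : IsInvar ρ (V' ⊓ XV.comap π') := fun g v hv => by
      refine ⟨hV' g v hv.1, ?_⟩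
      show π' (ρ g v) ∈ XV
      have := XV.add_mem (hequiv g v hv.1) (hXVinv g _ hv.2)
      rwa [sub_add_cancel] at this
    have hLne : V' ⊓ XV.comap π' ≠ V' := fun h => hL fun v hv => (h.ge hv).2
    exfalso
    refine hv₁X ?_
    rw [show v₁ = (v₁ - π' v₁) + π' v₁ from (sub_add_cancel _ _).symm, map_add,
      hWX _ (hπ'mem v₁), add_zero]
    refine hmin _ hLinv inf_le_left hLne _ ⟨V'.sub_mem hv₁ (hWV (hπ'mem v₁)), ?_⟩
    show π' (v₁ - π' v₁) ∈ XV
    rw [map_sub, hπ'W _ (hπ'mem v₁), sub_self]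
    exact XV.zero_mem
  -- the fixed points of `u` in `V'` are the top layer
  have hfree : ∀ d j, j + d = n + 1 → ∀ v ∈ V', (X ^ j) v = 0 → v ∈ V'.map (X ^ d) := by
    intro d
    induction d with
    | zero => intro j _ v hv _; exact ⟨v, hv, by simp⟩
    | succ d ih =>
      intro j hj v hv hv0
      have hK : IsInvar ρ (V' ⊓ LinearMap.ker (X ^ n)) := fun g z hz =>
        ⟨hV' g z hz.1, hX ▸ invar_ker_pow (u := u) n g z (hX ▸ hz.2)⟩
      have hKne : V' ⊓ LinearMap.ker (X ^ n) ≠ V' := fun h => hv₁X (h.ge hv₁).2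
      have hvK : v ∈ V' ⊓ LinearMap.ker (X ^ n) := ⟨hv, by
        rw [SetLike.mem_coe, LinearMap.mem_ker, show n = (n - j) + j by omega, pow_add, Module.End.mul_apply, hv0,
          map_zero]⟩
      have hvX := htop _ hK inf_le_left hKne hvK
      rw [hXV] at hvX
      obtain ⟨v', hv', rfl⟩ := hvX
      obtain ⟨z, hz, rfl⟩ := ih (j + 1) (by omega) v' hv' (by
        rw [pow_succ, Module.End.mul_apply]; exact hv0)
      exact ⟨z, hz, by rw [pow_succ', Module.End.mul_apply]⟩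
  -- the retraction
  obtain ⟨Z, hZ⟩ : ∃ Z : Submodule k V, Z = V'.map (X ^ n) := ⟨_, rfl⟩
  obtain ⟨F, hFmem, hF⟩ : ∃ F : V →ₗ[k] V, (∀ v, F v ∈ V') ∧ ∀ z ∈ Z, (X ^ n) (F z) = z := by
    have hsurj : Function.Surjective ((X ^ n).restrict (p := V') (q := Z)
        fun v hv => hZ ▸ Submodule.mem_map_of_mem hv) := by
      rintro ⟨z, hz⟩
      obtain ⟨v, hv, rfl⟩ := hZ ▸ hz
      exact ⟨⟨v, hv⟩, rfl⟩
    obtain ⟨s, hs⟩ := LinearMap.exists_rightInverse_of_surjective _ (LinearMap.range_eq_top.2 hsurj)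
    obtain ⟨s', hs'⟩ := LinearMap.exists_extend s
    refine ⟨V'.subtype ∘ₗ s', fun v => (s' v).2, fun z hz => ?_⟩
    have h1 : s' z = s ⟨z, hz⟩ := LinearMap.congr_fun hs' ⟨z, hz⟩
    show (X ^ n) ((s' z : V') : V) = z
    rw [h1]
    exact congrArg Subtype.val (LinearMap.congr_fun hs ⟨z, hz⟩)
  obtain ⟨r₀, hr₀⟩ : ∃ r : V →ₗ[k] V,
      r = ∑ i ∈ range (n + 1), (X ^ (n - i)) ∘ₗ F ∘ₗ (X ^ i) ∘ₗ π := ⟨_, rfl⟩
  have hr₀mem : ∀ v, r₀ v ∈ V' := fun v => by
    rw [hr₀, LinearMap.sum_apply]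
    refine V'.sum_mem fun i _ => ?_
    rw [hX]
    exact pow_apply_invar hV' _ (hFmem _)
  have hr₀u : ∀ v, r₀ (X v) = X (r₀ v) := by
    intro v
    simp only [hr₀, LinearMap.sum_apply, LinearMap.comp_apply, map_sum]
    have h1 : π (X v) = X (π v) := by simpa using hπX 1 v
    simp only [h1, ← Module.End.mul_apply (X ^ _) X, ← pow_succ,
      ← Module.End.mul_apply X (X ^ _), ← pow_succ']
    rw [Finset.sum_range_succ, Finset.sum_range_succ' (fun i => (X ^ (n - i + 1)) _)]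
    have hb : F ((X ^ (n + 1)) (π v)) = 0 := by rw [hn0, map_zero]
    have hz : (X ^ (n - 0 + 1)) (F ((X ^ 0) (π v))) = 0 := by
      rw [Nat.sub_zero, ← hπmem _ (hV'π (hFmem _))]
      exact hn0 _
    rw [hb, map_zero, add_zero, hz, add_zero]
    refine Finset.sum_congr rfl fun i hi => ?_
    rw [show n - (i + 1) + 1 = n - i by rw [Finset.mem_range] at hi; omega]
  have hr₀fix : ∀ z ∈ V' ⊓ LinearMap.ker X, r₀ z = z := by
    rintro z ⟨hz, hzX⟩
    rw [SetLike.mem_coe, LinearMap.mem_ker] at hzX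
    rw [SetLike.mem_coe] at hz
    have hzZ : z ∈ Z := hZ ▸ hfree n 1 (by omega) z hz (by simpa using hzX)
    rw [hr₀, LinearMap.sum_apply, Finset.sum_eq_single 0 (fun i _ hi => ?_)
      (fun h => absurd (Finset.mem_range.2 n.succ_pos) h)]
    · simp [hπmem z (hV'π hz), hF z hzZ]
    · obtain ⟨i, rfl⟩ := Nat.exists_eq_succ_of_ne_zero hi
      simp [hπmem z (hV'π hz), pow_succ, Module.End.mul_apply, hzX]
  have hr₀P : ∀ w ∈ Subgroup.zpowers u, cj ρ ρ w r₀ = r₀ := by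
    intro w hw
    obtain ⟨i, rfl⟩ := (isOfFinOrder_of_finite u).mem_powers_iff_mem_zpowers.2 hw
    have hc : Commute r₀ (ρ u) := by
      have h : Commute r₀ X := LinearMap.ext fun v => hr₀u v
      have h2 : ρ u = X + 1 := by rw [hX, sub_add_cancel]
      rw [h2]
      exact h.add_right (Commute.one_right _)
    refine LinearMap.ext fun v => ?_
    show cj ρ ρ (u ^ i) r₀ v = r₀ v
    have hcv : ∀ z, r₀ (ρ (u ^ i) z) = ρ (u ^ i) (r₀ z) := fun z => by
      rw [map_pow]; exact LinearMap.congr_fun (hc.pow_right i).eq z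
    rw [cj_apply, ← hcv, rep_self_inv]
  obtain ⟨r₁, hr₁⟩ : ∃ r : V →ₗ[k] V, r = m⁻¹ • cosetSum ρ ρ (Subgroup.zpowers u) r₀ := ⟨_, rfl⟩
  have hr₁eq : IsEquivar ρ ρ r₁ := hr₁ ▸ (isEquivar_cosetSum hr₀P).smul _
  have hr₁mem : ∀ v, r₁ v ∈ V' := hr₁ ▸ havg_mem r₀ V' hV' hr₀mem
  have hr₁fix : ∀ z ∈ V' ⊓ LinearMap.ker X, r₁ z = z := by
    refine hr₁ ▸ havg_fix r₀ _ (fun g z hz => ⟨hV' g z hz.1, ?_⟩) hr₀fix
    have := invar_ker_pow (ρ := ρ) (u := u) 1 g z (by rw [pow_one, ← hX]; exact hz.2)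
    rwa [pow_one, ← hX] at this
  have hr₁π : r₁ ∘ₗ π = r₁ := by
    rw [hr₁, LinearMap.smul_comp, ← cosetSum_comp_right hπ]
    congr 2
    rw [hr₀]
    exact LinearMap.ext fun v => by simp [LinearMap.sum_apply, hidem']
  have hinj : Function.Injective (r₁.restrict (p := V') (q := V') fun v _ => hr₁mem v) := by
    rw [← LinearMap.ker_eq_bot, Submodule.eq_bot_iff]
    rintro ⟨v, hv⟩ hv0
    rw [LinearMap.mem_ker] at hv0
    have hv0' : r₁ v = 0 := congrArg Subtype.val hv0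
    by_contra hvne
    have hvne' : v ≠ 0 := fun h => hvne (Subtype.ext h)
    have hj : ∃ j, (X ^ j) v = 0 := ⟨n + 1, by rw [← hπmem v (hV'π hv)]; exact hn0 _⟩
    obtain ⟨j, hj1⟩ : ∃ j, Nat.find hj = j + 1 := Nat.exists_eq_succ_of_ne_zero fun h => hvne' (by
      simpa [h] using Nat.find_spec hj)
    have hz : (X ^ j) v ≠ 0 := Nat.find_min hj (by omega)
    have hzmem : (X ^ j) v ∈ V' ⊓ LinearMap.ker X := by
      refine ⟨hX ▸ pow_apply_invar hV' j hv, ?_⟩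
      rw [SetLike.mem_coe, LinearMap.mem_ker, ← Module.End.mul_apply, ← pow_succ', ← hj1]
      exact Nat.find_spec hj
    refine hz ?_
    rw [← hr₁fix _ hzmem]
    have hcomm : Commute r₁ X := by
      rw [hX]
      exact Commute.sub_right (LinearMap.ext fun z => hr₁eq.apply u z) (Commute.one_right _)
    rw [show r₁ ((X ^ j) v) = (X ^ j) (r₁ v) from LinearMap.congr_fun (hcomm.pow_right j).eq v, hv0',
      map_zero]
  let eq := LinearEquiv.ofInjectiveEndo _ hinj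
  obtain ⟨r, hr⟩ : ∃ r : V →ₗ[k] V,
      r = V'.subtype ∘ₗ eq.symm.toLinearMap ∘ₗ r₁.codRestrict V' hr₁mem := ⟨_, rfl⟩
  have hrmem : ∀ v, r v ∈ V' := fun v => by rw [hr]; exact (eq.symm _).2
  have hrfix : ∀ v ∈ V', r v = v := fun v hv => by
    rw [hr]
    show ((eq.symm ⟨r₁ v, hr₁mem v⟩ : V') : V) = v
    rw [show (⟨r₁ v, hr₁mem v⟩ : V') = eq ⟨v, hv⟩ from Subtype.ext rfl, eq.symm_apply_apply]
  have hreq : IsEquivar ρ ρ r := by
    refine isEquivar_of_apply fun g v => ?_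
    rw [hr]
    show ((eq.symm ⟨r₁ (ρ g v), hr₁mem _⟩ : V') : V) = ρ g ((eq.symm ⟨r₁ v, hr₁mem v⟩ : V') : V)
    have h : (⟨ρ g ((eq.symm ⟨r₁ v, hr₁mem v⟩ : V') : V), hV' g _ (Submodule.coe_mem _)⟩ : V') =
        eq.symm ⟨r₁ (ρ g v), hr₁mem _⟩ := by
      rw [LinearEquiv.eq_symm_apply]
      refine Subtype.ext ?_
      show r₁ (ρ g _) = r₁ (ρ g v)
      rw [hr₁eq.apply, hr₁eq.apply]
      congr 1
      exact congrArg Subtype.val (eq.apply_symm_apply ⟨r₁ v, hr₁mem v⟩)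
    rw [← h]
  have hrπ : r ∘ₗ π = r := by
    rw [hr]
    refine LinearMap.ext fun v => ?_
    show ((eq.symm ⟨r₁ (π v), hr₁mem _⟩ : V') : V) = ((eq.symm ⟨r₁ v, hr₁mem v⟩ : V') : V)
    simp only [show r₁ (π v) = r₁ v from LinearMap.congr_fun hr₁π v]
  have hπr : π ∘ₗ r = r := LinearMap.ext fun v => hπmem _ (hV'π (hrmem v))
  have hrr : r ∘ₗ r = r := LinearMap.ext fun v => hrfix _ (hrmem v)
  obtain ⟨c, hc⟩ := hst r hreq
  rw [show π ∘ₗ r ∘ₗ π = r by rw [hrπ, hπr]] at hc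
  have hc' := hc.comp_left (b := r) hreq
  rw [LinearMap.comp_sub, LinearMap.comp_smul, hrr, hrπ] at hc'
  have hc1 : IsProjMap ρ ρ ((1 - c) • r) := by rwa [sub_smul, one_smul]
  by_cases h1c : c = 1
  · -- the top of `V'`
    subst h1c
    rw [one_smul] at hc
    have hnr : ∀ {W : Type w} [AddCommGroup W] [Module k W] {σ : Representation k K W}
        {φ : V →ₗ[k] W}, IsEquivar σ ρ φ → ¬ IsProjMap σ ρ (φ ∘ₗ π) → ∃ v ∈ V', φ v ≠ 0 := by
      intro W _ _ σ φ hφ hnon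
      by_contra hno
      simp only [not_exists, not_and, not_not] at hno
      refine hnon ?_
      have h := (hc.comp_left (b := φ) hφ).neg
      rw [LinearMap.comp_sub, neg_sub, show φ ∘ₗ r = 0 from LinearMap.ext fun v => hno _ (hrmem v),
        sub_zero] at h
      exact h
    obtain ⟨a₁, ha₁, ha₁'⟩ := hnr hφ₁ hn₁
    obtain ⟨a₂, ha₂, ha₂'⟩ := hnr hφ₂ hn₂
    have hker : ∀ {W : Type w} [AddCommGroup W] [Module k W] [FiniteDimensional k W]
        {σ : Representation k K W} {φ : V →ₗ[k] W}, IsSimpleRep σ → IsEquivar σ ρ φ →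
        (∃ v ∈ V', φ v ≠ 0) → V' ⊓ LinearMap.ker φ = XV := by
      intro W _ _ _ σ φ hσ hφ ⟨a, ha, ha'⟩
      have hinv : IsInvar ρ (V' ⊓ LinearMap.ker φ) := fun g v hv =>
        ⟨hV' g v hv.1, IsInvar.ker hφ.apply g v hv.2⟩
      refine le_antisymm (htop _ hinv inf_le_left fun h => ha' (h.ge ha).2) ?_
      intro z hz
      refine ⟨hXVle hz, ?_⟩
      obtain ⟨w, hw, rfl⟩ := hXV ▸ hz
      rw [SetLike.mem_coe, LinearMap.mem_ker, hX, LinearMap.sub_apply, map_sub, hφ.apply,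
        hσ.eq_one_of_normal hp (Subgroup.mem_zpowers u)]
      simp
    have hk₁ := hker h₁ hφ₁ ⟨a₁, ha₁, ha₁'⟩
    have hk₂ := hker h₂ hφ₂ ⟨a₂, ha₂, ha₂'⟩
    have hsurj : Function.Surjective (φ₁.domRestrict V') := by
      have hinv : IsInvar σ₁ (LinearMap.range (φ₁.domRestrict V')) := by
        rintro g _ ⟨v, rfl⟩
        exact ⟨⟨ρ g v, hV' g v v.2⟩, hφ₁.apply g v⟩
      refine LinearMap.range_eq_top.1 ((h₁.eq_bot_or_top _ hinv).resolve_left fun h => ha₁' ?_)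
      have : φ₁ a₁ ∈ LinearMap.range (φ₁.domRestrict V') := ⟨⟨a₁, ha₁⟩, rfl⟩
      rwa [h, Submodule.mem_bot] at this
    obtain ⟨s, hs⟩ := LinearMap.exists_rightInverse_of_surjective _ (LinearMap.range_eq_top.2 hsurj)
    have hwell : ∀ v ∈ V', φ₂ (s (φ₁ v) : V') = φ₂ v := by
      intro v hv
      have h1 : (s (φ₁ v) : V) - v ∈ V' ⊓ LinearMap.ker φ₁ :=
        ⟨V'.sub_mem (Submodule.coe_mem _) hv, by
          rw [SetLike.mem_coe, LinearMap.mem_ker, map_sub, sub_eq_zero]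
          exact LinearMap.congr_fun hs (φ₁ v)⟩
      rw [hk₁, ← hk₂] at h1
      exact sub_eq_zero.1 (by rw [← map_sub]; exact h1.2)
    refine ⟨φ₂ ∘ₗ V'.subtype ∘ₗ s, fun h => ha₂' ?_, isEquivar_of_apply fun g w => ?_⟩
    · rw [← hwell a₂ ha₂]
      exact LinearMap.congr_fun h (φ₁ a₂)
    · show φ₂ (s (σ₁ g w) : V') = σ₂ g (φ₂ (s w : V'))
      conv_lhs => rw [show w = φ₁ (s w : V') from (LinearMap.congr_fun hs w).symm, ← hφ₁.apply,
        hwell _ (hV' g _ (Submodule.coe_mem _)), hφ₂.apply]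
  -- remove `V'`
  have hrproj : IsProjMap ρ ρ r := by
    have h := hc1.smul (1 - c)⁻¹
    rwa [smul_smul, inv_mul_cancel₀ (sub_ne_zero.2 (Ne.symm h1c)), one_smul] at h
  obtain ⟨π₁, hπ₁⟩ : ∃ f : V →ₗ[k] V, f = π - r := ⟨_, rfl⟩
  have hπ₁eq : IsEquivar ρ ρ π₁ := hπ₁ ▸ hπ.sub hreq
  have hπ₁π : π₁ ∘ₗ π = π₁ := by rw [hπ₁, LinearMap.sub_comp, hidem, hrπ]
  have hππ₁ : π ∘ₗ π₁ = π₁ := by rw [hπ₁, LinearMap.comp_sub, hidem, hπr]
  have hidem₁ : π₁ ∘ₗ π₁ = π₁ := by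
    rw [hπ₁, LinearMap.comp_sub, LinearMap.sub_comp, LinearMap.sub_comp, hidem, hrπ, hπr, hrr]
    abel
  have hlt : finrank k (LinearMap.range π₁) < finrank k (LinearMap.range π) := by
    refine Submodule.finrank_lt_finrank_of_lt (lt_of_le_of_ne ?_ fun h => ?_)
    · rw [← hππ₁]; exact LinearMap.range_comp_le_range _ _
    · obtain ⟨z, hz⟩ : v₁ ∈ LinearMap.range π₁ := h ▸ hV'π hv₁
      refine hv₁X ?_
      have h2 : r v₁ = v₁ := hrfix _ hv₁
      have h3 : r (π₁ z) = 0 := by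
        rw [hπ₁, LinearMap.sub_apply, map_sub, show r (π z) = r z from LinearMap.congr_fun hrπ z,
          show r (r z) = r z from LinearMap.congr_fun hrr z, sub_self]
      rw [hz, h2] at h3
      rw [h3, map_zero]
  have hnon : ∀ {W : Type w} [AddCommGroup W] [Module k W] {σ : Representation k K W}
      {φ : V →ₗ[k] W}, IsEquivar σ ρ φ → ¬ IsProjMap σ ρ (φ ∘ₗ π) →
      ¬ IsProjMap σ ρ (φ ∘ₗ π₁) := by
    intro W _ _ σ φ hφ hnon h
    refine hnon ?_
    have := h.add (hrproj.comp_left (b := φ) hφ)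
    rwa [hπ₁, LinearMap.comp_sub, sub_add_cancel] at this
  refine IH _ hlt hπ₁eq hidem₁ (fun f hf => ?_) (hnon hφ₁ hn₁) (hnon hφ₂ hn₂) rfl
  obtain ⟨c', hc'⟩ := hst f hf
  refine ⟨c', ?_⟩
  have h := (hc'.comp_left (b := π₁) hπ₁eq).comp_right (a := π₁) hπ₁eq
  rw [LinearMap.comp_sub, LinearMap.sub_comp, LinearMap.comp_smul, LinearMap.smul_comp, hπ₁π,
    hidem₁] at h
  have e : (π₁ ∘ₗ π ∘ₗ f ∘ₗ π) ∘ₗ π₁ = π₁ ∘ₗ f ∘ₗ π₁ := by
    simp only [← LinearMap.comp_assoc, hπ₁π]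
    simp only [LinearMap.comp_assoc, hππ₁]
  rwa [e] at h

end CfsgLib.Modular
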