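import Cfsg.Agent.Lib.Modular.DefectOneModules
import Cfsg.Agent.Lib.Modular.StableTop
import Cfsg.Agent.Lib.Blocks.SecondMain
import Cfsg.Agent.Lib.Blocks.StarIntegral

/-!
# The inertial index bounds the rank of a block with a Sylow defect group of order `p`
-/

set_option linter.unusedSectionVars false
set_option linter.style.haveILetI false

namespace CfsgLib.Modular

open Cfsg Blocks BlockOrth Chars Finset
open scoped ComplexConjugate

universe u

variable {G : Type u} [Group G] [Fintype G] {M : Ideal AlgInt} [M.IsPrime] {p : ℕ} [Fact p.Prime]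
  {P : Subgroup G} {T : Subgroup G} [Fintype T] [Fintype (Subgroup.centralizer (P : Set G))]

theorem coe_opOf_subRep {k : Type*} [Field k] {K : Type*} [Group K] [Fintype K] {U : Type*}
    [AddCommGroup U] [Module k U] {τ : Representation k K U} {S : Submodule k U}
    (hS : IsInvar τ S) (a : K → k) (v : S) :
    ((opOf (subRep τ S hS) a v : S) : U) = opOf τ a (v : U) :=
  opOf_map (f := S.subtype) (fun _ _ => rfl) a v

theorem opT_eq_opOf {U : Type*} [AddCommGroup U] [Module (ResField M) U]
    (ρ : Representation (ResField M) G U) {a : G → ℂ} (ha : ∀ g, a g ∈ loc M)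
    (hsupp : ∀ g, g ∉ T → a g = 0) : opT (ρ.comp T.subtype) a ha = opOf ρ (redF a ha) := by
  classical
  have hz : ∀ g, g ∉ T → redF a ha g = 0 := fun g hg => by
    rw [redF, red_eq_zero_iff]
    show MemLocalIdeal M (a g)
    rw [hsupp g hg]
    exact MemLocalIdeal.zero'
  rw [opT, opOf, opOf, ← Finset.sum_filter_of_ne (s := univ) (p := fun g => g ∈ T)
    (fun g _ hg => by_contra fun hgT => hg (by rw [hz g hgT, zero_smul]))]
  exact (Finset.sum_subtype (univ.filter fun g => g ∈ T) (fun g => by simp)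
    (fun g => redF a ha g • ρ g)).symm

theorem regRep_apply {k : Type*} [Field k] {Q : Type*} [Group Q] (x : Q) (f : Q → k) (y : Q) :
    regRep k Q x f y = f (y * x) := rfl

/-- The simple modules of `T` in the block `b`. -/
theorem exists_local_modules (hpM : (p : AlgInt) ∈ M) (hcard : Nat.card P = p)
    (hsq : ¬ p ^ 2 ∣ Nat.card G) {B : Set (IrrCharacter G)}
    {b : Set (IrrCharacter (Subgroup.centralizer (P : Set G)))}
    (hpair : IsBrauerPairOf p M B P b) (hl : blockRank p b = 1) (hT : T = stabPair ⟨P, b⟩)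
    (PT : Subgroup T) [PT.Normal] (hPT : PT = P.subgroupOf T)
    (hab : ∀ g, pairCoeff ⟨P, b⟩ g ∈ loc M)
    (haB : ∀ g, extFun (Subgroup.centralizer (P : Set G))
      (resFun (Subgroup.centralizer (P : Set G)) (blockCoeff B)) g ∈ loc M) :
    ∃ (ι : Type u) (_ : Fintype ι) (S : ι → Submodule (ResField M) (T ⧸ PT → ResField M))
      (hS : ∀ i, IsInvar ((regRep (ResField M) (T ⧸ PT)).comp (QuotientGroup.mk' PT)) (S i)),
      Fintype.card ι = (Subgroup.centralizer (P : Set G)).relIndex T ∧
      (∀ i, IsSimpleRep (subRep _ (S i) (hS i))) ∧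
      (∀ i j, i ≠ j → ∀ f : S i →ₗ[ResField M] S j,
        (∀ g v, f (subRep _ (S i) (hS i) g v) = subRep _ (S j) (hS j) g (f v)) → f = 0) ∧
      (∀ i, opT (subRep _ (S i) (hS i)) _ haB = 1 ∧ opT (subRep _ (S i) (hS i)) _ hab = 1) := by
  classical
  have hb : IsPBlock M b := hpair.1.2
  have hB : IsPBlock M B := hpair.2.1
  have hCT : Subgroup.centralizer (P : Set G) ≤ T := hT ▸ centralizer_le_stabPair hb
  have hTN : T ≤ Subgroup.normalizer (P : Set G) := hT ▸ stabPair_le_normalizer ⟨P, b⟩
  obtain ⟨θ, hθb, hθ⟩ := exists_canonical hpM hcard hsq hb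
  have hconjC : ∀ t ∈ T, ∀ g, g ∈ Subgroup.centralizer (P : Set G) →
      t * g * t⁻¹ ∈ Subgroup.centralizer (P : Set G) := by
    intro t ht g hg
    rw [Subgroup.mem_centralizer_iff] at hg ⊢
    intro v hv
    have h1 := hg _ ((Subgroup.mem_normalizer_iff.1 (inv_mem (hTN ht)) v).1 hv)
    simp only [inv_inv] at h1
    calc v * (t * g * t⁻¹) = t * ((t⁻¹ * v * t) * g) * t⁻¹ := by group
      _ = t * (g * (t⁻¹ * v * t)) * t⁻¹ := by rw [h1]
      _ = _ := by group
  have hinv : ∀ t ∈ T, ∀ c c' : Subgroup.centralizer (P : Set G), (c' : G) = t * c * t⁻¹ →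
      (θ : Subgroup.centralizer (P : Set G) → ℂ) c' =
        (θ : Subgroup.centralizer (P : Set G) → ℂ) c := by
    intro t ht
    let α : Subgroup.centralizer (P : Set G) ≃* Subgroup.centralizer (P : Set G) :=
      { toFun := fun c => ⟨t * c * t⁻¹, hconjC t ht c c.2⟩
        invFun := fun c => ⟨t⁻¹ * c * t, by simpa using hconjC t⁻¹ (inv_mem ht) c c.2⟩
        left_inv := fun c => Subtype.ext (by group)
        right_inv := fun c => Subtype.ext (by group)
        map_mul' := fun c c' => Subtype.ext (by push_cast; group) }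
    have hmem : pullIrr α θ ∈ b := by
      have h2 : omega ((pullIrr α θ : IrrCharacter _) : Subgroup.centralizer (P : Set G) → ℂ)
          (blockCoeff b) = 1 := by
        rw [show (1 : ℂ) = omega (θ : Subgroup.centralizer (P : Set G) → ℂ) (blockCoeff b) by
          rw [omega_blockCoeff, if_pos hθb]]
        simp only [omega, pullIrr_apply, map_one]
        congr 1
        refine Fintype.sum_equiv α.toEquiv _ _ fun c => ?_
        show blockCoeff b c * _ = blockCoeff b (α c) * _
        congr 1
        have hst : pairCoeff (conjPair t⁻¹ ⟨P, b⟩) (c : G) = pairCoeff ⟨P, b⟩ (c : G) := by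
          rw [show conjPair t⁻¹ (⟨P, b⟩ : BrauerPairIdx G) = ⟨P, b⟩ from
            (hT ▸ inv_mem ht : t⁻¹ ∈ stabPair ⟨P, b⟩)]
        rw [pairCoeff_conjPair, inv_inv] at hst
        rw [← subgroupBlockCoeff_coe b c, ← subgroupBlockCoeff_coe b (α c)]
        exact hst.symm
      by_contra hno
      rw [omega_blockCoeff, if_neg hno] at h2
      exact zero_ne_one h2
    have heq := canonical_unique hcard hsq hl hθb hmem hθ fun x hx => by
      show (θ : Subgroup.centralizer (P : Set G) → ℂ) (α x) =
        (θ : Subgroup.centralizer (P : Set G) → ℂ) (α 1)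
      rw [map_one]
      exact hθ _ ((Subgroup.mem_normalizer_iff.1 (hTN ht) _).1 hx)
    intro c c' hc
    conv_rhs => rw [heq]
    show _ = (θ : Subgroup.centralizer (P : Set G) → ℂ) (α c)
    exact congrArg _ (Subtype.ext (show (c' : G) = ((α c : Subgroup.centralizer (P : Set G)) : G) from hc))
  obtain ⟨ι, _, ψ, hι, hψinj, hψC⟩ := exists_extension_family hcard hTN hCT PT hPT hθ hinv
  haveI : Fintype (T ⧸ PT) := Fintype.ofFinite _
  haveI := irrFintype (T ⧸ PT)
  haveI := charP_resField (M := M) (Fact.out : p.Prime) hpM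
  have hm : ¬ p ∣ Nat.card (T ⧸ PT) := by
    intro hd
    have h1 := PT.card_mul_index
    rw [Subgroup.index_eq_card, hPT, Nat.card_congr (Subgroup.subgroupOfEquivOfLe
      fun v hv => hCT (subgroupOf_le_center hcard hv).1).toEquiv, hcard, ← hPT] at h1
    refine hsq ?_
    rw [sq]
    exact (mul_dvd_mul_left p hd).trans (h1 ▸ Subgroup.card_subgroup_dvd_card _)
  let ev : ι → T ⧸ PT → ℂ := fun i => idemCoeff (ψ i : T ⧸ PT → ℂ)
  have hev : ∀ i x, ev i x ∈ loc M := fun i x => by
    obtain ⟨n, -, hn⟩ := irr_degree_nat (ψ i).2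
    have hint : IsIntegral ℤ ((starRingEnd ℂ) ((ψ i : T ⧸ PT → ℂ) x)) := by
      obtain ⟨χ, d, ρ, hρ, hχ⟩ := ψ i
      subst hχ
      exact (isIntegral_character ρ x).map (starRingEnd ℂ).toIntAlgHom
    show (Nat.card (T ⧸ PT) : ℂ)⁻¹ * _ ∈ loc M
    exact Subring.mul_mem _ (inv_natCast_mem_loc (Fact.out : p.Prime) hpM hm)
      (Subring.mul_mem _ (by rw [hn]; exact natCast_mem_loc n) (isIntegral_mem_loc hint))
  have hconv : ∀ i j, conv (ev i) (ev j) = if i = j then ev i else 0 := by
    intro i j
    refine classFun_ext_omega (isClassFunction_conv (isClassFunction_idemCoeff _)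
      (isClassFunction_idemCoeff _)) ?_ fun χ => ?_
    · split_ifs
      · exact isClassFunction_idemCoeff _
      · exact fun _ _ => rfl
    rw [omega_conv χ (isClassFunction_idemCoeff _), idemCoeff_omega, idemCoeff_omega]
    by_cases hij : i = j
    · subst hij
      rw [if_pos rfl, idemCoeff_omega]
      split_ifs <;> simp
    · rw [if_neg hij]
      simp only [omega, Pi.zero_apply, zero_mul, Finset.sum_const_zero, zero_div]
      split_ifs with h1 h2 <;> simp_all
      exact hij (hψinj (h1.trans h2.symm))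
  let σQ := regRep (ResField M) (T ⧸ PT)
  let σT := σQ.comp (QuotientGroup.mk' PT)
  let E : ι → Module.End (ResField M) (T ⧸ PT → ResField M) := fun i =>
    opOf σQ (redF (ev i) (hev i))
  have hcl : ∀ i, ∀ g x, redF (ev i) (hev i) (g * x * g⁻¹) = redF (ev i) (hev i) x := fun i =>
    redF_conj ⟨isClassFunction_idemCoeff _, hev i⟩
  have hEE : ∀ i j, E i * E j = if i = j then E i else 0 := by
    intro i j
    rw [show E i * E j = _ from opOf_mul_redF σQ (hev i) (hev j) fun g => by
      rw [hconv]; split_ifs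
      · exact hev i g
      · exact Subring.zero_mem _]
    by_cases hij : i = j
    · subst hij
      refine Eq.trans ?_ (if_pos rfl).symm
      congr 1
      funext x
      simp only [redF, hconv, if_pos rfl, if_true]
    · refine Eq.trans ?_ (if_neg hij).symm
      refine LinearMap.ext fun v => ?_
      simp only [opOf_apply, redF, hconv, if_neg hij, Pi.zero_apply, LinearMap.zero_apply]
      refine Finset.sum_eq_zero fun x _ => ?_
      rw [show red (⟨0, Subring.zero_mem _⟩ : loc M) = 0 from map_zero _, zero_smul]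
  have hEinv : ∀ i, IsInvar σT (LinearMap.range (E i)) := fun i => IsInvar.range (ρ := σT) (σ := σT) fun t v =>
    LinearMap.congr_fun (opOf_comm σQ (hcl i) (QuotientGroup.mk t)) v
  have hEne : ∀ i, LinearMap.range (E i) ≠ ⊥ := by
    intro i h
    rw [LinearMap.range_eq_bot] at h
    have h1 := congrFun (LinearMap.congr_fun h (Pi.single (1 : T ⧸ PT) 1)) 1
    simp only [E, opOf_apply, Finset.sum_apply, Pi.smul_apply, regRep_apply, one_mul,
      Pi.single_apply, smul_eq_mul, mul_ite, mul_one, mul_zero, Finset.sum_ite_eq', mem_univ,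
      if_true, LinearMap.zero_apply, Pi.zero_apply, σQ] at h1
    rw [redF, red_eq_zero_iff] at h1
    obtain ⟨n, hn0, hn, hdvd⟩ := irr_degree_dvd_card (ψ i).2
    have h2 := MemLocalIdeal.mul_left' (natCast_mem_loc (M := M) (Nat.card (T ⧸ PT))) h1
    change MemLocalIdeal M ((Nat.card (T ⧸ PT) : ℂ) * ((Nat.card (T ⧸ PT) : ℂ)⁻¹ *
      ((ψ i : T ⧸ PT → ℂ) 1 * conj ((ψ i : T ⧸ PT → ℂ) 1)))) at h2
    rw [mul_inv_cancel_left₀ (Chars.card_ne_zero _), hn, map_natCast, ← Nat.cast_mul,
      memLocalIdeal_natCast_iff (Fact.out : p.Prime) hpM] at h2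
    exact hm (((Fact.out : p.Prime).dvd_mul.1 h2).elim id id |>.trans hdvd)
  choose S hS hSle hsimple using fun i => exists_simple_le (hEinv i) (hEne i)
  have hEfix : ∀ i, ∀ v ∈ S i, E i v = v := fun i v hv => by
    obtain ⟨w, rfl⟩ := hSle i hv
    have := LinearMap.congr_fun (hEE i i) w
    rwa [if_pos rfl, Module.End.mul_apply] at this
  refine ⟨ι, inferInstance, S, hS, hι, hsimple, fun i j hij f hf => ?_, fun i => ?_⟩
  · refine LinearMap.ext fun v => Subtype.ext ?_
    have hfQ : ∀ (x : T ⧸ PT) (z : S i),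
        ((f ⟨σQ x z, by obtain ⟨t, rfl⟩ := QuotientGroup.mk_surjective x; exact hS i t z z.2⟩ : S j) :
          T ⧸ PT → ResField M) = σQ x (f z : T ⧸ PT → ResField M) := by
      intro x z
      obtain ⟨t, rfl⟩ := QuotientGroup.mk_surjective x
      exact congrArg Subtype.val (hf t z)
    have hSQ : ∀ (l : ι), IsInvar σQ (S l) := fun l x z hz => by
      obtain ⟨t, rfl⟩ := QuotientGroup.mk_surjective x
      exact hS l t z hz
    have h1 := opOf_map (τ := subRep σQ (S i) (hSQ i)) (σ := σQ) (f := (S j).subtype ∘ₗ f)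
      (fun x z => hfQ x z) (redF (ev i) (hev i)) v
    have h2 : opOf (subRep σQ (S i) (hSQ i)) (redF (ev i) (hev i)) v = v :=
      Subtype.ext ((coe_opOf_subRep _ _ _).trans (hEfix i v v.2))
    rw [h2] at h1
    change ((f v : S j) : T ⧸ PT → ResField M) = E i (f v : T ⧸ PT → ResField M) at h1
    rw [h1, ← hEfix j _ (f v).2, ← Module.End.mul_apply, hEE, if_neg hij]
    rfl
  · -- a function on `C(P)` acts by its central character
    have key : ∀ (a : G → ℂ) (ha : ∀ g, a g ∈ loc M),
        (∀ g, g ∉ Subgroup.centralizer (P : Set G) → a g = 0) →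
        (∀ t ∈ T, ∀ g, a (t * g * t⁻¹) = a g) →
        MemLocalIdeal M (omega (θ : Subgroup.centralizer (P : Set G) → ℂ)
          (resFun (Subgroup.centralizer (P : Set G)) a) - 1) →
        opT (subRep σT (S i) (hS i)) a ha = 1 := by
      intro a ha hsupp hTa hω
      obtain ⟨c, hcdef⟩ : ∃ c, c = omega (θ : Subgroup.centralizer (P : Set G) → ℂ)
          (resFun (Subgroup.centralizer (P : Set G)) a) := ⟨_, rfl⟩
      rw [← hcdef] at hω
      let aQ : T ⧸ PT → ℂ := fun x => ∑ t ∈ univ.filter (fun t : T => (t : T ⧸ PT) = x), a t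
      have haQ : ∀ x, aQ x ∈ loc M := fun x => Subring.sum_mem _ fun t _ => ha t
      have haQc : IsClassFunction (T ⧸ PT) aQ := by
        intro x g
        obtain ⟨s, rfl⟩ := QuotientGroup.mk_surjective g
        refine Finset.sum_equiv (MulAut.conj s⁻¹).toEquiv (fun t => ?_) fun t _ => ?_
        · simp only [mem_filter, mem_univ, true_and, MulEquiv.toEquiv_eq_coe, MulEquiv.coe_toEquiv,
            MulAut.conj_apply, inv_inv, QuotientGroup.mk_mul, QuotientGroup.mk_inv]
          constructor
          · intro h; rw [h]; group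
          · intro h; rw [← h]; group
        · show a (t : G) = a ((s⁻¹ * t * s⁻¹⁻¹ : T) : G)
          push_cast
          exact (hTa _ (inv_mem s.2) _).symm
      have hop : opT σT a ha = opOf σQ (redF aQ haQ) := by
        have h : ∀ x, redF aQ haQ x = ∑ t ∈ univ.filter (fun t : T => (t : T ⧸ PT) = x),
            redF a ha (t : G) := fun x => by
          have e : (⟨aQ x, haQ x⟩ : loc M) =
              ∑ t ∈ univ.filter (fun t : T => (t : T ⧸ PT) = x), (⟨a t, ha t⟩ : loc M) :=
            Subtype.ext (by push_cast; rfl)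
          simp only [redF, e, map_sum]
        simp only [opT, opOf, h, Finset.sum_smul]
        rw [← Finset.sum_fiberwise univ (fun t : T => (t : T ⧸ PT))]
        refine Finset.sum_congr rfl fun x _ => Finset.sum_congr rfl fun t ht => ?_
        rw [← (mem_filter.1 ht).2]
        rfl
      have homega : omega (ψ i : T ⧸ PT → ℂ) aQ = c := by
        have h1 : (ψ i : T ⧸ PT → ℂ) 1 = (θ : Subgroup.centralizer (P : Set G) → ℂ) 1 := by
          rw [← hψC i 1]; rfl
        rw [hcdef, omega, omega, h1]
        congr 1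
        simp only [aQ, Finset.sum_mul]
        rw [Finset.sum_congr rfl fun x _ => Finset.sum_congr rfl
            (g := fun t : T => a t * (ψ i : T ⧸ PT → ℂ) (t : T ⧸ PT))
            fun t ht => by rw [(mem_filter.1 ht).2],
          Finset.sum_fiberwise univ (fun t : T => (t : T ⧸ PT))
            (fun t : T => a t * (ψ i : T ⧸ PT → ℂ) (t : T ⧸ PT))]
        rw [← Finset.sum_filter_of_ne (s := univ)
          (p := fun t : T => (t : G) ∈ Subgroup.centralizer (P : Set G))
          (fun t _ ht => by_contra fun h => ht (by rw [hsupp _ h, zero_mul]))]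
        refine Finset.sum_bij (fun t ht => ⟨(t : G), (mem_filter.1 ht).2⟩)
          (fun t _ => mem_univ _) (fun t _ t' _ h => Subtype.ext (congrArg Subtype.val h :))
          (fun d _ => ⟨⟨d, hCT d.2⟩, mem_filter.2 ⟨mem_univ _, d.2⟩, rfl⟩) fun t ht => ?_
        rw [← hψC]
        rfl
      have hcloc : c ∈ loc M := by
        have := Subring.add_mem _ (MemLocalIdeal.mem_loc hω) (Subring.one_mem _)
        rwa [sub_add_cancel] at this
      have hconv' : conv aQ (ev i) = fun x => c * ev i x := by
        refine classFun_ext_omega (isClassFunction_conv haQc (isClassFunction_idemCoeff _))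
          (fun g h => by rw [show ev i (h * g * h⁻¹) = ev i g from isClassFunction_idemCoeff _ g h])
          fun χ => ?_
        rw [omega_conv χ haQc, show (fun x => c * ev i x) = c • ev i from rfl, omega_smul]
        simp only [ev, idemCoeff_omega]
        split_ifs with h
        · subst h; rw [homega]
        · simp
      have hred1 : red (⟨c, hcloc⟩ : loc M) = 1 := by
        have h : red (⟨c, hcloc⟩ - 1 : loc M) = 0 := red_eq_zero_iff.2 hω
        rwa [map_sub, map_one, sub_eq_zero] at h
      have hprod : opT σT a ha * E i = E i := by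
        rw [hop]
        rw [opOf_mul_redF σQ haQ (hev i) fun g => by
          rw [hconv']; exact Subring.mul_mem _ hcloc (hev i g)]
        congr 1
        funext x
        have e : (⟨conv aQ (ev i) x, by rw [hconv']; exact Subring.mul_mem _ hcloc (hev i x)⟩ :
            loc M) = ⟨c, hcloc⟩ * ⟨ev i x, hev i x⟩ := Subtype.ext (congrFun hconv' x)
        show red _ = red _
        rw [e, map_mul, hred1, one_mul]
      refine LinearMap.ext fun v => Subtype.ext ?_
      rw [opT, coe_opOf_subRep]
      show opT σT a ha (v : T ⧸ PT → ResField M) = v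
      conv_lhs => rw [← hEfix i v v.2, ← Module.End.mul_apply, hprod]
      exact hEfix i v v.2
    refine ⟨key _ haB (fun g hg => extFun_of_notMem _ hg) (fun t ht g => ?_) ?_,
      key _ hab (fun g hg => subgroupBlockCoeff_of_notMem _ hg) (fun t ht g => ?_) ?_⟩
    · by_cases hg : g ∈ Subgroup.centralizer (P : Set G)
      · have h1 := extFun_coe _ (resFun (Subgroup.centralizer (P : Set G)) (blockCoeff B)) ⟨g, hg⟩
        have h2 := extFun_coe _ (resFun (Subgroup.centralizer (P : Set G)) (blockCoeff B))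
          ⟨_, hconjC t ht g hg⟩
        simp only at h1 h2
        rw [h1, h2]
        exact (isLocClassFun_blockCoeff hB).1 g t
      · rw [extFun_of_notMem _ hg, extFun_of_notMem]
        intro h
        exact hg (by simpa [mul_assoc] using hconjC t⁻¹ (inv_mem ht) _ h)
    · have h := hpair.2.2 θ hθb
      rw [brauerOmega_eq] at h
      rwa [show resFun (Subgroup.centralizer (P : Set G)) (extFun (Subgroup.centralizer (P : Set G))
        (resFun (Subgroup.centralizer (P : Set G)) (blockCoeff B))) =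
        resFun (Subgroup.centralizer (P : Set G)) (blockCoeff B) from funext fun c => extFun_coe _ _ c]
    · have h1 : conjPair t⁻¹ (⟨P, b⟩ : BrauerPairIdx G) = ⟨P, b⟩ :=
        (hT ▸ inv_mem ht : t⁻¹ ∈ stabPair ⟨P, b⟩)
      conv_rhs => rw [← h1, pairCoeff_conjPair, inv_inv]
    · rw [show resFun (Subgroup.centralizer (P : Set G)) (pairCoeff ⟨P, b⟩) = blockCoeff b from
        funext fun c => subgroupBlockCoeff_coe b c, omega_blockCoeff, if_pos hθb, sub_self]
      exact MemLocalIdeal.zero'

/-- The space of functions transforming by `σ` on the left. -/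
def indSpace {k : Type*} [Field k] {W : Type*} [AddCommGroup W] [Module k W]
    (σ : Representation k T W) : Submodule k (G → W) where
  carrier := {f | ∀ (t : T) (x : G), f ((t : G) * x) = σ t (f x)}
  add_mem' {f f'} hf hf' t x := by simp only [Pi.add_apply, hf t x, hf' t x, map_add]
  zero_mem' t x := by simp
  smul_mem' c f hf t x := by simp only [Pi.smul_apply, hf t x, map_smul]

/-- The induced representation. -/
def indRep {k : Type*} [Field k] {W : Type*} [AddCommGroup W] [Module k W]
    (σ : Representation k T W) : Representation k G (indSpace σ) where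
  toFun g := (LinearMap.funLeft k W (· * g)).restrict fun f hf t x => by
    show f ((t : G) * x * g) = σ t (f (x * g))
    rw [mul_assoc]
    exact hf t (x * g)
  map_one' := by ext f x; simp [LinearMap.funLeft]
  map_mul' g h := by ext f x; simp [LinearMap.funLeft, mul_assoc]

theorem coe_indRep {k : Type*} [Field k] {W : Type*} [AddCommGroup W] [Module k W]
    {σ : Representation k T W} (g : G) (f : indSpace σ) (x : G) :
    (indRep σ g f : G → W) x = (f : G → W) (x * g) := rfl

/-- A simple module of the block below an induced module. -/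
theorem exists_simple_nonproj (hpM : (p : AlgInt) ∈ M) (hcard : Nat.card P = p)
    (hTN : T ≤ Subgroup.normalizer (P : Set G)) (hCT : Subgroup.centralizer (P : Set G) ≤ T)
    {B : Set (IrrCharacter G)} (hB : IsPBlock M B)
    (haB : ∀ g, extFun (Subgroup.centralizer (P : Set G))
      (resFun (Subgroup.centralizer (P : Set G)) (blockCoeff B)) g ∈ loc M)
    {W : Type*} [AddCommGroup W] [Module (ResField M) W] [FiniteDimensional (ResField M) W]
    [Nontrivial W] (σ : Representation (ResField M) T W)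
    (hσP : ∀ t : T, (t : G) ∈ P → σ t = 1) (hσB : opT σ _ haB = 1) :
    ∃ (S : Submodule (ResField M) (indSpace σ)) (hS : IsInvar (indRep σ) S),
      IsSimpleRep (V := S) (subRep (indRep σ) S hS) ∧ blockOp (V := S) (subRep (indRep σ) S hS) hB = 1 ∧
      ∃ φ : S →ₗ[ResField M] W,
        IsEquivar (V := S) σ (((subRep (indRep σ) S hS).comp T.subtype :
            Representation (ResField M) T S)) φ ∧
          ¬ IsProjMap (V := S) σ (((subRep (indRep σ) S hS).comp T.subtype :
            Representation (ResField M) T S)) φ := by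
  classical
  haveI := charP_resField (M := M) (Fact.out : p.Prime) hpM
  set ρ := indRep σ with hρ
  let evm : indSpace σ →ₗ[ResField M] W :=
    (LinearMap.proj (1 : G)) ∘ₗ (indSpace σ).subtype
  have hev : IsEquivar σ (ρ.comp T.subtype) evm := isEquivar_of_apply fun t f => by
    show (f : G → W) (1 * (t : G)) = σ t ((f : G → W) 1)
    rw [one_mul, ← mul_one (t : G)]
    exact f.2 t 1
  let iota : W →ₗ[ResField M] indSpace σ :=
    { toFun := fun w => ⟨fun x => if hx : x ∈ T then σ ⟨x, hx⟩ w else 0, fun t x => by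
        by_cases hx : x ∈ T
        · simp only [dif_pos (T.mul_mem t.2 hx), dif_pos hx]
          rw [show (⟨(t : G) * x, T.mul_mem t.2 hx⟩ : T) = t * ⟨x, hx⟩ from rfl, map_mul]
          rfl
        · have hx' : (t : G) * x ∉ T := fun h => hx (by
            simpa using T.mul_mem (inv_mem t.2) h)
          simp only [dif_neg hx, dif_neg hx', map_zero]⟩
      map_add' := fun w w' => Subtype.ext (funext fun x => by
        by_cases hx : x ∈ T <;> simp [hx])
      map_smul' := fun c w => Subtype.ext (funext fun x => by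
        by_cases hx : x ∈ T <;> simp [hx]) }
  have hiota : IsEquivar (ρ.comp T.subtype) σ iota := isEquivar_of_apply fun t w => by
    refine Subtype.ext (funext fun x => ?_)
    show dite _ _ _ = dite _ _ _
    by_cases hx : x ∈ T
    · dsimp only
      rw [dif_pos hx, dif_pos (show x * T.subtype t ∈ T from T.mul_mem hx t.2), ← Module.End.mul_apply, ← map_mul]
      rfl
    · have hx' : x * T.subtype t ∉ T := fun h => hx (by
        simpa using T.mul_mem h (inv_mem t.2))
      rw [dif_neg hx, dif_neg hx']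
  set E := blockOp ρ hB with hE
  have hEcomm : IsEquivar ρ ρ E := isEquivar_of_apply fun g v =>
    LinearMap.congr_fun (blockOp_comm ρ hB g) v
  -- `ev E iota` is the identity
  have hid : ∀ w, evm (E (iota w)) = w := by
    intro w
    have h1 : evm (E (iota w)) = ∑ g : G, redF (blockCoeff B) (isLocClassFun_blockCoeff hB).2 g •
        (if hg : g ∈ T then σ ⟨g, hg⟩ w else 0) := by
      rw [hE, blockOp, opOf_apply, map_sum]
      refine Finset.sum_congr rfl fun g _ => ?_
      rw [map_smul]
      congr 1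
      show dite _ _ _ = _
      simp only [one_mul]
    have h2 : evm (E (iota w)) = ∑ t : T,
        redF (blockCoeff B) (isLocClassFun_blockCoeff hB).2 (t : G) • σ t w := by
      rw [h1, ← Finset.sum_filter_of_ne (s := univ) (p := fun g => g ∈ T)
        (fun g _ hg => by_contra fun h => hg (by rw [dif_neg h, smul_zero])),
        Finset.sum_subtype (p := fun g => g ∈ T) (univ.filter fun g => g ∈ T) (fun g => by simp)]
      exact Finset.sum_congr rfl fun t _ => by rw [dif_pos t.2]
    rw [h2]
    conv_rhs => rw [← Module.End.one_apply (R := ResField M) w, ← hσB, opT, opOf_apply]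
    -- terms outside `C(P)` cancel
    have hcut : ∀ t : T, redF (extFun (Subgroup.centralizer (P : Set G))
        (resFun (Subgroup.centralizer (P : Set G)) (blockCoeff B))) haB (t : G) =
        if (t : G) ∈ Subgroup.centralizer (P : Set G) then
          redF (blockCoeff B) (isLocClassFun_blockCoeff hB).2 (t : G) else 0 := fun t => by
      split_ifs with ht
      · simp only [redF, extFun, dif_pos ht]
        rfl
      · rw [redF, red_eq_zero_iff]
        show MemLocalIdeal M (extFun _ _ _)
        rw [extFun_of_notMem _ ht]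
        exact MemLocalIdeal.zero'
    simp only [hcut, ite_smul, zero_smul, ← Finset.sum_filter]
    rw [← Finset.sum_filter_add_sum_filter_not univ
      (fun t : T => (t : G) ∈ Subgroup.centralizer (P : Set G))]
    refine add_eq_left.2 ?_
    let PT : Subgroup T := P.subgroupOf T
    letI : MulAction PT T := MulAction.compHom T (MulAut.conj.comp PT.subtype)
    have hPp : IsPGroup p PT := IsPGroup.of_card (n := 1) (by
      rw [pow_one]
      exact (Nat.card_congr (Subgroup.subgroupOfEquivOfLe
        fun v hv => hCT (subgroupOf_le_center hcard hv).1).toEquiv).trans hcard)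
    have hfix : ∀ t : T, t ∈ MulAction.fixedPoints PT T ↔
        (t : G) ∈ Subgroup.centralizer (P : Set G) := by
      intro t
      rw [MulAction.mem_fixedPoints, Subgroup.mem_centralizer_iff]
      constructor
      · intro h v hv
        have h' := congrArg Subtype.val (h ⟨⟨v, hCT (subgroupOf_le_center hcard hv).1⟩, hv⟩)
        change v * (t : G) * v⁻¹ = t at h'
        conv_rhs => rw [← h']
        rw [inv_mul_cancel_right]
      · intro h s
        refine Subtype.ext ?_
        show ((s : T) : G) * t * ((s : T) : G)⁻¹ = t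
        have h' : ((s : T) : G) * (t : G) = (t : G) * ((s : T) : G) := h _ s.2
        rw [h', mul_inv_cancel_right]
    refine (Module.forall_dual_apply_eq_zero_iff (ResField M) _).1 fun L => ?_
    rw [map_sum]
    have hsum := sum_eq_sum_fixedPoints p hPp
      (fun t : T => L (redF (blockCoeff B) (isLocClassFun_blockCoeff hB).2 (t : G) • σ t w))
      fun s t => by
        show L (redF _ _ (((s : T) : G) * t * ((s : T) : G)⁻¹) •
          σ ((s : T) * t * (s : T)⁻¹) w) = _
        rw [redF_conj (isLocClassFun_blockCoeff hB), map_mul, map_mul, hσP _ s.2,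
          hσP ((s : T)⁻¹) (P.inv_mem s.2), one_mul, mul_one]
    rw [← Finset.sum_filter_add_sum_filter_not univ
      (fun t : T => (t : G) ∈ Subgroup.centralizer (P : Set G))] at hsum
    refine add_left_cancel (hsum.trans ?_)
    rw [add_zero]
    exact Finset.sum_congr (Finset.filter_congr fun t _ => hfix t) fun _ _ => rfl
  by_contra hno
  -- otherwise the range of `E` is projective
  have hcov : ∀ J : Submodule (ResField M) (indSpace σ), IsInvar ρ J → J ≤ LinearMap.range E →
      ∃ Φ : indSpace σ →ₗ[ResField M] indSpace σ, IsProjMap ρ ρ Φ ∧ ∀ v ∈ J, Φ v = v := by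
    intro J
    induction hn : Module.finrank (ResField M) J using Nat.strong_induction_on generalizing J with
    | _ n IH =>
    subst hn
    intro hJ hJE
    by_cases hJ0 : J = ⊥
    · exact ⟨0, IsProjMap.zero, fun v hv => by
        rw [hJ0, Submodule.mem_bot] at hv
        rw [hv, map_zero]⟩
    obtain ⟨S, hS, hSJ, hsimp⟩ := exists_simple_le hJ hJ0
    -- the simple submodule is covered
    have hSB : blockOp (V := S) (subRep ρ S hS) hB = 1 := by
      refine LinearMap.ext fun v => Subtype.ext ?_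
      rw [blockOp, coe_opOf_subRep]
      obtain ⟨w, hw⟩ := hJE (hSJ v.2)
      show E (v : indSpace σ) = v
      rw [← hw, ← Module.End.mul_apply, blockOp_mul_self]
    have hproj : IsProjMap (V := S) σ
        ((subRep ρ S hS).comp T.subtype : Representation (ResField M) T S) (evm ∘ₗ S.subtype) := by
      by_contra hnp
      exact hno ⟨S, hS, hsimp, hSB, evm ∘ₗ S.subtype,
        isEquivar_of_apply fun t v => hev.apply t v.1, hnp⟩
    obtain ⟨ψ, hψ⟩ := hproj
    obtain ⟨r, hr⟩ := LinearMap.exists_extend (V' := S) (LinearMap.id : S →ₗ[ResField M] S)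
    obtain ⟨Ψ, hΨ⟩ : ∃ Ψ, Ψ = ∑ g : G, cj ρ ρ g (iota ∘ₗ ψ ∘ₗ r) := ⟨_, rfl⟩
    have hΨproj : IsProjMap ρ ρ Ψ := ⟨_, hΨ⟩
    have hΨS : ∀ s ∈ S, Ψ s = s := by
      intro s hs
      refine Subtype.ext (funext fun x => ?_)
      rw [hΨ]
      simp only [LinearMap.coe_sum, Finset.sum_apply, AddSubmonoidClass.coe_finsetSum, cj_apply,
        coe_indRep, LinearMap.comp_apply]
      have hr' : ∀ g, r (ρ g⁻¹ s) = subRep ρ S hS g⁻¹ ⟨s, hs⟩ := fun g =>
        LinearMap.congr_fun hr (subRep ρ S hS g⁻¹ ⟨s, hs⟩)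
      simp only [hr']
      have hev1 : (s : G → W) x = (evm ∘ₗ S.subtype) (subRep ρ S hS x ⟨s, hs⟩) := by
        show (s : G → W) x = (s : G → W) (1 * x)
        rw [one_mul]
      rw [hev1, hψ, LinearMap.sum_apply, ← Fintype.sum_equiv (Equiv.mulLeft x⁻¹) _ _ fun g => rfl]
      simp only [Equiv.coe_mulLeft]
      rw [← Finset.sum_filter_of_ne (s := univ) (p := fun g => g ∈ T) (fun g _ hg => by
          by_contra hgT
          refine hg ?_
          show dite _ _ _ = 0
          rw [dif_neg]
          simpa using hgT),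
        Finset.sum_subtype (p := fun g => g ∈ T) (univ.filter fun g => g ∈ T) (fun g => by simp)]
      refine Finset.sum_congr rfl fun t _ => ?_
      show dite _ _ _ = σ t (ψ (subRep ρ S hS ((t⁻¹ : T) : G) (subRep ρ S hS x ⟨s, hs⟩)))
      rw [dif_pos (show x * (x⁻¹ * (t : G)) ∈ T by rw [mul_inv_cancel_left]; exact t.2),
        ← Module.End.mul_apply (subRep ρ S hS _), ← map_mul]
      simp only [mul_inv_cancel_left]
      congr 2
      congr 1
      push_cast
      group
    let D : indSpace σ →ₗ[ResField M] indSpace σ := LinearMap.id - Ψ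
    have hD : IsEquivar ρ ρ D := IsEquivar.id.sub hΨproj.isEquivar
    have hJ' : IsInvar ρ (J.map (E ∘ₗ D)) := by
      rintro g _ ⟨v, hv, rfl⟩
      exact ⟨ρ g v, hJ g v hv, (hEcomm.comp hD).apply g v⟩
    have hker : J.map (E ∘ₗ D) ≤ LinearMap.range E := by
      rintro _ ⟨v, -, rfl⟩
      exact ⟨_, rfl⟩
    have hlt : Module.finrank (ResField M) (J.map (E ∘ₗ D)) < Module.finrank (ResField M) J := by
      have h1 := LinearMap.finrank_range_add_finrank_ker (V := J) ((E ∘ₗ D).domRestrict J)
      rw [LinearMap.range_domRestrict] at h1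
      have hkne : LinearMap.ker ((E ∘ₗ D).domRestrict J) ≠ ⊥ := by
        intro hk
        haveI := hsimp.nontrivial
        obtain ⟨⟨s, hs⟩, hs0⟩ := exists_ne (0 : S)
        have : (⟨s, hSJ hs⟩ : J) ∈ LinearMap.ker ((E ∘ₗ D).domRestrict J) := by
          show E (D s) = 0
          rw [show D s = 0 by rw [LinearMap.sub_apply, LinearMap.id_apply, hΨS s hs, sub_self],
            map_zero]
        rw [hk, Submodule.mem_bot, Submodule.mk_eq_zero] at this
        exact hs0 (Subtype.ext this)
      have h2 : Module.finrank (ResField M) (LinearMap.ker ((E ∘ₗ D).domRestrict J)) ≠ 0 :=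
        fun h => hkne ((Submodule.finrank_eq_zero (M := J)).1 h)
      omega
    obtain ⟨Φ, hΦ, hΦfix⟩ := IH _ hlt _ rfl hJ' hker
    refine ⟨Φ ∘ₗ E ∘ₗ D + E ∘ₗ Ψ, (hΦ.comp_right (hEcomm.comp hD)).add (hΨproj.comp_left hEcomm),
      fun v hv => ?_⟩
    show Φ ((E ∘ₗ D) v) + E (Ψ v) = v
    rw [hΦfix _ (Submodule.mem_map_of_mem hv)]
    show E (v - Ψ v) + E (Ψ v) = v
    rw [← map_add, sub_add_cancel]
    obtain ⟨w, hw⟩ := hJE hv
    rw [← hw, ← Module.End.mul_apply, blockOp_mul_self]
  obtain ⟨Φ, ⟨ψ, hψ⟩, hΦfix⟩ := hcov (LinearMap.range E) (IsInvar.range hEcomm.apply) le_rfl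
  -- then the identity of `W` is projective
  have hidproj : IsProjMap σ σ (LinearMap.id : W →ₗ[ResField M] W) := by
    have e : (LinearMap.id : W →ₗ[ResField M] W) =
        ∑ g : G, evm ∘ₗ cj ρ ρ g ψ ∘ₗ (E ∘ₗ iota) := by
      refine LinearMap.ext fun w => ?_
      conv_lhs => rw [LinearMap.id_apply, ← hid w, ← hΦfix (E (iota w)) ⟨_, rfl⟩, hψ,
        LinearMap.sum_apply, map_sum]
      rw [LinearMap.sum_apply]
      rfl
    rw [e]
    refine isProjMap_of_free (K := T) (I := G) (fun t g h => Subtype.ext (mul_eq_right.1 h)) _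
      fun t g => ?_
    show evm ∘ₗ cj ρ ρ ((t : G) * g) ψ ∘ₗ (E ∘ₗ iota) = _
    refine LinearMap.ext fun w => ?_
    have h1 : E (iota (σ t⁻¹ w)) = ρ (t : G)⁻¹ (E (iota w)) := by
      rw [hiota.apply, ← hEcomm.apply]
      rfl
    show evm (cj ρ ρ ((t : G) * g) ψ (E (iota w))) = σ t (evm (cj ρ ρ g ψ (E (iota (σ t⁻¹ w)))))
    rw [h1, ← cj_cj, cj_apply, ← hev.apply]
    rfl
  obtain ⟨v, hv⟩ := exists_ne (0 : W)
  refine hv (LinearMap.congr_fun (hidproj.eq_zero_of_trivial (P := P.subgroupOf T) ?_
    (fun u hu => hσP u hu) fun u hu => hσP u hu) v)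
  rw [Nat.card_congr (Subgroup.subgroupOfEquivOfLe
    fun v hv => hCT (subgroupOf_le_center hcard hv).1).toEquiv, hcard, CharP.cast_eq_zero]

/-- A `p`-element normalizing a Sylow subgroup of order `p` lies in it. -/
theorem mem_of_normalizes (hcard : Nat.card P = p) (hsq : ¬ p ^ 2 ∣ Nat.card G) {w : G}
    (hw : ∃ k : ℕ, w ^ p ^ k = 1) (hN : w ∈ Subgroup.normalizer (P : Set G)) : w ∈ P := by
  have hP : IsPGroup p P := IsPGroup.of_card (n := 1) (by rw [pow_one]; exact hcard)
  have hW : IsPGroup p (Subgroup.zpowers w) := Blocks.isPGroup_zpowers hw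
  have hsup : IsPGroup p (P ⊔ Subgroup.zpowers w : Subgroup G) :=
    hP.to_sup_of_normal_left' hW (Subgroup.zpowers_le.2 hN)
  obtain ⟨j, hj⟩ := IsPGroup.iff_card.1 hsup
  have hj1 : j ≤ 1 := by
    by_contra hj2
    refine hsq ((pow_dvd_pow p (show 2 ≤ j by omega)).trans ?_)
    rw [← hj]
    exact Subgroup.card_subgroup_dvd_card _
  have heq : P = P ⊔ Subgroup.zpowers w := by
    refine Subgroup.eq_of_le_of_card_ge le_sup_left ?_
    rw [hcard, hj]
    exact (pow_le_pow_right₀ (Fact.out : p.Prime).one_lt.le hj1).trans (pow_one p).le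
  exact (Subgroup.zpowers_le.1 (heq.symm ▸ le_sup_right))

theorem map_conj_of_mem_normalizer' {g : G} (hg : g ∈ Subgroup.normalizer (P : Set G)) :
    P.map (MulAut.conj g).toMonoidHom = P := by
  ext x
  constructor
  · rintro ⟨w, hw, rfl⟩
    exact (Subgroup.mem_normalizer_iff.1 hg w).1 hw
  · intro hx
    refine ⟨g⁻¹ * x * g, (Subgroup.mem_normalizer_iff.1 hg _).2 ?_, ?_⟩
    · simpa [mul_assoc] using hx
    · show g * (g⁻¹ * x * g) * g⁻¹ = x
      group

/-- Endomorphisms of the `b`-part of a simple module are scalar modulo projective maps. -/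
theorem stable_scalar (hpM : (p : AlgInt) ∈ M) (hcard : Nat.card P = p)
    (hsq : ¬ p ^ 2 ∣ Nat.card G) {B : Set (IrrCharacter G)}
    {b : Set (IrrCharacter (Subgroup.centralizer (P : Set G)))}
    (hpair : IsBrauerPairOf p M B P b) (hT : T = stabPair ⟨P, b⟩)
    (hab : ∀ g, pairCoeff ⟨P, b⟩ g ∈ loc M) {V : Type*} [AddCommGroup V] [Module (ResField M) V]
    [FiniteDimensional (ResField M) V] {ρ : Representation (ResField M) G V}
    (hρ : IsSimpleRep ρ) :
    IsEquivar (ρ.comp T.subtype) (ρ.comp T.subtype) (opOf ρ (redF _ hab)) ∧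
    opOf ρ (redF _ hab) ∘ₗ opOf ρ (redF _ hab) = opOf ρ (redF _ hab) ∧
    ∀ f : V →ₗ[ResField M] V, IsEquivar (ρ.comp T.subtype) (ρ.comp T.subtype) f →
      ∃ c : ResField M, IsProjMap (ρ.comp T.subtype) (ρ.comp T.subtype)
        (opOf ρ (redF _ hab) ∘ₗ f ∘ₗ opOf ρ (redF _ hab) - c • opOf ρ (redF _ hab)) := by
  classical
  haveI := charP_resField (M := M) (Fact.out : p.Prime) hpM
  have hb : IsPBlock M b := hpair.1.2
  have hCT : Subgroup.centralizer (P : Set G) ≤ T := hT ▸ centralizer_le_stabPair hb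
  have hTN : T ≤ Subgroup.normalizer (P : Set G) := hT ▸ stabPair_le_normalizer ⟨P, b⟩
  have hPT : P ≤ T := fun v hv => hCT (subgroupOf_le_center hcard hv).1
  obtain ⟨π, hπdef⟩ : ∃ π, π = opOf ρ (redF _ hab) := ⟨_, rfl⟩
  rw [← hπdef]
  have hpc : pairCoeff (⟨P, b⟩ : BrauerPairIdx G) =
      extFun (Subgroup.centralizer (P : Set G)) (blockCoeff b) := pairCoeff_eq_extFun _
  -- conjugates
  have hconj : ∀ g : G, ∀ a : G → ℂ, ∀ ha : ∀ x, a x ∈ loc M,
      ρ g⁻¹ * opOf ρ (redF a ha) * ρ g =
        opOf ρ (redF (fun x => a (g * x * g⁻¹)) fun x => ha _) := by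
    intro g a ha
    simp only [opOf, Finset.mul_sum, Finset.sum_mul, mul_smul_comm, smul_mul_assoc, ← map_mul]
    refine Fintype.sum_equiv (MulAut.conj g⁻¹).toEquiv _ _ fun x => ?_
    show redF a ha x • _ = redF (fun x => a (g * x * g⁻¹)) _ (g⁻¹ * x * g⁻¹⁻¹) • _
    simp only [redF]
    congr 3
    · simp only [show g * (g⁻¹ * x * g⁻¹⁻¹) * g⁻¹ = x by group]
    · group
  have hπT : ∀ t ∈ T, π * ρ t = ρ t * π := by
    intro t ht
    have h := hconj t _ hab
    rw [← hπdef] at h
    have hst : (fun x => pairCoeff (⟨P, b⟩ : BrauerPairIdx G) (t * x * t⁻¹)) = pairCoeff ⟨P, b⟩ := by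
      funext x
      have h1 : conjPair t⁻¹ (⟨P, b⟩ : BrauerPairIdx G) = ⟨P, b⟩ :=
        (hT ▸ inv_mem ht : t⁻¹ ∈ stabPair ⟨P, b⟩)
      conv_rhs => rw [← h1, pairCoeff_conjPair, inv_inv]
    have h2 : ρ t⁻¹ * π * ρ t = π := by
      rw [h, hπdef]
      congr 1
      funext x
      simp only [redF]
      congr 2
      exact congrFun hst x
    calc π * ρ t = ρ t * (ρ t⁻¹ * π * ρ t) := by
          rw [← mul_assoc, ← mul_assoc, ← map_mul, mul_inv_cancel, map_one, one_mul]
      _ = ρ t * π := by rw [h2]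
  have hπeq : IsEquivar (ρ.comp T.subtype) (ρ.comp T.subtype) π :=
    isEquivar_of_apply fun t v => LinearMap.congr_fun (hπT t t.2) v
  have hbb : conv (blockCoeff b) (blockCoeff b) = blockCoeff b := conv_blockCoeff_self b
  have hππ : π * π = π := by
    rw [hπdef, opOf_mul_redF ρ hab hab fun g => by rw [hpc, conv_extFun, hbb, ← hpc]; exact hab g]
    congr 1
    funext x
    simp only [redF]
    congr 2
    rw [hpc, conv_extFun, hbb]
  have horth : ∀ g ∈ Subgroup.normalizer (P : Set G), g ∉ T → (ρ g⁻¹ * π * ρ g) * π = 0 := by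
    intro g hg hgT
    have hfst : (conjPair g⁻¹ (⟨P, b⟩ : BrauerPairIdx G)).1 = P :=
      map_conj_of_mem_normalizer' (inv_mem hg)
    obtain ⟨b', hb'⟩ : ∃ b', conjPair g⁻¹ (⟨P, b⟩ : BrauerPairIdx G) = ⟨P, b'⟩ := by
      generalize conjPair g⁻¹ (⟨P, b⟩ : BrauerPairIdx G) = a at hfst
      obtain ⟨Q, b'⟩ := a
      obtain rfl : Q = P := hfst
      exact ⟨b', rfl⟩
    have hb'B : IsPBlock M b' := by
      have := (isBrauerPair_conj (a := ⟨P, b⟩) hpair.1 g⁻¹).2
      rw [hb'] at this
      exact this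
    have hne : b' ≠ b := fun h => hgT (hT ▸ inv_mem_iff.1 (h ▸ hb' :
      conjPair g⁻¹ (⟨P, b⟩ : BrauerPairIdx G) = ⟨P, b⟩))
    have hcoef : (fun x => pairCoeff (⟨P, b⟩ : BrauerPairIdx G) (g * x * g⁻¹)) =
        extFun (Subgroup.centralizer (P : Set G)) (blockCoeff b') := by
      funext x
      rw [← pairCoeff_eq_extFun (⟨P, b'⟩ : BrauerPairIdx G), ← hb', pairCoeff_conjPair, inv_inv]
    have hzero : conv (blockCoeff b') (blockCoeff b) = 0 := by
      haveI := irrFintype (Subgroup.centralizer (P : Set G))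
      refine classFun_ext_omega (isClassFunction_conv (isClassFunction_blockCoeff _)
        (isClassFunction_blockCoeff _)) (fun _ _ => rfl) fun χ => ?_
      rw [omega_conv χ (isClassFunction_blockCoeff _), omega_blockCoeff, omega_blockCoeff]
      simp only [omega, Pi.zero_apply, zero_mul, Finset.sum_const_zero, zero_div]
      split_ifs with h1 h2 <;> simp
      exact hne (IsPBlock.eq_of_mem hb'B hb h1 h2)
    have hzero' : conv (fun x => pairCoeff (⟨P, b⟩ : BrauerPairIdx G) (g * x * g⁻¹))
        (pairCoeff ⟨P, b⟩) = 0 := by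
      rw [hcoef, hpc, conv_extFun, hzero]
      funext x
      simp [extFun]
    rw [hπdef, hconj, opOf_mul_redF ρ (fun x => hab _) hab fun x => by
      rw [hzero']; exact Subring.zero_mem _]
    refine LinearMap.ext fun v => ?_
    rw [opOf_apply]
    refine Finset.sum_eq_zero fun x _ => ?_
    simp only [redF, hzero', Pi.zero_apply]
    rw [show red (⟨0, Subring.zero_mem _⟩ : loc M) = 0 from map_zero _, zero_smul]
  refine ⟨hπeq, hππ, fun f hf => ?_⟩
  -- the transfer
  obtain ⟨m, hm⟩ : ∃ m : ℕ, m = Nat.card {q : G ⧸ P // q.out ∈ T} := ⟨_, rfl⟩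
  have hm0 : (m : ResField M) ≠ 0 := by
    rw [Ne, CharP.cast_eq_zero_iff (ResField M) p]
    have hmcard : m = P.relIndex T := by
      rw [hm, Subgroup.relIndex, Subgroup.index_eq_card]
      refine Nat.card_congr
        { toFun := fun q => QuotientGroup.mk ⟨q.1.out, q.2⟩
          invFun := Quotient.lift (fun t : T => (⟨QuotientGroup.mk (t : G), by
              obtain ⟨v, hv⟩ := QuotientGroup.mk_out_eq_mul P (t : G)
              rw [hv]; exact T.mul_mem t.2 (hPT v.2)⟩ : {q : G ⧸ P // q.out ∈ T}))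
            fun s t hst => Subtype.ext (QuotientGroup.eq.2 (by
              have h := QuotientGroup.leftRel_apply.1 hst
              rw [Subgroup.mem_subgroupOf] at h
              simpa using h))
          left_inv := fun q => Subtype.ext (QuotientGroup.out_eq' q.1)
          right_inv := ?_ }
      intro x
      induction x using QuotientGroup.induction_on with
      | H t =>
        refine QuotientGroup.eq.2 ?_
        obtain ⟨v, hv⟩ := QuotientGroup.mk_out_eq_mul P (t : G)
        rw [Subgroup.mem_subgroupOf]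
        show ((QuotientGroup.mk (t : G) : G ⧸ P).out)⁻¹ * (t : G) ∈ P
        rw [hv]
        simp
    intro hd
    refine hsq ?_
    have h1 := Subgroup.card_mul_index (P.subgroupOf T)
    rw [Nat.card_congr (Subgroup.subgroupOfEquivOfLe hPT).toEquiv, hcard] at h1
    rw [sq]
    exact (mul_dvd_mul_left p (hmcard ▸ hd)).trans (h1 ▸ Subgroup.card_subgroup_dvd_card _)
  obtain ⟨h, hh⟩ : ∃ h : V →ₗ[ResField M] V, h = (m : ResField M)⁻¹ • (π ∘ₗ f ∘ₗ π) := ⟨_, rfl⟩
  have hheq : IsEquivar (ρ.comp T.subtype) (ρ.comp T.subtype) h :=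
    hh ▸ ((hπeq.comp (hf.comp hπeq)).smul _)
  have hPfix : ∀ v ∈ P, cj ρ ρ v h = h := fun v hv => hheq ⟨v, hPT hv⟩
  obtain ⟨c, hc⟩ := hρ.schur fun g v => (isEquivar_cosetSum (σ := ρ) (ρ := ρ) hPfix).apply g v
  refine ⟨c, ?_⟩
  letI := Fintype.ofFinite (G ⧸ P)
  have hsplit : π ∘ₗ cosetSum ρ ρ P h ∘ₗ π = ∑ q : G ⧸ P, π ∘ₗ cj ρ ρ q.out h ∘ₗ π := by
    refine LinearMap.ext fun v => ?_
    simp [cosetSum, LinearMap.sum_apply]
  rw [hc, LinearMap.smul_comp, LinearMap.id_comp, LinearMap.comp_smul,
    show π ∘ₗ π = π from hππ, ← Finset.sum_filter_add_sum_filter_not univ (fun q : G ⧸ P => q.out ∈ T)]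
    at hsplit
  have hin : ∑ q ∈ univ.filter (fun q : G ⧸ P => q.out ∈ T), π ∘ₗ cj ρ ρ q.out h ∘ₗ π =
      π ∘ₗ f ∘ₗ π := by
    rw [Finset.sum_congr rfl fun q hq => show π ∘ₗ cj ρ ρ q.out h ∘ₗ π = π ∘ₗ h ∘ₗ π by
      rw [show cj ρ ρ q.out h = h from hheq ⟨q.out, (mem_filter.1 hq).2⟩],
      Finset.sum_const, ← Fintype.card_subtype, ← Nat.card_eq_fintype_card, ← hm,
      ← Nat.cast_smul_eq_nsmul (ResField M), hh, LinearMap.smul_comp, LinearMap.comp_smul,
      smul_smul, mul_inv_cancel₀ hm0, one_smul]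
    refine LinearMap.ext fun v => ?_
    have h2 : ∀ z, π (π z) = π z := fun z => LinearMap.congr_fun hππ z
    simp [h2]
  rw [hin] at hsplit
  have hout : IsProjMap (ρ.comp T.subtype) (ρ.comp T.subtype)
      (∑ q ∈ univ.filter (fun q : G ⧸ P => ¬ q.out ∈ T), π ∘ₗ cj ρ ρ q.out h ∘ₗ π) := by
    rw [← Finset.sum_filter_add_sum_filter_not (univ.filter (fun q : G ⧸ P => ¬ q.out ∈ T))
      (fun q : G ⧸ P => q.out ∈ Subgroup.normalizer (P : Set G))]
    refine IsProjMap.add (IsProjMap.sum _ fun q hq => ?_) ?_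
    · have hqN : q.out ∈ Subgroup.normalizer (P : Set G) := (mem_filter.1 hq).2
      have hqT : q.out ∉ T := (mem_filter.1 (mem_filter.1 hq).1).2
      rw [show π ∘ₗ cj ρ ρ q.out h ∘ₗ π = 0 from ?_]
      · exact IsProjMap.zero
      refine LinearMap.ext fun v => ?_
      have h0 : ∀ z, π (ρ q.out (π z)) = 0 := fun z => by
        have h1 := LinearMap.congr_fun (horth q.out hqN hqT) z
        rw [Module.End.mul_apply, Module.End.mul_apply, Module.End.mul_apply,
          LinearMap.zero_apply] at h1
        rw [← rep_self_inv (ρ := ρ) q.out (π (ρ q.out (π z))), h1, map_zero]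
      simp [cj_apply, hh, h0]
    · letI : MulAction T {q : G ⧸ P // q.out ∉ Subgroup.normalizer (P : Set G)} :=
        { smul := fun t q => ⟨(t : G) • q.1, fun hmem => q.2 (by
            obtain ⟨v, hv⟩ := QuotientGroup.mk_out_eq_mul P ((t : G) * q.1.out)
            have hq' : (t : G) • q.1 = QuotientGroup.mk ((t : G) * q.1.out) := by
              conv_lhs => rw [← QuotientGroup.out_eq' q.1]
              rfl
            rw [hq', hv] at hmem
            simpa [mul_assoc] using Subgroup.mul_mem _ (Subgroup.mul_mem _ (inv_mem (hTN t.2)) hmem)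
              (inv_mem (hTN (hPT v.2))))⟩
          one_smul := fun q => Subtype.ext (one_smul G q.1)
          mul_smul := fun s t q => Subtype.ext (mul_smul (s : G) (t : G) q.1) }
      have hcoe : ∀ (t : T) (q : {q : G ⧸ P // q.out ∉ Subgroup.normalizer (P : Set G)}),
          (t • q).1 = (t : G) • q.1 := fun t q => rfl
      rw [Finset.filter_filter, show (univ.filter fun q : G ⧸ P =>
          ¬ q.out ∈ T ∧ ¬ q.out ∈ Subgroup.normalizer (P : Set G)) =
          univ.filter (fun q : G ⧸ P => q.out ∉ Subgroup.normalizer (P : Set G)) from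
        Finset.filter_congr fun q _ => ⟨fun h => h.2, fun h => ⟨fun hqT => h (hTN hqT), h⟩⟩,
        Finset.sum_subtype (p := fun q : G ⧸ P => q.out ∉ Subgroup.normalizer (P : Set G))
          (univ.filter fun q : G ⧸ P => q.out ∉ Subgroup.normalizer (P : Set G)) (fun q => by simp)]
      refine isProjMap_of_free (fun t q hfixq => ?_) _ fun t q => ?_
      · have h1 : QuotientGroup.mk ((t : G) * q.1.out) = (q.1 : G ⧸ P) := by
          conv_rhs => rw [← congrArg Subtype.val hfixq, hcoe, ← QuotientGroup.out_eq' q.1]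
          rfl
        conv_rhs at h1 => rw [← QuotientGroup.out_eq' q.1]
        rw [QuotientGroup.eq] at h1
        have h2 : q.1.out⁻¹ * (t : G) * q.1.out ∈ P := by
          have := P.inv_mem h1
          simpa [mul_assoc] using this
        by_contra hne
        have htp : (t : G) ^ p = 1 := by
          have h3 := pow_p_eq_one hcard h2
          rw [show q.1.out⁻¹ * (t : G) * q.1.out = q.1.out⁻¹ * t * (q.1.out⁻¹)⁻¹ by rw [inv_inv],
            conj_pow, conj_eq_one_iff] at h3
          exact h3
        have htP : (t : G) ∈ P := mem_of_normalizes hcard hsq ⟨1, by rwa [pow_one]⟩ (hTN t.2)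
        refine q.2 ?_
        haveI := Fact.mk (hcard ▸ (Fact.out : p.Prime) : (Nat.card P).Prime)
        have hgen : ∀ w ∈ P, q.1.out * w * q.1.out⁻¹ ∈ P := by
          intro w hw
          have hne' : (⟨_, h2⟩ : P) ≠ 1 := fun h3 => hne (Subtype.ext (by
            have h4 := congrArg Subtype.val h3
            change q.1.out⁻¹ * (t : G) * q.1.out = 1 at h4
            calc (t : G) = q.1.out * (q.1.out⁻¹ * (t : G) * q.1.out) * q.1.out⁻¹ := by group
              _ = 1 := by rw [h4]; group))
          obtain ⟨k, hk⟩ := Subgroup.mem_zpowers_iff.1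
            (mem_zpowers_of_prime_card (g' := (⟨w, hw⟩ : P)) hcard hne')
          have hk' : (q.1.out⁻¹ * (t : G) * q.1.out) ^ k = w := by
            simpa using congrArg Subtype.val hk
          rw [← hk', show q.1.out⁻¹ * (t : G) * q.1.out = q.1.out⁻¹ * t * (q.1.out⁻¹)⁻¹ by
            rw [inv_inv], conj_zpow, inv_inv]
          simpa [mul_assoc] using P.zpow_mem htP k
        have heq : P.map (MulAut.conj q.1.out).toMonoidHom = P :=
          Subgroup.eq_of_le_of_card_ge (by rintro _ ⟨w, hw, rfl⟩; exact hgen w hw)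
            (Nat.card_congr (P.equivMapOfInjective _ (MulAut.conj q.1.out).injective).toEquiv).le
        rw [Subgroup.mem_normalizer_iff]
        intro w
        refine ⟨hgen w, fun hw => ?_⟩
        obtain ⟨w', hw', hww⟩ := heq.ge hw
        exact (MulAut.conj q.1.out).injective hww ▸ hw'
      · have h1 : (t : G) • q.1 = QuotientGroup.mk ((t : G) * q.1.out) := by
          conv_lhs => rw [← QuotientGroup.out_eq' q.1]
          rfl
        rw [hcoe, h1, cj_out hPfix, ← cj_cj]
        refine LinearMap.ext fun v => ?_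
        show π (ρ (t : G) (cj ρ ρ q.1.out h (ρ (t : G)⁻¹ (π v)))) =
          ρ (t : G) (π (cj ρ ρ q.1.out h (π (ρ ((t⁻¹ : T) : G) v))))
        rw [show π (ρ ((t⁻¹ : T) : G) v) = ρ ((t⁻¹ : T) : G) (π v) from hπeq.apply t⁻¹ v]
        exact hπeq.apply t _
  have hfin : π ∘ₗ f ∘ₗ π - c • π = -(∑ q ∈ univ.filter (fun q : G ⧸ P => ¬ q.out ∈ T),
      π ∘ₗ cj ρ ρ q.out h ∘ₗ π) := by
    rw [hsplit]; abel
  rw [hfin]
  exact hout.neg

/-- A simple module of the block below an induced module, as an abstract module. -/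
theorem exists_simple_nonproj' (hpM : (p : AlgInt) ∈ M) (hcard : Nat.card P = p)
    (hTN : T ≤ Subgroup.normalizer (P : Set G)) (hCT : Subgroup.centralizer (P : Set G) ≤ T)
    {B : Set (IrrCharacter G)} (hB : IsPBlock M B)
    (haB : ∀ g, extFun (Subgroup.centralizer (P : Set G))
      (resFun (Subgroup.centralizer (P : Set G)) (blockCoeff B)) g ∈ loc M)
    {W : Type u} [AddCommGroup W] [Module (ResField M) W] [FiniteDimensional (ResField M) W]
    [Nontrivial W] (σ : Representation (ResField M) T W)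
    (hσP : ∀ t : T, (t : G) ∈ P → σ t = 1) (hσB : opT σ _ haB = 1) :
    ∃ (U : Type u) (_ : AddCommGroup U) (_ : Module (ResField M) U)
      (_ : FiniteDimensional (ResField M) U) (R : Representation (ResField M) G U),
      IsSimpleRep R ∧ blockOp R hB = 1 ∧ ∃ φ : U →ₗ[ResField M] W,
        IsEquivar σ (R.comp T.subtype) φ ∧ ¬ IsProjMap σ (R.comp T.subtype) φ := by
  obtain ⟨S, hS, h1, h2, φ, h3, h4⟩ := exists_simple_nonproj hpM hcard hTN hCT hB haB σ hσP hσB
  exact ⟨S, _, _, FiniteDimensional.finiteDimensional_submodule S, subRep (indRep σ) S hS, h1, h2,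
    φ, h3, h4⟩

/-- Simple modules with nonprojective maps onto distinct local modules are not isomorphic. -/
theorem card_le_blockRank_of_family (hpM : (p : AlgInt) ∈ M) (hcard : Nat.card P = p)
    (hsq : ¬ p ^ 2 ∣ Nat.card G) {B : Set (IrrCharacter G)}
    {b : Set (IrrCharacter (Subgroup.centralizer (P : Set G)))}
    (hpair : IsBrauerPairOf p M B P b) (hT : T = stabPair ⟨P, b⟩)
    (hab : ∀ g, pairCoeff (⟨P, b⟩ : BrauerPairIdx G) g ∈ loc M)
    {ι : Type*} [Fintype ι] {S : ι → Type u} [∀ i, AddCommGroup (S i)]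
    [∀ i, Module (ResField M) (S i)] [∀ i, FiniteDimensional (ResField M) (S i)]
    {U : ι → Type u} [∀ i, AddCommGroup (U i)] [∀ i, Module (ResField M) (U i)]
    [∀ i, FiniteDimensional (ResField M) (U i)]
    (σ : ∀ i, Representation (ResField M) T (S i)) (hsimp : ∀ i, IsSimpleRep (σ i))
    (hne : ∀ i j, i ≠ j → ∀ f : S i →ₗ[ResField M] S j,
      (∀ g v, f (σ i g v) = σ j g (f v)) → f = 0)
    (hops : ∀ i, opT (σ i) _ hab = 1)
    (R : ∀ i, Representation (ResField M) G (U i)) (hUsimp : ∀ i, IsSimpleRep (R i))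
    (hUB : ∀ i, blockOp (R i) hpair.2.1 = 1) (φ : ∀ i, U i →ₗ[ResField M] S i)
    (hφ : ∀ i, IsEquivar (σ i) ((R i).comp T.subtype) (φ i))
    (hφn : ∀ i, ¬ IsProjMap (σ i) ((R i).comp T.subtype) (φ i)) :
    Fintype.card ι ≤ blockRank p B := by
  classical
  haveI := charP_resField (M := M) (Fact.out : p.Prime) hpM
  have hb : IsPBlock M b := hpair.1.2
  have hB : IsPBlock M B := hpair.2.1
  have hCT : Subgroup.centralizer (P : Set G) ≤ T := hT ▸ centralizer_le_stabPair hb
  have hTN : T ≤ Subgroup.normalizer (P : Set G) := hT ▸ stabPair_le_normalizer ⟨P, b⟩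
  have hPTle : P ≤ T := fun v hv => hCT (subgroupOf_le_center hcard hv).1
  haveI hPTn : (P.subgroupOf T).Normal := ⟨fun w hw t => by
    rw [Subgroup.mem_subgroupOf] at hw ⊢
    exact (Subgroup.mem_normalizer_iff.1 (hTN t.2) _).1 hw⟩
  refine card_simple_le_blockRank hpM hB R hUsimp
    (fun i j hij f hf => ?_) hUB
  by_contra hf0
  have hbij : Function.Bijective f := ⟨((hUsimp i).injective_or_eq_zero hf).resolve_right hf0,
    ((hUsimp j).surjective_or_eq_zero hf).resolve_right hf0⟩
  let eq := LinearEquiv.ofBijective f hbij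
  have hfT : IsEquivar ((R j).comp T.subtype)
      ((R i).comp T.subtype) f := isEquivar_of_apply fun t v => hf t v
  have hsymm : IsEquivar ((R i).comp T.subtype)
      ((R j).comp T.subtype) eq.symm.toLinearMap :=
    isEquivar_of_apply fun t v => eq.injective (by
      show eq (eq.symm _) = f (_ : U i)
      rw [LinearEquiv.apply_symm_apply]
      refine Eq.trans ?_ (hf (t : G) (eq.symm v)).symm
      show _ = (R j) (t : G) (eq (eq.symm v))
      rw [LinearEquiv.apply_symm_apply]
      rfl)
  obtain ⟨hπeq, hππ, hst⟩ := stable_scalar hpM hcard hsq hpair hT hab (hUsimp i)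
  have habsupp : ∀ g, g ∉ T → pairCoeff (⟨P, b⟩ : BrauerPairIdx G) g = 0 := fun g hg =>
    subgroupBlockCoeff_of_notMem _ fun h => hg (hCT h)
  have hφπ : ∀ {l : ι} (ψ : U i →ₗ[ResField M] S l),
      IsEquivar (σ l) ((R i).comp T.subtype) ψ →
      ψ ∘ₗ opOf (R i) (redF _ hab) = ψ := fun {l} ψ hψ => by
    refine LinearMap.ext fun v => ?_
    rw [LinearMap.comp_apply, ← opT_eq_opOf _ hab habsupp, opT, opOf_map hψ.apply]
    exact LinearMap.congr_fun (hops l) _
  have hψ2 : IsEquivar (σ j) ((R i).comp T.subtype)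
      (φ j ∘ₗ f) := (hφ j).comp hfT
  have hnonj : ¬ IsProjMap (σ j) ((R i).comp T.subtype)
      (φ j ∘ₗ f) := fun h => hφn j (by
    have h' := h.comp_right hsymm
    rwa [LinearMap.comp_assoc, show f ∘ₗ eq.symm.toLinearMap = LinearMap.id from
      LinearMap.ext fun v => eq.apply_symm_apply v, LinearMap.comp_id] at h')
  obtain ⟨u₁, hu₁⟩ : ∃ u₁ : T, Subgroup.zpowers u₁ = P.subgroupOf T := by
    haveI : IsCyclic (P.subgroupOf T) := isCyclic_of_prime_card
      ((Nat.card_congr (Subgroup.subgroupOfEquivOfLe hPTle).toEquiv).trans hcard)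
    obtain ⟨g, hg⟩ := IsCyclic.exists_generator (α := P.subgroupOf T)
    refine ⟨g, le_antisymm (Subgroup.zpowers_le.2 g.2) fun w hw => ?_⟩
    obtain ⟨k, hk⟩ := Subgroup.mem_zpowers_iff.1 (hg ⟨w, hw⟩)
    exact ⟨k, by simpa using congrArg Subtype.val hk⟩
  haveI : (Subgroup.zpowers u₁).Normal := hu₁ ▸ hPTn
  have hu1p : u₁ ^ p = 1 := by
    have h : u₁ ∈ P.subgroupOf T := hu₁ ▸ Subgroup.mem_zpowers u₁
    exact Subtype.ext (by push_cast; exact pow_p_eq_one hcard h)
  have hmne : (Nat.card (T ⧸ Subgroup.zpowers u₁) : ResField M) ≠ 0 := by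
    rw [Ne, CharP.cast_eq_zero_iff (ResField M) p, hu₁]
    intro hd
    refine hsq ?_
    have h1 := Subgroup.card_mul_index (P.subgroupOf T)
    rw [Subgroup.index_eq_card, Nat.card_congr (Subgroup.subgroupOfEquivOfLe hPTle).toEquiv,
      hcard] at h1
    rw [sq]
    exact (mul_dvd_mul_left p hd).trans (h1 ▸ Subgroup.card_subgroup_dvd_card _)
  obtain ⟨ψ, hψ0, hψeq⟩ := top_unique (σ₁ := σ i) (σ₂ := σ j)
    hu1p hmne (hsimp i) (hsimp j) (hφ i) hψ2 hπeq hππ hst
    (by rw [hφπ _ (hφ i)]; exact hφn i) (by rw [hφπ _ hψ2]; exact hnonj)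
  exact hψ0 (hne i j hij ψ hψeq.apply)


/-- **The inertial index is at most the rank.** -/
theorem relIndex_le_blockRank (hpM : (p : AlgInt) ∈ M) (hcard : Nat.card P = p)
    (hsq : ¬ p ^ 2 ∣ Nat.card G) {B : Set (IrrCharacter G)}
    {b : Set (IrrCharacter (Subgroup.centralizer (P : Set G)))}
    (hpair : IsBrauerPairOf p M B P b) (hl : blockRank p b = 1) :
    (Subgroup.centralizer (P : Set G)).relIndex (stabPair ⟨P, b⟩) ≤ blockRank p B := by
  classical
  haveI := charP_resField (M := M) (Fact.out : p.Prime) hpM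
  obtain ⟨T, hT⟩ : ∃ T, T = stabPair (⟨P, b⟩ : BrauerPairIdx G) := ⟨_, rfl⟩
  rw [← hT]
  haveI := Fintype.ofFinite T
  have hb : IsPBlock M b := hpair.1.2
  have hB : IsPBlock M B := hpair.2.1
  have hCT : Subgroup.centralizer (P : Set G) ≤ T := hT ▸ centralizer_le_stabPair hb
  have hTN : T ≤ Subgroup.normalizer (P : Set G) := hT ▸ stabPair_le_normalizer ⟨P, b⟩
  have hPTle : P ≤ T := fun v hv => hCT (subgroupOf_le_center hcard hv).1
  haveI hPTn : (P.subgroupOf T).Normal := ⟨fun w hw t => by
    rw [Subgroup.mem_subgroupOf] at hw ⊢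
    exact (Subgroup.mem_normalizer_iff.1 (hTN t.2) _).1 hw⟩
  have hab : ∀ g, pairCoeff (⟨P, b⟩ : BrauerPairIdx G) g ∈ loc M :=
    subgroupBlockCoeff_mem_loc hb
  have haB : ∀ g, extFun (Subgroup.centralizer (P : Set G))
      (resFun (Subgroup.centralizer (P : Set G)) (blockCoeff B)) g ∈ loc M := fun g => by
    unfold extFun
    split_ifs
    · exact (isLocClassFun_blockCoeff hB).2 _
    · exact Subring.zero_mem _
  obtain ⟨ι, _, S, hS, hι, hsimp, hne, hops⟩ :=
    exists_local_modules hpM hcard hsq hpair hl hT (P.subgroupOf T) rfl hab haB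
  rw [← hι]
  have hP1 : ∀ i, ∀ t : T, (t : G) ∈ P → subRep _ (S i) (hS i) t = 1 := fun i t ht =>
    (hsimp i).eq_one_of_normal (p := p) (P := P.subgroupOf T) (IsPGroup.of_card (n := 1) (by
      rw [pow_one]
      exact (Nat.card_congr (Subgroup.subgroupOfEquivOfLe hPTle).toEquiv).trans hcard)) ht
  haveI := fun i => (hsimp i).nontrivial
  choose U iU1 iU2 iU3 R hUsimp hUB φ hφ hφn using fun i =>
    exists_simple_nonproj' hpM hcard hTN hCT hB haB (subRep _ (S i) (hS i)) (hP1 i) (hops i).1
  exact card_le_blockRank_of_family hpM hcard hsq hpair hT hab (ι := ι) (S := fun i => S i)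
    (fun i => subRep _ (S i) (hS i)) hsimp hne (fun i => (hops i).2) R hUsimp hUB φ hφ hφn

end CfsgLib.Modular
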