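import Cfsg.Agent.Lib.Modular.SimpleTraces
import Cfsg.Agent.Lib.Blocks.FreeCount
import Cfsg.Agent.Lib.BlockOrth.Contribution
import Cfsg.Agent.Lib.BlockOrth.RankOne
import Cfsg.Agent.Lib.CharsMore.Extend
import Cfsg.Agent.Lib.CharsMore.Intertwiners
import Cfsg.Agent.Lib.CharsMore.LinExtend
import Cfsg.Agent.Lib.Chars.Linear
import Cfsg.Agent.Lib.Chars.Integral

/-!
# The local data of a block with a Sylow defect group of order `p`
-/

set_option linter.unusedSectionVars false
set_option linter.style.haveILetI false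

namespace CfsgLib.Modular

open Cfsg Blocks BlockOrth Chars Finset
open scoped ComplexConjugate

universe u

variable {G : Type u} [Group G] [Fintype G] {M : Ideal AlgInt} [M.IsPrime] {p : ℕ} [Fact p.Prime]
  {P : Subgroup G}

theorem memLocalIdeal_root_sub_one (hpM : (p : AlgInt) ∈ M) {z : ℂ} {n : ℕ} (hz : z ^ p ^ n = 1) :
    MemLocalIdeal M (z - 1) := by
  haveI := charP_resField (M := M) (Fact.out : p.Prime) hpM
  have hi : z ∈ loc M := isIntegral_mem_loc (IsIntegral.of_pow (pow_pos (Fact.out : p.Prime).pos n)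
    (hz ▸ isIntegral_one))
  have h : (red ⟨z, hi⟩ - 1 : ResField M) ^ p ^ n = 0 := by
    rw [sub_pow_char_pow_of_commute _ _ (Commute.one_right _), one_pow, ← map_pow,
      show (⟨z, hi⟩ : loc M) ^ p ^ n = 1 from Subtype.ext (by push_cast; exact hz), map_one,
      sub_self]
  have h' := eq_zero_of_pow_eq_zero h
  rw [show (red ⟨z, hi⟩ : ResField M) - 1 = red (⟨z, hi⟩ - 1) by rw [map_sub, map_one],
    red_eq_zero_iff] at h'
  exact h'

/-- A `p`-element centralizing a Sylow subgroup of order `p` lies in it. -/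
theorem mem_of_centralizes (hcard : Nat.card P = p) (hsq : ¬ p ^ 2 ∣ Nat.card G) {w : G}
    (hw : ∃ k : ℕ, w ^ p ^ k = 1) (hwC : w ∈ Subgroup.centralizer (P : Set G)) : w ∈ P := by
  have hP : IsPGroup p P := IsPGroup.of_card (n := 1) (by rw [pow_one]; exact hcard)
  have hW : IsPGroup p (Subgroup.zpowers w) := Blocks.isPGroup_zpowers hw
  have hN : Subgroup.zpowers w ≤ Subgroup.normalizer (P : Set G) := by
    rw [Subgroup.zpowers_le]
    exact centralizer_le_normalizer' P hwC
  have hsup : IsPGroup p (P ⊔ Subgroup.zpowers w : Subgroup G) :=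
    hP.to_sup_of_normal_left' hW hN
  obtain ⟨j, hj⟩ := IsPGroup.iff_card.1 hsup
  have hj1 : j ≤ 1 := by
    by_contra hj2
    refine hsq ((pow_dvd_pow p (show 2 ≤ j by omega)).trans ?_)
    rw [← hj]
    exact Subgroup.card_subgroup_dvd_card _
  have heq : P = P ⊔ Subgroup.zpowers w := by
    refine Subgroup.eq_of_le_of_card_ge le_sup_left ?_
    rw [hcard, hj]
    exact (pow_le_pow_right₀ (Fact.out : p.Prime).one_lt.le hj1).trans (pow_one p).le
  exact (Subgroup.zpowers_le.1 (heq.symm ▸ le_sup_right))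

/-- `P` is central in its centralizer. -/
theorem subgroupOf_le_center (hcard : Nat.card P = p) {u : G} (hu : u ∈ P) :
    ∃ h : u ∈ Subgroup.centralizer (P : Set G),
      (⟨u, h⟩ : Subgroup.centralizer (P : Set G)) ∈ Subgroup.center _ := by
  haveI : IsCyclic P := isCyclic_of_prime_card hcard
  have h : u ∈ Subgroup.centralizer (P : Set G) := Subgroup.mem_centralizer_iff.2 fun v hv =>
    congrArg Subtype.val ((IsCyclic.commutative (α := P)).is_comm.comm ⟨v, hv⟩ ⟨u, hu⟩)
  exact ⟨h, Subgroup.mem_center_iff.2 fun c =>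
    Subtype.ext (Subgroup.mem_centralizer_iff.1 c.2 u hu).symm⟩

theorem pow_p_eq_one (hcard : Nat.card P = p) {u : G} (hu : u ∈ P) : u ^ p = 1 := by
  have h : (⟨u, hu⟩ : P) ^ p = 1 := hcard ▸ pow_card_eq_one'
  simpa using congrArg Subtype.val h

variable [Fintype (Subgroup.centralizer (P : Set G))]

/-- A character of `C(P)` trivial on `P` ignores the `p`-part. -/
theorem canonical_mul (hcard : Nat.card P = p) {θ : IrrCharacter (Subgroup.centralizer (P : Set G))}
    (hθ : ∀ x : Subgroup.centralizer (P : Set G), (x : G) ∈ P →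
      (θ : Subgroup.centralizer (P : Set G) → ℂ) x = (θ : Subgroup.centralizer (P : Set G) → ℂ) 1)
    {x : Subgroup.centralizer (P : Set G)} (hx : (x : G) ∈ P)
    (y : Subgroup.centralizer (P : Set G)) :
    (θ : Subgroup.centralizer (P : Set G) → ℂ) (x * y) =
      (θ : Subgroup.centralizer (P : Set G) → ℂ) y := by
  obtain ⟨h, hz⟩ := subgroupOf_le_center hcard hx
  rw [irr_central_mul θ (z := x) hz y, centralScalar, hθ x hx, div_self (irr_degree_ne_zero θ.2),
    one_mul]

/-- Twisting a character by a linear character of `p`-power order keeps the block. -/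
theorem sameBlock_linear_mul {H : Type*} [Group H] [Finite H] (hpM : (p : AlgInt) ∈ M)
    (μ : H →* ℂˣ) {n : ℕ} (hμ : μ ^ p ^ n = 1) (η : IrrCharacter H) :
    SameBlock M (η : H → ℂ) (fun h => (μ h : ℂ) * (η : H → ℂ) h) := by
  haveI := Fintype.ofFinite H
  intro g
  have h1 : centralChar (fun h => (μ h : ℂ) * (η : H → ℂ) h) g =
      (μ g : ℂ) * centralChar (η : H → ℂ) g := by
    simp only [centralChar, map_one, Units.val_one, one_mul]
    ring
  rw [h1, show centralChar (η : H → ℂ) g - (μ g : ℂ) * centralChar (η : H → ℂ) g =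
    centralChar (η : H → ℂ) g * -((μ g : ℂ) - 1) by ring]
  refine MemLocalIdeal.mul_left' (isIntegral_mem_loc (isIntegral_centralChar η g))
    (MemLocalIdeal.neg' (memLocalIdeal_root_sub_one hpM (n := n) ?_))
  have h2 := congrArg (fun f : H →* ℂˣ => (f g : ℂ)) hμ
  simpa using h2

/-- A character of `C(P)` has a twist in its block that is trivial on `P`. -/
theorem exists_canonical_regular (hpM : (p : AlgInt) ∈ M) (hcard : Nat.card P = p)
    (hsq : ¬ p ^ 2 ∣ Nat.card G) {b : Set (IrrCharacter (Subgroup.centralizer (P : Set G)))}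
    (hb : IsPBlock M b) {η : IrrCharacter (Subgroup.centralizer (P : Set G))} (hη : η ∈ b) :
    ∃ θ ∈ b, (∀ x : Subgroup.centralizer (P : Set G), (x : G) ∈ P →
      (θ : Subgroup.centralizer (P : Set G) → ℂ) x =
        (θ : Subgroup.centralizer (P : Set G) → ℂ) 1) ∧
      ∀ y, ¬ p ∣ orderOf y → (θ : Subgroup.centralizer (P : Set G) → ℂ) y =
        (η : Subgroup.centralizer (P : Set G) → ℂ) y := by
  let PC : Subgroup (Subgroup.centralizer (P : Set G)) := P.subgroupOf _
  have hPC : ∀ x : PC, (x : Subgroup.centralizer (P : Set G)) ∈ Subgroup.center _ := fun x => by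
    obtain ⟨h, hz⟩ := subgroupOf_le_center hcard x.2
    exact hz
  haveI : PC.Normal := ⟨fun x hx g => by
    have h := Subgroup.mem_center_iff.1 (hPC ⟨x, hx⟩) g
    change g * x = x * g at h
    rw [h, mul_inv_cancel_right]
    exact hx⟩
  have hne : ∀ x : PC, centralScalar (η : Subgroup.centralizer (P : Set G) → ℂ) x ^ p = 1 := fun x =>
    centralScalar_pow_eq_one η (hPC x) (Subtype.ext (by
      push_cast
      exact pow_p_eq_one hcard x.2))
  let l : PC →* rootsOfUnity p ℂ := MonoidHom.mk' (fun x => rootsOfUnity.mkOfPowEq _ (hne x))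
    fun x y => Subtype.ext (Units.ext (by
      show centralScalar (η : Subgroup.centralizer (P : Set G) → ℂ) _ = centralScalar _ _ * centralScalar _ _
      simp only [centralScalar, Subgroup.coe_mul]
      rw [irr_central_mul η (hPC x) (y : Subgroup.centralizer (P : Set G)), centralScalar]
      ring))
  have hidx : Nat.Coprime PC.index p := by
    rw [Nat.coprime_comm, (Fact.out : p.Prime).coprime_iff_not_dvd]
    intro hd
    refine hsq ?_
    have hc : Nat.card PC = p :=
      (Nat.card_congr (Subgroup.subgroupOfEquivOfLe fun v hv =>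
        (subgroupOf_le_center hcard hv).1).toEquiv).trans hcard
    have h1 := PC.card_mul_index
    rw [hc] at h1
    rw [sq]
    exact (mul_dvd_mul_left p hd).trans (h1 ▸ Subgroup.card_subgroup_dvd_card _)
  have hinv : ∀ g (x : PC), l (CharsMore.conjBy PC g x) = l x := fun g x => by
    congr 1
    refine Subtype.ext ?_
    rw [CharsMore.coe_conjBy, Subgroup.mem_center_iff.1 (hPC x) g, mul_inv_cancel_right]
  obtain ⟨μ, hμ⟩ := CharsMore.homExtends_of_coprime hidx
    (CharsMore.homExtends_pow_index (H := PC) le_rfl l l (fun _ => rfl) hinv)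
    ⟨1, fun x => by
      rw [MonoidHom.one_apply, MonoidHom.pow_apply]
      exact (Subtype.ext (by rw [SubmonoidClass.coe_pow]; exact (l x).2) : l x ^ p = 1).symm⟩
  let μ' : Subgroup.centralizer (P : Set G) →* ℂˣ := ((rootsOfUnity p ℂ).subtype.comp μ)⁻¹
  have hμp : μ' ^ p ^ 1 = 1 := MonoidHom.ext fun c => by
    rw [pow_one, MonoidHom.pow_apply, MonoidHom.one_apply]
    show ((μ c : ℂˣ)⁻¹) ^ p = 1
    rw [inv_pow, show (μ c : ℂˣ) ^ p = 1 from (μ c).2, inv_one]
  let θ : IrrCharacter (Subgroup.centralizer (P : Set G)) :=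
    ⟨_, isIrrCharacter_linear_mul μ' η.2⟩
  refine ⟨θ, IsPBlock.mem_of_sameBlock hb hη (sameBlock_linear_mul hpM μ' hμp η), fun x hx => ?_,
    fun y hy => ?_⟩
  swap
  · show (μ' y : ℂ) * _ = _
    have h1 : μ' y ^ p = 1 := by
      simpa using congrArg (fun f : Subgroup.centralizer (P : Set G) →* ℂˣ => f y) hμp
    have h2 : μ' y ^ orderOf y = 1 := by rw [← map_pow, pow_orderOf_eq_one, map_one]
    have h3 : μ' y ^ Nat.gcd p (orderOf y) = 1 := pow_gcd_eq_one.2 ⟨h1, h2⟩
    rw [Nat.Coprime.gcd_eq_one ((Fact.out : p.Prime).coprime_iff_not_dvd.2 hy), pow_one] at h3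
    rw [h3, Units.val_one, one_mul]
  show (μ' x : ℂ) * (η : Subgroup.centralizer (P : Set G) → ℂ) x = (μ' 1 : ℂ) * _
  rw [map_one, Units.val_one, one_mul]
  have h := hμ ⟨x, hx⟩
  show (((μ x : ℂˣ)⁻¹ : ℂˣ) : ℂ) * _ = _
  rw [Units.val_inv_eq_inv_val, h]
  show (centralScalar (η : Subgroup.centralizer (P : Set G) → ℂ) x)⁻¹ * _ = _
  rw [centralScalar]
  have h0 : (η : Subgroup.centralizer (P : Set G) → ℂ) x ≠ 0 := fun h0 => by
    have := hne ⟨x, hx⟩
    rw [centralScalar, h0, zero_div, zero_pow (Fact.out : p.Prime).ne_zero] at this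
    exact zero_ne_one this
  field_simp

/-- A block of `C(P)` has a character trivial on `P`. -/
theorem exists_canonical (hpM : (p : AlgInt) ∈ M) (hcard : Nat.card P = p)
    (hsq : ¬ p ^ 2 ∣ Nat.card G) {b : Set (IrrCharacter (Subgroup.centralizer (P : Set G)))}
    (hb : IsPBlock M b) :
    ∃ θ ∈ b, ∀ x : Subgroup.centralizer (P : Set G), (x : G) ∈ P →
      (θ : Subgroup.centralizer (P : Set G) → ℂ) x =
        (θ : Subgroup.centralizer (P : Set G) → ℂ) 1 := by
  obtain ⟨η, hη⟩ := IsPBlock.nonempty hb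
  obtain ⟨θ, hθ, h, -⟩ := exists_canonical_regular hpM hcard hsq hb hη
  exact ⟨θ, hθ, h⟩

/-- The character trivial on `P` in a block of rank one is unique. -/
theorem canonical_unique (hcard : Nat.card P = p) (hsq : ¬ p ^ 2 ∣ Nat.card G)
    {b : Set (IrrCharacter (Subgroup.centralizer (P : Set G)))}
    (hl : blockRank p b = 1) {θ θ' : IrrCharacter (Subgroup.centralizer (P : Set G))}
    (hθb : θ ∈ b) (hθ'b : θ' ∈ b)
    (hθ : ∀ x : Subgroup.centralizer (P : Set G), (x : G) ∈ P →
      (θ : Subgroup.centralizer (P : Set G) → ℂ) x = (θ : Subgroup.centralizer (P : Set G) → ℂ) 1)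
    (hθ' : ∀ x : Subgroup.centralizer (P : Set G), (x : G) ∈ P →
      (θ' : Subgroup.centralizer (P : Set G) → ℂ) x = (θ' : Subgroup.centralizer (P : Set G) → ℂ) 1) :
    θ = θ' := by
  classical
  haveI := irrFintype (Subgroup.centralizer (P : Set G))
  have hc := pRegularPart_proportional hl hθb hθ'b
  generalize (θ' : Subgroup.centralizer (P : Set G) → ℂ) 1 /
    (θ : Subgroup.centralizer (P : Set G) → ℂ) 1 = c at hc
  have hall : (θ' : Subgroup.centralizer (P : Set G) → ℂ) =
      c • (θ : Subgroup.centralizer (P : Set G) → ℂ) := by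
    funext g
    obtain ⟨hcomm, hmul⟩ := commute_pPartElt_pPrimePart (p := p) g
    have hreg := not_dvd_orderOf_pPrimePart (p := p) g
    have hx : ((pPartElt p g : Subgroup.centralizer (P : Set G)) : G) ∈ P := by
      obtain ⟨k, hk⟩ := exists_pow_eq_one_pPartElt (p := p) g
      refine mem_of_centralizes hcard hsq ⟨k, ?_⟩ (pPartElt p g).2
      simpa using congrArg Subtype.val hk
    rw [Pi.smul_apply, ← hmul, canonical_mul hcard hθ' hx, canonical_mul hcard hθ hx]
    have h := congrFun hc (pPrimePart p g)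
    simp only [pRegularPart, Pi.smul_apply, IsPRegular, hreg, not_false_eq_true, if_true] at h
    exact h
  by_contra hne
  have h := inner_irr θ' θ
  rw [if_neg (Ne.symm hne), hall, Chars.inner_smul_left, inner_irr, if_pos rfl, mul_one] at h
  refine irr_degree_ne_zero θ'.2 ?_
  rw [hall, h, zero_smul]
  rfl

end CfsgLib.Modular
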