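import Cfsg.Agent.Lib.Modular.DefectOneLocal
import Mathlib.GroupTheory.SpecificGroups.Cyclic

/-!
# The simple modules of the stabiliser of a pair with a Sylow defect group of order `p`
-/

set_option linter.unusedSectionVars false
set_option linter.style.haveILetI false

namespace CfsgLib.Modular

open Cfsg Blocks BlockOrth Chars Finset
open scoped ComplexConjugate

universe u

variable {G : Type u} [Group G] [Fintype G] {M : Ideal AlgInt} [M.IsPrime] {p : ℕ} [Fact p.Prime]
  {P : Subgroup G} {T : Subgroup G} [Fintype T]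

/-- The operator on a `T`-module of a function on the ambient group. -/
noncomputable def opT {U : Type*} [AddCommGroup U] [Module (ResField M) U]
    (σ : Representation (ResField M) T U) (a : G → ℂ) (ha : ∀ g, a g ∈ loc M) :
    Module.End (ResField M) U :=
  opOf σ fun t : T => redF a ha (t : G)

/-- The regular representation. -/
def regRep (k : Type*) [Field k] (Q : Type*) [Group Q] : Representation k Q (Q → k) where
  toFun x := LinearMap.funLeft k k (· * x)
  map_one' := by ext f y; simp [LinearMap.funLeft]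
  map_mul' x y := by ext f z; simp [LinearMap.funLeft, mul_assoc]

theorem opOf_map {k : Type*} [Field k] {K : Type*} [Group K] [Fintype K] {U V : Type*}
    [AddCommGroup U] [Module k U] [AddCommGroup V] [Module k V] {τ : Representation k K U}
    {σ : Representation k K V} {f : U →ₗ[k] V} (hf : ∀ g v, f (τ g v) = σ g (f v)) (a : K → k)
    (v : U) : f (opOf τ a v) = opOf σ a (f v) := by
  simp only [opOf_apply, map_sum, map_smul, hf]

variable [Fintype (Subgroup.centralizer (P : Set G))]

/-- The extensions of the canonical character, as characters of the quotient by `P`. -/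
theorem exists_extension_family (hcard : Nat.card P = p)
    (hTN : T ≤ Subgroup.normalizer (P : Set G)) (hCT : Subgroup.centralizer (P : Set G) ≤ T)
    (PT : Subgroup T) [PT.Normal] (hPT : PT = P.subgroupOf T)
    {θ : IrrCharacter (Subgroup.centralizer (P : Set G))}
    (hθ : ∀ x : Subgroup.centralizer (P : Set G), (x : G) ∈ P →
      (θ : Subgroup.centralizer (P : Set G) → ℂ) x =
        (θ : Subgroup.centralizer (P : Set G) → ℂ) 1)
    (hinv : ∀ t ∈ T, ∀ c c' : Subgroup.centralizer (P : Set G), (c' : G) = t * c * t⁻¹ →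
      (θ : Subgroup.centralizer (P : Set G) → ℂ) c' = (θ : Subgroup.centralizer (P : Set G) → ℂ) c) :
    ∃ (ι : Type u) (_ : Fintype ι) (ψ : ι → IrrCharacter (T ⧸ PT)),
      Fintype.card ι = (Subgroup.centralizer (P : Set G)).relIndex T ∧ Function.Injective ψ ∧
      ∀ i (c : Subgroup.centralizer (P : Set G)),
        (ψ i : T ⧸ PT → ℂ) (QuotientGroup.mk (⟨c, hCT c.2⟩ : T)) =
          (θ : Subgroup.centralizer (P : Set G) → ℂ) c := by
  classical
  subst hPT
  let CT : Subgroup T := (Subgroup.centralizer (P : Set G)).subgroupOf T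
  haveI hCTn : CT.Normal := by
    have h := Subgroup.normalizerMonoidHom_ker (H := P)
    have hk : CT = (P.normalizerMonoidHom.comp (Subgroup.inclusion hTN)).ker := by
      ext t
      rw [MonoidHom.mem_ker, MonoidHom.comp_apply, ← MonoidHom.mem_ker, h, Subgroup.mem_subgroupOf,
        Subgroup.mem_subgroupOf, Subgroup.coe_inclusion]
    rw [hk]
    infer_instance
  haveI : IsCyclic (T ⧸ CT) := by
    haveI : IsCyclic P := isCyclic_of_prime_card hcard
    haveI : IsCyclic (MulAut P) := by
      haveI := Fact.mk (hcard ▸ (Fact.out : p.Prime) : (Nat.card P).Prime)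
      exact (IsCyclic.mulAutMulEquiv P).isCyclic.mpr inferInstance
    refine isCyclic_of_injective (QuotientGroup.lift CT
      (P.normalizerMonoidHom.comp (Subgroup.inclusion hTN)) fun t ht => ?_) ?_
    · rw [MonoidHom.mem_ker, MonoidHom.comp_apply, ← MonoidHom.mem_ker,
        Subgroup.normalizerMonoidHom_ker, Subgroup.mem_subgroupOf, Subgroup.coe_inclusion]
      exact ht
    · rw [injective_iff_map_eq_one]
      intro x
      induction x using QuotientGroup.induction_on with
      | H t =>
        intro ht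
        rw [QuotientGroup.lift_mk, MonoidHom.comp_apply, ← MonoidHom.mem_ker,
          Subgroup.normalizerMonoidHom_ker, Subgroup.mem_subgroupOf, Subgroup.coe_inclusion] at ht
        exact (QuotientGroup.eq_one_iff t).2 ht
  -- the character on `CT`
  let ι₀ : CT ≃* Subgroup.centralizer (P : Set G) := Subgroup.subgroupOfEquivOfLe hCT
  have hirrθ : IsIrrCharacter CT fun c => (θ : Subgroup.centralizer (P : Set G) → ℂ) (ι₀ c) :=
    isIrrCharacter_comp ι₀.toMonoidHom ι₀.surjective θ.2
  obtain ⟨d, ρ, hρirr, hρch, hρinv, -⟩ := CharsMore.exists_invariant_rep CT hirrθ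
    fun g n => hinv (g : G) g.2 (ι₀ n) (ι₀ (CharsMore.conjBy CT g n)) rfl
  obtain ⟨R, hR⟩ := CharsMore.repExtends_of_cyclic CT ρ hρinv
  -- `P` acts trivially
  have hCTmem : ∀ t : T, (t : G) ∈ P → t ∈ CT := fun t ht => (subgroupOf_le_center hcard ht).1
  have hPker : P.subgroupOf T ≤ MonoidHom.ker R := by
    intro t ht
    rw [MonoidHom.mem_ker]
    have htC := hCTmem t ht
    have hcomm : ∀ c : CT, ρ ⟨t, htC⟩ * ρ c = ρ c * ρ ⟨t, htC⟩ := fun c => by
      obtain ⟨h, hz⟩ := subgroupOf_le_center hcard ht
      have := Subgroup.mem_center_iff.1 hz (ι₀ c)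
      rw [← map_mul, ← map_mul]
      congr 1
      refine ι₀.injective ?_
      rw [map_mul, map_mul]
      exact this.symm
    obtain ⟨a, ha⟩ := CharsMore.schur_scalar ρ _ hcomm
    have h1 : ρ.character ⟨t, htC⟩ = ρ.character 1 := by
      rw [hρch]
      exact (hθ (ι₀ ⟨t, htC⟩) ht).trans (congrArg _ (map_one ι₀).symm)
    rw [show R t = ρ ⟨t, htC⟩ from hR ⟨t, htC⟩, ha]
    rw [Representation.character, ha, map_smul, smul_eq_mul, Representation.char_one,
      LinearMap.trace_one] at h1
    haveI := CharsMore.nontrivial_of_isIrreducible ρ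
    have hd : (Module.finrank ℂ (Fin d → ℂ) : ℂ) ≠ 0 :=
      Nat.cast_ne_zero.2 Module.finrank_pos.ne'
    rw [mul_eq_right₀ hd] at h1
    rw [h1, one_smul]
  let Rbar : Representation ℂ (T ⧸ P.subgroupOf T) (Fin d → ℂ) :=
    QuotientGroup.lift (P.subgroupOf T) R hPker
  have hRbar : ∀ t : T, Rbar (QuotientGroup.mk t) = R t := fun t => rfl
  haveI hRirr : Rbar.IsIrreducible := by
    haveI : Representation.IsIrreducible
        (Rbar.comp ((QuotientGroup.mk' (P.subgroupOf T)).comp CT.subtype)) := by
      rw [show (Rbar.comp ((QuotientGroup.mk' (P.subgroupOf T)).comp CT.subtype) :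
        Representation ℂ CT (Fin d → ℂ)) = ρ from MonoidHom.ext fun c => hR c]
      exact hρirr
    exact CharsMore.isIrreducible_of_comp ((QuotientGroup.mk' (P.subgroupOf T)).comp CT.subtype) Rbar
  have hψ0 : IsIrrCharacter (T ⧸ P.subgroupOf T) Rbar.character := isIrrCharacter_character _
  have hψ0C : ∀ c : Subgroup.centralizer (P : Set G),
      Rbar.character (QuotientGroup.mk (⟨c, hCT c.2⟩ : T)) =
        (θ : Subgroup.centralizer (P : Set G) → ℂ) c := fun c => by
    rw [Representation.character, hRbar, show R ⟨c, hCT c.2⟩ = ρ (ι₀.symm c) from hR (ι₀.symm c)]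
    show ρ.character (ι₀.symm c) = _
    simp only [hρch, MulEquiv.apply_symm_apply]
  -- the twists
  let π : T ⧸ P.subgroupOf T →* T ⧸ CT := QuotientGroup.map _ CT (MonoidHom.id T) fun t ht =>
    hCTmem t ht
  have hπ1 : ∀ t : T, π (QuotientGroup.mk t) = QuotientGroup.mk t := fun t => rfl
  let ψ : (T ⧸ CT →* ℂˣ) → IrrCharacter (T ⧸ P.subgroupOf T) := fun l =>
    ⟨_, isIrrCharacter_linear_mul (l.comp π) hψ0⟩
  haveI : Fintype (T ⧸ CT →* ℂˣ) := Fintype.ofFinite _
  letI : CommGroup (T ⧸ CT) := { (inferInstance : Group (T ⧸ CT)) with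
    mul_comm := (IsCyclic.commutative (α := T ⧸ CT)).is_comm.comm }
  have hcardι : Fintype.card (T ⧸ CT →* ℂˣ) = (Subgroup.centralizer (P : Set G)).relIndex T := by
    rw [← Nat.card_eq_fintype_card, card_monoidHom_units, (commutator_eq_bot_iff (T ⧸ CT)).2 inferInstance,
      Subgroup.index_bot]
    rfl
  refine ⟨T ⧸ CT →* ℂˣ, inferInstance, ψ, hcardι, fun l l' h => ?_, fun l c => ?_⟩
  · -- the sum of all twists has norm `e`
    by_contra hne
    obtain ⟨q₀, hq₀⟩ : ∃ q, l q ≠ l' q := by
      by_contra hall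
      simp only [not_exists, not_not] at hall
      exact hne (MonoidHom.ext hall)
    let S : T ⧸ P.subgroupOf T → ℂ := fun x =>
      ∑ m : T ⧸ CT →* ℂˣ, (ψ m : T ⧸ P.subgroupOf T → ℂ) x
    haveI : Fintype (T ⧸ P.subgroupOf T) := Fintype.ofFinite _
    haveI := irrFintype (T ⧸ P.subgroupOf T)
    have hsum : ∀ q : T ⧸ CT, q ≠ 1 → ∑ m : T ⧸ CT →* ℂˣ, (m q : ℂ) = 0 := by
      intro q hq
      haveI : NeZero (Monoid.exponent (T ⧸ CT) : ℂ) :=
        ⟨Nat.cast_ne_zero.mpr Monoid.exponent_ne_zero_of_finite⟩
      obtain ⟨m₀, hm₀⟩ := CommGroup.exists_apply_ne_one_of_hasEnoughRootsOfUnity (T ⧸ CT) ℂ hq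
      have h1 : (m₀ q : ℂ) * ∑ m : T ⧸ CT →* ℂˣ, (m q : ℂ) = ∑ m : T ⧸ CT →* ℂˣ, (m q : ℂ) := by
        rw [Finset.mul_sum]
        exact Fintype.sum_equiv (Equiv.mulLeft m₀) _ _ fun m => by simp
      have h2 : ((m₀ q : ℂ) - 1) * ∑ m : T ⧸ CT →* ℂˣ, (m q : ℂ) = 0 := by
        rw [sub_mul, h1, one_mul, sub_self]
      exact (mul_eq_zero.1 h2).resolve_left fun h => hm₀ (Units.ext (sub_eq_zero.1 h))
    -- twice a twist
    have hll : ∀ x, ((l (π x) : ℂ) - (l' (π x) : ℂ)) * Rbar.character x = 0 := fun x => by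
      have := congrFun (congrArg Subtype.val h) x
      have hx : (l (π x) : ℂ) * Rbar.character x = (l' (π x) : ℂ) * Rbar.character x := this
      rw [sub_mul, hx, sub_self]
    have hSl : classInner S (ψ l : T ⧸ P.subgroupOf T → ℂ) = 1 := by
      have hconj : ∀ x, S x * conj ((ψ l : T ⧸ P.subgroupOf T → ℂ) x) =
          if π x = 1 then (Fintype.card (T ⧸ CT →* ℂˣ) : ℂ) *
            (Rbar.character x * conj (Rbar.character x)) else 0 := by
        intro x
        show (∑ m : T ⧸ CT →* ℂˣ, (m (π x) : ℂ) * Rbar.character x) *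
          conj ((l (π x) : ℂ) * Rbar.character x) = _
        split_ifs with hx
        · simp only [hx, map_one, Units.val_one, one_mul, Finset.sum_const, Finset.card_univ,
            nsmul_eq_mul]
          ring
        · rw [← Finset.sum_mul, hsum _ hx, zero_mul, zero_mul]
      rw [inner_def, Finset.sum_congr rfl fun x _ => hconj x, ← Finset.sum_filter,
        ← Finset.mul_sum]
      have hθθ := inner_irr θ θ
      rw [if_pos rfl, inner_def, inv_mul_eq_one₀ (Chars.card_ne_zero _)] at hθθ
      -- both sides are sums over `T`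
      have hfib : ∀ F : T ⧸ P.subgroupOf T → ℂ,
          ∑ t : T, F (QuotientGroup.mk t) = (p : ℂ) * ∑ x : T ⧸ P.subgroupOf T, F x := by
        intro F
        rw [← Finset.sum_fiberwise univ (QuotientGroup.mk : T → T ⧸ P.subgroupOf T), Finset.mul_sum]
        refine Finset.sum_congr rfl fun x _ => ?_
        rw [Finset.sum_congr rfl fun t ht => show F (QuotientGroup.mk t) = F x by
            rw [(Finset.mem_filter.1 ht).2], Finset.sum_const, nsmul_eq_mul]
        congr 2
        rw [← Fintype.card_subtype, ← Nat.card_eq_fintype_card]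
        obtain ⟨t₀, rfl⟩ := QuotientGroup.mk_surjective x
        refine (Nat.card_congr ((Equiv.mulLeft t₀⁻¹).subtypeEquiv fun t => ?_)).trans
          ((Nat.card_congr (Subgroup.subgroupOfEquivOfLe
            fun v hv => hCT (subgroupOf_le_center hcard hv).1).toEquiv).trans hcard)
        rw [eq_comm, QuotientGroup.eq, Equiv.coe_mulLeft]
      have hT := hfib fun x => if π x = 1 then Rbar.character x * conj (Rbar.character x) else 0
      have hLHS : ∑ t : T, (if π (QuotientGroup.mk t) = 1 then
          Rbar.character (QuotientGroup.mk t) * conj (Rbar.character (QuotientGroup.mk t)) else 0) =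
          (Nat.card (Subgroup.centralizer (P : Set G)) : ℂ) := by
        rw [← Finset.sum_filter, hθθ]
        refine Finset.sum_nbij' (fun t => if ht : (t : G) ∈ Subgroup.centralizer (P : Set G) then
          ⟨t, ht⟩ else 1) (fun c => ⟨c, hCT c.2⟩) (fun t _ => mem_univ _) (fun c _ => ?_)
          (fun t ht => ?_) (fun c _ => ?_) (fun t ht => ?_)
        · refine mem_filter.2 ⟨mem_univ _, ?_⟩
          rw [hπ1, QuotientGroup.eq_one_iff]
          exact c.2
        · have ht' := (mem_filter.1 ht).2
          rw [hπ1, QuotientGroup.eq_one_iff] at ht'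
          simp only [dif_pos (show (t : G) ∈ Subgroup.centralizer (P : Set G) from ht')]
        · simp
        · have ht' := (mem_filter.1 ht).2
          rw [hπ1, QuotientGroup.eq_one_iff] at ht'
          rw [dif_pos (show (t : G) ∈ Subgroup.centralizer (P : Set G) from ht'), ← hψ0C]
      rw [hLHS, ← Finset.sum_filter] at hT
      have hTcard : (p : ℂ) * (Nat.card (T ⧸ P.subgroupOf T) : ℂ) =
          (Nat.card (Subgroup.centralizer (P : Set G)) : ℂ) * (Fintype.card (T ⧸ CT →* ℂˣ) : ℂ) := by
        rw [hcardι, Subgroup.relIndex, ← Nat.cast_mul, ← Nat.cast_mul]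
        congr 1
        have h1 := CT.card_mul_index
        have h2 := (P.subgroupOf T).card_mul_index
        rw [Nat.card_congr (Subgroup.subgroupOfEquivOfLe hCT).toEquiv] at h1
        rw [Nat.card_congr (Subgroup.subgroupOfEquivOfLe
          fun v hv => hCT (subgroupOf_le_center hcard hv).1).toEquiv, hcard] at h2
        rw [Subgroup.index_eq_card] at h2
        rw [h1, h2]
      have hQ : (Nat.card (T ⧸ P.subgroupOf T) : ℂ) ≠ 0 := Chars.card_ne_zero _
      have hp0 : (p : ℂ) ≠ 0 := Nat.cast_ne_zero.2 (Fact.out : p.Prime).ne_zero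
      rw [inv_mul_eq_one₀ hQ]
      refine mul_left_cancel₀ hp0 ?_
      rw [hTcard, hT]
      ring
    -- but it is at least two
    have hS : classInner S (ψ l : T ⧸ P.subgroupOf T → ℂ) =
        ((univ.filter fun m => ψ m = ψ l).card : ℂ) := by
      rw [show S = ∑ m : T ⧸ CT →* ℂˣ, (ψ m : T ⧸ P.subgroupOf T → ℂ) from
        funext fun x => by simp [S, Finset.sum_apply], Chars.inner_sum_left]
      simp only [inner_irr, Finset.sum_boole]
    rw [hS] at hSl
    have h2 : 1 < (univ.filter fun m => ψ m = ψ l).card :=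
      Finset.one_lt_card.2 ⟨l, by simp, l', by simp [h], hne⟩
    have h1 : (univ.filter fun m => ψ m = ψ l).card = 1 := by exact_mod_cast hSl
    omega
  · show (l (π (QuotientGroup.mk (⟨c, hCT c.2⟩ : T))) : ℂ) * Rbar.character _ = _
    rw [hπ1, (QuotientGroup.eq_one_iff (N := CT) (⟨c, hCT c.2⟩ : T)).2 c.2, map_one,
      Units.val_one, one_mul, hψ0C]

end CfsgLib.Modular
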