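import Mathlib.RepresentationTheory.Basic
import Mathlib.GroupTheory.Coset.Basic
import Mathlib.GroupTheory.Coset.Card
import Mathlib.GroupTheory.GroupAction.Quotient
import Mathlib.LinearAlgebra.FiniteDimensional.Basic

/-!
# Maps projective relative to the trivial subgroup, and sums over cosets
-/

set_option linter.unusedSectionVars false

namespace CfsgLib.Modular

variable {k : Type*} [Field k] {K : Type*} [Group K] [Fintype K]
  {U V W : Type*} [AddCommGroup U] [Module k U] [AddCommGroup V] [Module k V] [AddCommGroup W]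
  [Module k W] {τ : Representation k K U} {σ : Representation k K W} {ρ : Representation k K V}

/-- Conjugation of a linear map. -/
def cj (σ : Representation k K W) (ρ : Representation k K V) (g : K) :
    (V →ₗ[k] W) →ₗ[k] (V →ₗ[k] W) where
  toFun f := σ g ∘ₗ f ∘ₗ ρ g⁻¹
  map_add' f f' := by ext v; simp
  map_smul' c f := by ext v; simp

theorem cj_apply (g : K) (f : V →ₗ[k] W) (v : V) : cj σ ρ g f v = σ g (f (ρ g⁻¹ v)) := rfl

theorem rep_self_inv (g : K) (v : V) : ρ g (ρ g⁻¹ v) = v := by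
  have h := congrFun (congrArg DFunLike.coe (map_mul ρ g g⁻¹)) v
  rw [mul_inv_cancel, map_one] at h
  exact h.symm

theorem rep_inv_self (g : K) (v : V) : ρ g⁻¹ (ρ g v) = v := by
  simpa using rep_self_inv (ρ := ρ) g⁻¹ v

theorem cj_cj (g h : K) (f : V →ₗ[k] W) : cj σ ρ g (cj σ ρ h f) = cj σ ρ (g * h) f := by
  ext v; simp [cj_apply, map_mul, mul_inv_rev]

theorem cj_one (f : V →ₗ[k] W) : cj σ ρ 1 f = f := by ext v; simp [cj_apply]

theorem cj_comp (g : K) (b : W →ₗ[k] U) (a : V →ₗ[k] W) :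
    cj τ ρ g (b ∘ₗ a) = cj τ σ g b ∘ₗ cj σ ρ g a := by
  ext v; simp [cj_apply, rep_inv_self]

theorem cj_id (g : K) : cj ρ ρ g LinearMap.id = LinearMap.id := by
  ext v; simp [cj_apply, rep_self_inv]

variable (σ ρ) in
/-- An equivariant linear map. -/
def IsEquivar (f : V →ₗ[k] W) : Prop := ∀ g : K, cj σ ρ g f = f

theorem IsEquivar.apply {f : V →ₗ[k] W} (hf : IsEquivar σ ρ f) (g : K) (v : V) :
    f (ρ g v) = σ g (f v) := by
  conv_lhs => rw [← hf g]
  simp [cj_apply, rep_inv_self]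

theorem isEquivar_of_apply {f : V →ₗ[k] W} (hf : ∀ g v, f (ρ g v) = σ g (f v)) :
    IsEquivar σ ρ f := fun g => by
  ext v; rw [cj_apply, ← hf, rep_self_inv]

theorem IsEquivar.id : IsEquivar ρ ρ (LinearMap.id : V →ₗ[k] V) := fun g => cj_id g

theorem IsEquivar.add {f f' : V →ₗ[k] W} (hf : IsEquivar σ ρ f) (hf' : IsEquivar σ ρ f') :
    IsEquivar σ ρ (f + f') := fun g => by rw [map_add, hf g, hf' g]

theorem IsEquivar.sub {f f' : V →ₗ[k] W} (hf : IsEquivar σ ρ f) (hf' : IsEquivar σ ρ f') :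
    IsEquivar σ ρ (f - f') := fun g => by rw [map_sub, hf g, hf' g]

theorem IsEquivar.smul {f : V →ₗ[k] W} (hf : IsEquivar σ ρ f) (c : k) :
    IsEquivar σ ρ (c • f) := fun g => by rw [map_smul, hf g]

theorem IsEquivar.comp {b : W →ₗ[k] U} {a : V →ₗ[k] W} (hb : IsEquivar τ σ b)
    (ha : IsEquivar σ ρ a) : IsEquivar τ ρ (b ∘ₗ a) := fun g => by
  rw [cj_comp (σ := σ), hb g, ha g]

variable (σ ρ) in
/-- A map which is a trace from the trivial subgroup. -/
def IsProjMap (f : V →ₗ[k] W) : Prop := ∃ ψ : V →ₗ[k] W, f = ∑ g : K, cj σ ρ g ψ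

theorem IsProjMap.zero : IsProjMap σ ρ (0 : V →ₗ[k] W) := ⟨0, by simp⟩

theorem IsProjMap.add {f f' : V →ₗ[k] W} : IsProjMap σ ρ f → IsProjMap σ ρ f' →
    IsProjMap σ ρ (f + f') := by
  rintro ⟨a, rfl⟩ ⟨b, rfl⟩
  exact ⟨a + b, by simp [Finset.sum_add_distrib]⟩

theorem IsProjMap.smul {f : V →ₗ[k] W} (c : k) : IsProjMap σ ρ f → IsProjMap σ ρ (c • f) := by
  rintro ⟨a, rfl⟩
  exact ⟨c • a, by simp [Finset.smul_sum]⟩

theorem IsProjMap.neg {f : V →ₗ[k] W} (h : IsProjMap σ ρ f) : IsProjMap σ ρ (-f) := by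
  simpa using h.smul (-1 : k)

theorem IsProjMap.sub {f f' : V →ₗ[k] W} (h : IsProjMap σ ρ f) (h' : IsProjMap σ ρ f') :
    IsProjMap σ ρ (f - f') := by
  simpa [sub_eq_add_neg] using h.add h'.neg

theorem IsProjMap.sum {ι : Type*} (s : Finset ι) {f : ι → (V →ₗ[k] W)}
    (h : ∀ i ∈ s, IsProjMap σ ρ (f i)) : IsProjMap σ ρ (∑ i ∈ s, f i) :=
  Finset.sum_induction f (IsProjMap σ ρ) (fun _ _ => IsProjMap.add) IsProjMap.zero h

theorem IsProjMap.comp_left {b : W →ₗ[k] U} {a : V →ₗ[k] W} (hb : IsEquivar τ σ b) :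
    IsProjMap σ ρ a → IsProjMap τ ρ (b ∘ₗ a) := by
  rintro ⟨ψ, rfl⟩
  refine ⟨b ∘ₗ ψ, ?_⟩
  ext v
  simp [cj_apply, hb.apply]

theorem IsProjMap.comp_right {b : W →ₗ[k] U} {a : V →ₗ[k] W} (ha : IsEquivar σ ρ a) :
    IsProjMap τ σ b → IsProjMap τ ρ (b ∘ₗ a) := by
  rintro ⟨ψ, rfl⟩
  refine ⟨ψ ∘ₗ a, ?_⟩
  ext v
  simp [cj_apply, ha.apply]

theorem IsProjMap.isEquivar {f : V →ₗ[k] W} : IsProjMap σ ρ f → IsEquivar σ ρ f := by
  rintro ⟨ψ, rfl⟩ g
  rw [map_sum]
  simp only [cj_cj]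
  exact Fintype.sum_equiv (Equiv.mulLeft g) _ _ fun h => rfl

/-- An equivariant family over a free action sums to a projective map. -/
theorem isProjMap_of_free {I : Type*} [Fintype I] [MulAction K I]
    (hfree : ∀ (g : K) (x : I), g • x = x → g = 1) (F : I → (V →ₗ[k] W))
    (hF : ∀ (g : K) (x : I), F (g • x) = cj σ ρ g (F x)) : IsProjMap σ ρ (∑ x, F x) := by
  classical
  haveI := Fintype.ofFinite (MulAction.orbitRel.Quotient K I)
  refine ⟨∑ q : MulAction.orbitRel.Quotient K I, F q.out, ?_⟩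
  simp only [map_sum, ← hF]
  rw [Finset.sum_comm, ← Fintype.sum_prod_type']
  refine (Fintype.sum_bijective
    (fun a : MulAction.orbitRel.Quotient K I × K => a.2 • a.1.out) ⟨?_, ?_⟩ _ _ fun a => rfl).symm
  · rintro ⟨q, g⟩ ⟨q', g'⟩ h
    replace h : g • q.out = g' • q'.out := h
    obtain rfl : q = q' := by
      rw [← Quotient.out_eq q, ← Quotient.out_eq q']
      refine Quotient.sound (MulAction.orbitRel_apply.2 ⟨g⁻¹ * g', ?_⟩)
      show (g⁻¹ * g') • q'.out = q.out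
      rw [mul_smul, ← h, inv_smul_smul]
    have h2 : (g'⁻¹ * g) • q.out = q.out := by rw [mul_smul, h, inv_smul_smul]
    rw [inv_mul_eq_one.1 (hfree _ _ h2)]
  · intro x
    obtain ⟨g, hg⟩ := MulAction.orbitRel_apply.1 (Quotient.mk_out (s := MulAction.orbitRel K I) x)
    refine ⟨(Quotient.mk'' x, g⁻¹), ?_⟩
    show g⁻¹ • (Quotient.mk'' x : MulAction.orbitRel.Quotient K I).out = x
    rw [inv_smul_eq_iff]
    exact hg.symm

/-- The sum of the conjugates over the cosets of a subgroup. -/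
noncomputable def cosetSum (σ : Representation k K W) (ρ : Representation k K V) (P : Subgroup K)
    (f : V →ₗ[k] W) : V →ₗ[k] W :=
  haveI := Fintype.ofFinite (K ⧸ P)
  ∑ q : K ⧸ P, cj σ ρ q.out f

variable {P : Subgroup K} {f : V →ₗ[k] W}

theorem cj_out (hf : ∀ u ∈ P, cj σ ρ u f = f) (g : K) :
    cj σ ρ (QuotientGroup.mk g : K ⧸ P).out f = cj σ ρ g f := by
  obtain ⟨u, hu⟩ := QuotientGroup.mk_out_eq_mul P g
  rw [hu, ← cj_cj, hf u u.2]

theorem isEquivar_cosetSum (hf : ∀ u ∈ P, cj σ ρ u f = f) :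
    IsEquivar σ ρ (cosetSum σ ρ P f) := by
  intro g
  haveI := Fintype.ofFinite (K ⧸ P)
  rw [cosetSum, map_sum]
  refine Finset.sum_equiv (MulAction.toPerm g) (by simp) fun q _ => ?_
  rw [cj_cj]
  show _ = cj σ ρ (g • q).out f
  conv_rhs => rw [← QuotientGroup.out_eq' q]
  exact (cj_out hf _).symm

theorem cosetSum_comp_right {a : U →ₗ[k] V} (ha : IsEquivar ρ τ a) :
    cosetSum σ τ P (f ∘ₗ a) = cosetSum σ ρ P f ∘ₗ a := by
  haveI := Fintype.ofFinite (K ⧸ P)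
  ext v
  simp [cosetSum, cj_apply, ha.apply]

theorem cosetSum_comp_left {b : W →ₗ[k] U} (hb : IsEquivar τ σ b) :
    cosetSum τ ρ P (b ∘ₗ f) = b ∘ₗ cosetSum σ ρ P f := by
  haveI := Fintype.ofFinite (K ⧸ P)
  ext v
  simp [cosetSum, cj_apply, hb.apply]

/-- A projective map between modules with trivial action of a `p`-subgroup is zero. -/
theorem IsProjMap.eq_zero_of_trivial (hf : IsProjMap σ ρ f) (hP : (Nat.card P : k) = 0)
    (hρ : ∀ u ∈ P, ρ u = 1) (hσ : ∀ u ∈ P, σ u = 1) : f = 0 := by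
  obtain ⟨ψ, rfl⟩ := hf
  classical
  haveI := Fintype.ofFinite (K ⧸ P)
  have hfix : ∀ u ∈ P, cj σ ρ u ψ = ψ := fun u hu => by
    ext v; simp [cj_apply, hσ u hu, hρ u⁻¹ (P.inv_mem hu)]
  rw [← Finset.sum_fiberwise Finset.univ (QuotientGroup.mk : K → K ⧸ P) fun g => cj σ ρ g ψ]
  refine Finset.sum_eq_zero fun q _ => ?_
  rw [Finset.sum_congr rfl fun g hg =>
    show cj σ ρ g ψ = cj σ ρ q.out ψ by rw [← cj_out hfix g, (Finset.mem_filter.1 hg).2],
    Finset.sum_const, ← Fintype.card_subtype, ← Nat.card_eq_fintype_card]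
  have hcard : Nat.card {g : K // (QuotientGroup.mk g : K ⧸ P) = q} = Nat.card P := by
    obtain ⟨g₀, rfl⟩ := QuotientGroup.mk_surjective q
    exact Nat.card_congr ((Equiv.mulLeft g₀⁻¹).subtypeEquiv fun g => by
      rw [QuotientGroup.eq, Equiv.coe_mulLeft, ← inv_mem_iff (x := g₀⁻¹ * g), mul_inv_rev, inv_inv])
  rw [hcard, ← Nat.cast_smul_eq_nsmul k, hP, zero_smul]

end CfsgLib.Modular
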